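import Cfsg.Agent.H24.MorChk

/-! Embeddings of root data into E8 and F4 (checked tables). -/

namespace H24

set_option maxRecDepth 100000

def embE6 : MorTab where
  p := 0
  φ := 0xccc2bcb9b8b2afaeabaaa9a6a5a4a3a29c9998959493908f8e8d8a8988878483827f7e7b7471706d6c6b686766656261605f5c5b5a5756534d4c4b4a4946454441403d3736332d23
  ψ := 0x4700000000000000000046000000000045000044430000000000420000414000003f3e3d00003c3b3a3938000000000037000036350000343332000031302f2e00002d2c2b2a00002928270000262500002400000000000023000022210000201f1e00001d1c1b1a00001918171600001514130000121100001000000000000f0e0d0c0b00000a09080000070600000500000000000403000002000000000001000000000000000000000000000000000000000000000000000000000000000000000000000000000000000000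
  ε := 0x0
  e := 0x0

theorem embE6_r0 : embE6.chkRows tabE6 tabE8 0 24 = true := by decide +kernel
theorem embE6_r1 : embE6.chkRows tabE6 tabE8 24 24 = true := by decide +kernel
theorem embE6_r2 : embE6.chkRows tabE6 tabE8 48 24 = true := by decide +kernel
theorem embE6_chk : embE6.Chk tabE6 tabE8 := MorTab.chk_of_rows (Or.inl rfl) 24 (by decide) fun j hj => by
  change j * 24 < 72 at hj
  have : j < 3 := by omega
  interval_cases j
  exacts [embE6_r0, embE6_r1, embE6_r2]

def embE7 : MorTab where
  p := 0
  φ := 0xe2dbd6d2cfcdccc8c5c3c2bfbdbcbab9b8b5b3b2b0afaeacabaaa9a7a6a5a4a3a29f9d9c9a99989695949391908f8e8d8b8a89888785848382807f7e7c7b7976747371706f6d6c6b6a68676665646261605f5e5c5b5a595756555352504d4c4b4a49484645444341403f3d3c3a3736353332302d2c2a272322201d19140d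
  ψ := 0x7d0000000000007c000000007b0000007a00007900787700000076000075007473000072007170006f6e6d00006c006b6a006968670066656463006261605f5e5d00005c005b5a005958570056555453005251504f4e004d4c4b4a49004847464500444342004140003f00003e003d3c003b3a390038373635003433323130002f2e2d2c2b002a2928270026252400232200210000201f1e1d1c1b001a1918170016151400131200110000100f0e000d0c000b00000a090008000007000000060500040000030000000200000000010000000000000000000000000000000000000000
  ε := 0x0
  e := 0x0

theorem embE7_r0 : embE7.chkRows tabE7 tabE8 0 21 = true := by decide +kernel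
theorem embE7_r1 : embE7.chkRows tabE7 tabE8 21 21 = true := by decide +kernel
theorem embE7_r2 : embE7.chkRows tabE7 tabE8 42 21 = true := by decide +kernel
theorem embE7_r3 : embE7.chkRows tabE7 tabE8 63 21 = true := by decide +kernel
theorem embE7_r4 : embE7.chkRows tabE7 tabE8 84 21 = true := by decide +kernel
theorem embE7_r5 : embE7.chkRows tabE7 tabE8 105 21 = true := by decide +kernel
theorem embE7_chk : embE7.Chk tabE7 tabE8 := MorTab.chk_of_rows (Or.inl rfl) 21 (by decide) fun j hj => by
  change j * 21 < 126 at hj
  have : j < 6 := by omega
  interval_cases j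
  exacts [embE7_r0, embE7_r1, embE7_r2, embE7_r3, embE7_r4, embE7_r5]

def embD4 : MorTab where
  p := 0
  φ := 0x9894938f8e8d89888382877e71686d6c67666261605c5b57
  ψ := 0x17000000161500000014131200000011100d0000000f0e0000000c0000000000000000000000000b00000009080000000a0706000000050403000000020100000000000000000000000000000000000000000000000000000000000000000000000000000000000000000000000000000000000000000000000000000000000000000000000000000000000000000000000000000000000000
  ε := 0x300c0
  e := 0x0

theorem embD4_r0 : embD4.chkRows tabD4 tabE8 0 24 = true := by decide +kernel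
theorem embD4_chk : embD4.Chk tabD4 tabE8 := MorTab.chk_of_rows (Or.inl rfl) 24 (by decide) fun j hj => by
  change j * 24 < 24 at hj
  have : j < 1 := by omega
  interval_cases j
  exacts [embD4_r0]

def embB2 : MorTab where
  p := 0
  φ := 0x1e1c1b1916141311
  ψ := 0x7000605000400000300020100000000000000000000000000000000000000
  ε := 0x0
  e := 0x0

theorem embB2_r0 : embB2.chkRows tabB2 tabF4 0 8 = true := by decide +kernel
theorem embB2_chk : embB2.Chk tabB2 tabF4 := MorTab.chk_of_rows (Or.inl rfl) 8 (by decide) fun j hj => by
  change j * 8 < 8 at hj
  have : j < 1 := by omega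
  interval_cases j
  exacts [embB2_r0]

end H24
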