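import Cfsg.Agent.H24.Cert

/-! Certificates for the individual types. -/

set_option maxRecDepth 100000

namespace H24
open Cfsg.Lie Finset

/-- matrix from a list of rows -/
def lm (L : List (List ℤ)) {n m : ℕ} (i : Fin n) (j : Fin m) : ℤ := (L.getD i []).getD j 0

theorem poinG2 (q : ℕ) : tabG2_chk.rsys.PJ Set.univ q = ([[1, 1, 1, 1, 1, 1], [1, 1]].map fun a => evalL a q).prod :=
  tabG2_chk.poin_univ (J := 3) [(9, 0x1020300000405060000, 2, [1, 1, 1, 1, 1, 1]),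
    (1, 0x102, 0, [1, 1])]
    (by decide +kernel) (by decide +kernel) q

theorem poinG2' (q : ℕ) (hq : 0 < q) : (q - 1) ^ 2 * tabG2_chk.rsys.PJ Set.univ q = (q ^ 2 - 1) * (q ^ 6 - 1) := by
  rw [poinG2]
  simp only [evalL, List.map_cons, List.map_nil, List.prod_cons, List.prod_nil, List.foldr_cons, List.foldr_nil]
  zify [hq, Nat.one_le_pow 2 q hq, Nat.one_le_pow 6 q hq]
  ring

theorem cardWG2 : Nat.card tabG2_chk.rsys.W = 12 := by
  rw [← RS.WJ_univ, ← RS.PJ_one, poinG2]; rfl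

theorem coxG2 : ∃ e : CoxeterMatrix.G₂.Group ≃* tabG2_chk.rsys.W, ∀ i, e (CoxeterMatrix.G₂.simple i) = tabG2_chk.rsys.sW i :=
  tabG2_chk.coxeter CoxeterMatrix.G₂ (by decide +kernel)

theorem ordG2 : orderOf (tabG2_chk.rsys.wd (List.finRange 2)) = 6 :=
  tabG2_chk.ord_spec _ (by decide +kernel)

theorem connG2 : tabG2.chkConn = true := by decide +kernel

theorem thetaG2 (F : Type*) [Field F] :
    Nonempty ((tabG2_chk.rsys.theta F).ker ≃* (Fin 0 → (powMonoidHom 1 : Fˣ →* Fˣ).ker)) ∧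
    ∀ c, c ∈ (tabG2_chk.rsys.theta F).ker ↔
      ∃ z : Fin 0 → Fˣ, (∀ k, z k ^ 1 = 1) ∧ c = fun i => ∏ k, z k ^ lm [] k i :=
  card_ker_theta _ F 1 _ (![] : Fin 0 → Fin 2) (lm [[2, 3], [1, 2]]) (lm [])
    (by decide +kernel) (by decide +kernel) (by decide +kernel) (by decide +kernel)

theorem cardThetaG2 (F : Type*) [Field F] [Fintype F] : Nat.card (tabG2_chk.rsys.theta F).ker = 1 := by
  obtain ⟨e⟩ := (thetaG2 F).1
  rw [Nat.card_congr e.toEquiv, Nat.card_fun, card_pow_ker]; simp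

theorem poinB2 (q : ℕ) : tabB2_chk.rsys.PJ Set.univ q = ([[1, 1, 1, 1], [1, 1]].map fun a => evalL a q).prod :=
  tabB2_chk.poin_univ (J := 3) [(6, 0x1020000030400, 1, [1, 1, 1, 1]),
    (3, 0x1000002, 0, [1, 1])]
    (by decide +kernel) (by decide +kernel) q

theorem poinB2' (q : ℕ) (hq : 0 < q) : (q - 1) ^ 2 * tabB2_chk.rsys.PJ Set.univ q = (q ^ 2 - 1) * (q ^ 4 - 1) := by
  rw [poinB2]
  simp only [evalL, List.map_cons, List.map_nil, List.prod_cons, List.prod_nil, List.foldr_cons, List.foldr_nil]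
  zify [hq, Nat.one_le_pow 2 q hq, Nat.one_le_pow 4 q hq]
  ring

theorem cardWB2 : Nat.card tabB2_chk.rsys.W = 8 := by
  rw [← RS.WJ_univ, ← RS.PJ_one, poinB2]; rfl

theorem coxB2 : ∃ e : (CoxeterMatrix.B 2).Group ≃* tabB2_chk.rsys.W, ∀ i, e ((CoxeterMatrix.B 2).simple i) = tabB2_chk.rsys.sW i :=
  tabB2_chk.coxeter (CoxeterMatrix.B 2) (by decide +kernel)

theorem ordB2 : orderOf (tabB2_chk.rsys.wd (List.finRange 2)) = 4 :=
  tabB2_chk.ord_spec _ (by decide +kernel)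

theorem connB2 : tabB2.chkConn = true := by decide +kernel

theorem thetaB2 (F : Type*) [Field F] :
    Nonempty ((tabB2_chk.rsys.theta F).ker ≃* (Fin 1 → (powMonoidHom 2 : Fˣ →* Fˣ).ker)) ∧
    ∀ c, c ∈ (tabB2_chk.rsys.theta F).ker ↔
      ∃ z : Fin 1 → Fˣ, (∀ k, z k ^ 2 = 1) ∧ c = fun i => ∏ k, z k ^ lm [[1, 0]] k i :=
  card_ker_theta _ F 2 _ (![(0 : Fin 2)] : Fin 1 → Fin 2) (lm [[0, 1], [0, 1]]) (lm [[2, 1]])
    (by decide +kernel) (by decide +kernel) (by decide +kernel) (by decide +kernel)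

theorem cardThetaB2 (F : Type*) [Field F] [Fintype F] : Nat.card (tabB2_chk.rsys.theta F).ker = Nat.gcd 2 (Fintype.card F - 1) := by
  obtain ⟨e⟩ := (thetaB2 F).1
  rw [Nat.card_congr e.toEquiv, Nat.card_fun, card_pow_ker]; simp

theorem poinD4 (q : ℕ) : tabD4_chk.rsys.PJ Set.univ q = ([[1, 1, 3, 3, 4, 4, 3, 3, 1, 1], [1, 3, 3, 1]].map fun a => evalL a q).prod :=
  tabD4_chk.poin_univ (J := 15) [(23, 0x1020303040503040405050506060607070806070808090a, 13, [1, 1, 3, 3, 4, 4, 3, 3, 1, 1]),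
    (9, 0x1020203000203030400, 0, [1, 3, 3, 1])]
    (by decide +kernel) (by decide +kernel) q

theorem poinD4' (q : ℕ) (hq : 0 < q) : (q - 1) ^ 4 * tabD4_chk.rsys.PJ Set.univ q = (q ^ 2 - 1) * (q ^ 4 - 1) * (q ^ 4 - 1) * (q ^ 6 - 1) := by
  rw [poinD4]
  simp only [evalL, List.map_cons, List.map_nil, List.prod_cons, List.prod_nil, List.foldr_cons, List.foldr_nil]
  zify [hq, Nat.one_le_pow 2 q hq, Nat.one_le_pow 4 q hq, Nat.one_le_pow 6 q hq]
  ring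

theorem cardWD4 : Nat.card tabD4_chk.rsys.W = 192 := by
  rw [← RS.WJ_univ, ← RS.PJ_one, poinD4]; rfl

theorem coxD4 : ∃ e : coxeterD4.Group ≃* tabD4_chk.rsys.W, ∀ i, e (coxeterD4.simple i) = tabD4_chk.rsys.sW i :=
  tabD4_chk.coxeter coxeterD4 (by decide +kernel)

theorem ordD4 : orderOf (tabD4_chk.rsys.wd (List.finRange 4)) = 6 :=
  tabD4_chk.ord_spec _ (by decide +kernel)

theorem connD4 : tabD4.chkConn = true := by decide +kernel

theorem perfD4 : tabD4.chkPerf = true := by decide +kernel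

theorem thetaD4 (F : Type*) [Field F] :
    Nonempty ((tabD4_chk.rsys.theta F).ker ≃* (Fin 2 → (powMonoidHom 2 : Fˣ →* Fˣ).ker)) ∧
    ∀ c, c ∈ (tabD4_chk.rsys.theta F).ker ↔
      ∃ z : Fin 2 → Fˣ, (∀ k, z k ^ 2 = 1) ∧ c = fun i => ∏ k, z k ^ lm [[1, 0, 0, 1], [0, 0, 1, 1]] k i :=
  card_ker_theta _ F 2 _ (![(0 : Fin 4), (2 : Fin 4)] : Fin 2 → Fin 4) (lm [[0, 1, 0, -1], [0, 2, 0, -1], [0, 1, 0, -1], [0, 1, 0, 0]]) (lm [[2, 2, 1, 1], [1, 2, 2, 1]])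
    (by decide +kernel) (by decide +kernel) (by decide +kernel) (by decide +kernel)

theorem cardThetaD4 (F : Type*) [Field F] [Fintype F] : Nat.card (tabD4_chk.rsys.theta F).ker = Nat.gcd 2 (Fintype.card F - 1) ^ 2 := by
  obtain ⟨e⟩ := (thetaD4 F).1
  rw [Nat.card_congr e.toEquiv, Nat.card_fun, card_pow_ker]; simp

theorem poinF4 (q : ℕ) : tabF4_chk.rsys.PJ Set.univ q = ([[1, 1, 1, 1, 2, 2, 2, 2, 2, 2, 2, 2, 1, 1, 1, 1], [1, 1, 2, 2, 2, 2, 1, 1], [1, 2, 1]].map fun a => evalL a q).prod :=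
  tabF4_chk.poin_univ (J := 15) [(44, 0x10000000203040505060708000000060708000000000000090a0b000000090a0b0c0c0d0e0f00000010000000, 14, [1, 1, 1, 1, 2, 2, 2, 2, 2, 2, 2, 2, 1, 1, 1, 1]),
    (32, 0x10203000000030404050506000000060708000000000000000000000000000000, 10, [1, 1, 2, 2, 2, 2, 1, 1]),
    (12, 0x1020203000000000000000000, 0, [1, 2, 1])]
    (by decide +kernel) (by decide +kernel) q

theorem poinF4' (q : ℕ) (hq : 0 < q) : (q - 1) ^ 4 * tabF4_chk.rsys.PJ Set.univ q = (q ^ 2 - 1) * (q ^ 6 - 1) * (q ^ 8 - 1) * (q ^ 12 - 1) := by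
  rw [poinF4]
  simp only [evalL, List.map_cons, List.map_nil, List.prod_cons, List.prod_nil, List.foldr_cons, List.foldr_nil]
  zify [hq, Nat.one_le_pow 2 q hq, Nat.one_le_pow 6 q hq, Nat.one_le_pow 8 q hq, Nat.one_le_pow 12 q hq]
  ring

theorem cardWF4 : Nat.card tabF4_chk.rsys.W = 1152 := by
  rw [← RS.WJ_univ, ← RS.PJ_one, poinF4]; rfl

theorem coxF4 : ∃ e : CoxeterMatrix.F₄.Group ≃* tabF4_chk.rsys.W, ∀ i, e (CoxeterMatrix.F₄.simple i) = tabF4_chk.rsys.sW i :=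
  tabF4_chk.coxeter CoxeterMatrix.F₄ (by decide +kernel)

theorem ordF4 : orderOf (tabF4_chk.rsys.wd (List.finRange 4)) = 12 :=
  tabF4_chk.ord_spec _ (by decide +kernel)

theorem connF4 : tabF4.chkConn = true := by decide +kernel

theorem perfF4 : tabF4.chkPerf = true := by decide +kernel

theorem thetaF4 (F : Type*) [Field F] :
    Nonempty ((tabF4_chk.rsys.theta F).ker ≃* (Fin 0 → (powMonoidHom 1 : Fˣ →* Fˣ).ker)) ∧
    ∀ c, c ∈ (tabF4_chk.rsys.theta F).ker ↔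
      ∃ z : Fin 0 → Fˣ, (∀ k, z k ^ 1 = 1) ∧ c = fun i => ∏ k, z k ^ lm [] k i :=
  card_ker_theta _ F 1 _ (![] : Fin 0 → Fin 4) (lm [[2, 3, 4, 2], [3, 6, 8, 4], [2, 4, 6, 3], [1, 2, 3, 2]]) (lm [])
    (by decide +kernel) (by decide +kernel) (by decide +kernel) (by decide +kernel)

theorem cardThetaF4 (F : Type*) [Field F] [Fintype F] : Nat.card (tabF4_chk.rsys.theta F).ker = 1 := by
  obtain ⟨e⟩ := (thetaF4 F).1
  rw [Nat.card_congr e.toEquiv, Nat.card_fun, card_pow_ker]; simp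

theorem poinE6 (q : ℕ) : tabE6_chk.rsys.PJ Set.univ q = ([[1, 1, 1, 2, 3, 3, 4, 5, 5, 5, 6, 6, 5, 5, 5, 4, 3, 3, 2, 1, 1, 1], [1, 2, 3, 4, 5, 5, 4, 3, 2, 1], [1, 2, 3, 3, 2, 1], [1, 1]].map fun a => evalL a q).prod :=
  tabE6_chk.poin_univ (J := 63) [(71, 0x1020304050405060607080708090a0b05060707080908090a0b08090a0b090a0b0a0b0b0c0c0d0c0d0e0c0d0e0f0c0d0e0f0e0f101011120c0d0e0f100f10111112131213141516, 61, [1, 1, 1, 2, 3, 3, 4, 5, 5, 5, 6, 6, 5, 5, 5, 4, 3, 3, 2, 1, 1, 1]),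
    (60, 0x10203040500000000000000000000020304050304050405050606070607080607080900000000000000000000060708090a0000000000000000000000, 28, [1, 2, 3, 4, 5, 5, 4, 3, 2, 1]),
    (44, 0x10203000203000300000400040500040506000000000000000000000000000000000000000000000000000000, 8, [1, 2, 3, 3, 2, 1]),
    (2, 0x10200, 0, [1, 1])]
    (by decide +kernel) (by decide +kernel) q

theorem poinE6' (q : ℕ) (hq : 0 < q) : (q - 1) ^ 6 * tabE6_chk.rsys.PJ Set.univ q = (q ^ 2 - 1) * (q ^ 5 - 1) * (q ^ 6 - 1) * (q ^ 8 - 1) * (q ^ 9 - 1) * (q ^ 12 - 1) := by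
  rw [poinE6]
  simp only [evalL, List.map_cons, List.map_nil, List.prod_cons, List.prod_nil, List.foldr_cons, List.foldr_nil]
  zify [hq, Nat.one_le_pow 2 q hq, Nat.one_le_pow 5 q hq, Nat.one_le_pow 6 q hq, Nat.one_le_pow 8 q hq, Nat.one_le_pow 9 q hq, Nat.one_le_pow 12 q hq]
  ring

theorem cardWE6 : Nat.card tabE6_chk.rsys.W = 51840 := by
  rw [← RS.WJ_univ, ← RS.PJ_one, poinE6]; rfl

theorem coxE6 : ∃ e : CoxeterMatrix.E₆.Group ≃* tabE6_chk.rsys.W, ∀ i, e (CoxeterMatrix.E₆.simple i) = tabE6_chk.rsys.sW i :=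
  tabE6_chk.coxeter CoxeterMatrix.E₆ (by decide +kernel)

theorem ordE6 : orderOf (tabE6_chk.rsys.wd (List.finRange 6)) = 12 :=
  tabE6_chk.ord_spec _ (by decide +kernel)

theorem connE6 : tabE6.chkConn = true := by decide +kernel

theorem perfE6 : tabE6.chkPerf = true := by decide +kernel

theorem thetaE6 (F : Type*) [Field F] :
    Nonempty ((tabE6_chk.rsys.theta F).ker ≃* (Fin 1 → (powMonoidHom 3 : Fˣ →* Fˣ).ker)) ∧
    ∀ c, c ∈ (tabE6_chk.rsys.theta F).ker ↔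
      ∃ z : Fin 1 → Fˣ, (∀ k, z k ^ 3 = 1) ∧ c = fun i => ∏ k, z k ^ lm [[1, 0, 2, 0, 1, 2]] k i :=
  card_ker_theta _ F 3 _ (![(0 : Fin 6)] : Fin 1 → Fin 6) (lm [[0, 1, -1, 2, 0, -2], [0, 2, 0, 3, 1, -1], [0, 2, 0, 4, 1, -2], [0, 3, 0, 6, 2, -2], [0, 2, 0, 4, 2, -1], [0, 1, 0, 2, 1, 0]]) (lm [[4, 3, 5, 6, 4, 2]])
    (by decide +kernel) (by decide +kernel) (by decide +kernel) (by decide +kernel)

theorem cardThetaE6 (F : Type*) [Field F] [Fintype F] : Nat.card (tabE6_chk.rsys.theta F).ker = Nat.gcd 3 (Fintype.card F - 1) := by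
  obtain ⟨e⟩ := (thetaE6 F).1
  rw [Nat.card_congr e.toEquiv, Nat.card_fun, card_pow_ker]; simp

theorem poinE7 (q : ℕ) : tabE7_chk.rsys.PJ Set.univ q = ([[1, 1, 1, 1, 2, 2, 3, 3, 4, 4, 5, 5, 6, 6, 6, 6, 7, 7, 6, 6, 6, 6, 5, 5, 4, 4, 3, 3, 2, 2, 1, 1, 1, 1], [1, 1, 2, 2, 4, 4, 5, 5, 6, 6, 5, 5, 4, 4, 2, 2, 1, 1], [1, 1, 3, 3, 4, 4, 3, 3, 1, 1], [1, 3, 3, 1], [1, 1]].map fun a => evalL a q).prod :=
  tabE7_chk.poin_univ (J := 127) [(125, 0x102030405060705060708070809090a0b08090a0a0b0c0b0c0d0e0c0d0e0f1011090a0b0b0c0d0c0d0e0f0d0e0f10110d0e0f10110e0f10110f101110111112121312131412131415121314151612131415161415161716171818191a12131415161715161718171819191a1b18191a1a1b1c1b1c1d1e1c1d1e1f202122, 126, [1, 1, 1, 1, 2, 2, 3, 3, 4, 4, 5, 5, 6, 6, 6, 6, 7, 7, 6, 6, 6, 6, 5, 5, 4, 4, 3, 3, 2, 2, 1, 1, 1, 1]),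
    (92, 0x102030304050405060705060708090506070809060708090708090809090a0a0b0a0b0c0a0b0c0d0a0b0c0d0e0a0b0c0d0e0c0d0e0f0e0f10101112000000000000000000000000000000000000000000000000000000000000000000, 94, [1, 1, 2, 2, 4, 4, 5, 5, 6, 6, 5, 5, 4, 4, 2, 2, 1, 1]),
    (87, 0x10000020300000304050000030405000004050000050000000000000600000607000006070800000607080000080900000a0000000000000000000000000000000000000000000000000000000000000000000000000000, 86, [1, 1, 3, 3, 4, 4, 3, 3, 1, 1]),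
    (21, 0x1020203000002030304000000000000000000000000, 2, [1, 3, 3, 1]),
    (7, 0x100000002000000, 0, [1, 1])]
    (by decide +kernel) (by decide +kernel) q

theorem poinE7' (q : ℕ) (hq : 0 < q) : (q - 1) ^ 7 * tabE7_chk.rsys.PJ Set.univ q = (q ^ 2 - 1) * (q ^ 6 - 1) * (q ^ 8 - 1) * (q ^ 10 - 1) * (q ^ 12 - 1) * (q ^ 14 - 1) * (q ^ 18 - 1) := by
  rw [poinE7]
  simp only [evalL, List.map_cons, List.map_nil, List.prod_cons, List.prod_nil, List.foldr_cons, List.foldr_nil]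
  zify [hq, Nat.one_le_pow 2 q hq, Nat.one_le_pow 6 q hq, Nat.one_le_pow 8 q hq, Nat.one_le_pow 10 q hq, Nat.one_le_pow 12 q hq, Nat.one_le_pow 14 q hq, Nat.one_le_pow 18 q hq]
  ring

theorem cardWE7 : Nat.card tabE7_chk.rsys.W = 2903040 := by
  rw [← RS.WJ_univ, ← RS.PJ_one, poinE7]; rfl

theorem coxE7 : ∃ e : CoxeterMatrix.E₇.Group ≃* tabE7_chk.rsys.W, ∀ i, e (CoxeterMatrix.E₇.simple i) = tabE7_chk.rsys.sW i :=
  tabE7_chk.coxeter CoxeterMatrix.E₇ (by decide +kernel)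

theorem ordE7 : orderOf (tabE7_chk.rsys.wd (List.finRange 7)) = 18 :=
  tabE7_chk.ord_spec _ (by decide +kernel)

theorem connE7 : tabE7.chkConn = true := by decide +kernel

theorem perfE7 : tabE7.chkPerf = true := by decide +kernel

theorem thetaE7 (F : Type*) [Field F] :
    Nonempty ((tabE7_chk.rsys.theta F).ker ≃* (Fin 1 → (powMonoidHom 2 : Fˣ →* Fˣ).ker)) ∧
    ∀ c, c ∈ (tabE7_chk.rsys.theta F).ker ↔
      ∃ z : Fin 1 → Fˣ, (∀ k, z k ^ 2 = 1) ∧ c = fun i => ∏ k, z k ^ lm [[0, 1, 0, 0, 1, 0, 1]] k i :=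
  card_ker_theta _ F 2 _ (![(1 : Fin 7)] : Fin 1 → Fin 7) (lm [[2, 0, 3, 4, 1, 2, -1], [2, 0, 4, 6, 1, 3, -2], [3, 0, 6, 8, 2, 4, -2], [4, 0, 8, 12, 3, 6, -3], [3, 0, 6, 9, 3, 5, -2], [2, 0, 4, 6, 2, 4, -1], [1, 0, 2, 3, 1, 2, 0]]) (lm [[4, 7, 8, 12, 9, 6, 3]])
    (by decide +kernel) (by decide +kernel) (by decide +kernel) (by decide +kernel)

theorem cardThetaE7 (F : Type*) [Field F] [Fintype F] : Nat.card (tabE7_chk.rsys.theta F).ker = Nat.gcd 2 (Fintype.card F - 1) := by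
  obtain ⟨e⟩ := (thetaE7 F).1
  rw [Nat.card_congr e.toEquiv, Nat.card_fun, card_pow_ker]; simp

theorem poinE8 (q : ℕ) : tabE8_chk.rsys.PJ Set.univ q = ([[1, 1, 1, 1, 1, 1, 2, 2, 2, 2, 3, 3, 4, 4, 4, 4, 5, 5, 6, 6, 6, 6, 7, 7, 7, 7, 7, 7, 8, 8, 7, 7, 7, 7, 7, 7, 6, 6, 6, 6, 5, 5, 4, 4, 4, 4, 3, 3, 2, 2, 2, 2, 1, 1, 1, 1, 1, 1], [1, 1, 1, 1, 2, 2, 3, 3, 4, 4, 5, 5, 6, 6, 6, 6, 7, 7, 6, 6, 6, 6, 5, 5, 4, 4, 3, 3, 2, 2, 1, 1, 1, 1], [1, 1, 2, 2, 4, 4, 5, 5, 6, 6, 5, 5, 4, 4, 2, 2, 1, 1], [1, 1, 3, 3, 4, 4, 3, 3, 1, 1], [1, 3, 3, 1], [1, 1]].map fun a => evalL a q).prod :=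
  tabE8_chk.poin_univ (J := 255) [(239, 0x10203040506070708090a0b0c0d08090a0b0c0d0e0b0c0d0e0f0d0e0f100f10111112130e0f10111011121213141112131314151415161712131414151615161718161718191a1718191a1b1c1d131415151617161718191718191a1b18191a1b1c1d18191a1b1c1d191a1b1c1d1a1b1c1d1b1c1d1c1d1d1e1e1f1e1f201e1f20211e1f2021221e1f202122231e1f202122232021222324222324252425262627281e1f20212223242122232425232425262526272728292425262726272828292a272829292a2b2a2b2c2d28292a2a2b2c2b2c2d2e2c2d2e2f302d2e2f303132332e2f30313233343435363738393a, 127, [1, 1, 1, 1, 1, 1, 2, 2, 2, 2, 3, 3, 4, 4, 4, 4, 5, 5, 6, 6, 6, 6, 7, 7, 7, 7, 7, 7, 8, 8, 7, 7, 7, 7, 7, 7, 6, 6, 6, 6, 5, 5, 4, 4, 4, 4, 3, 3, 2, 2, 2, 2, 1, 1, 1, 1, 1, 1]),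
    (226, 0x1000000000000020000000003000000040000050006070000000500000600070800000700080900090a0b00000800090a000a0b0c000b0c0d0e000c0d0e0f1011000009000a0b000b0c0d000c0d0e0f000d0e0f1011000d0e0f1011000e0f1011000f10110010110011000012001213001213140012131415001213141516001213141516001415161700161718001819001a000012131415161700151617180017181900191a001b000018191a001a1b001c00001b1c001d00001e0000001c1d001e00001f0000002000000000210000000000002200000000000000000000000000, 126, [1, 1, 1, 1, 2, 2, 3, 3, 4, 4, 5, 5, 6, 6, 6, 6, 7, 7, 6, 6, 6, 6, 5, 5, 4, 4, 3, 3, 2, 2, 1, 1, 1, 1]),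
    (159, 0x1000203000304050004050607000506070809000506070809000607080900070809000809000900000a000a0b000a0b0c000a0b0c0d000a0b0c0d0e000a0b0c0d0e000c0d0e0f000e0f1000101100120000000000000000000000000000000000000000000000000000000000000000000000000000000000000000000000000000000000000000000000000000000000000000000000000000000000000000, 94, [1, 1, 2, 2, 4, 4, 5, 5, 6, 6, 5, 5, 4, 4, 2, 2, 1, 1]),
    (152, 0x1000000020300000003040500000003040500000004050000000500000000000000000000000006000000060700000006070800000006070800000008090000000a000000000000000000000000000000000000000000000000000000000000000000000000000000000000000000000000000000000000000000000000000000000000000000000000000000000000000000000000000000, 86, [1, 1, 3, 3, 4, 4, 3, 3, 1, 1]),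
    (41, 0x10200020300000000000203000304000000000000000000000000000000000000000000000000000000, 4, [1, 3, 3, 1]),
    (6, 0x1020000000000, 0, [1, 1])]
    (by decide +kernel) (by decide +kernel) q

theorem poinE8' (q : ℕ) (hq : 0 < q) : (q - 1) ^ 8 * tabE8_chk.rsys.PJ Set.univ q = (q ^ 2 - 1) * (q ^ 8 - 1) * (q ^ 12 - 1) * (q ^ 14 - 1) * (q ^ 18 - 1) * (q ^ 20 - 1) * (q ^ 24 - 1) * (q ^ 30 - 1) := by
  rw [poinE8]
  simp only [evalL, List.map_cons, List.map_nil, List.prod_cons, List.prod_nil, List.foldr_cons, List.foldr_nil]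
  zify [hq, Nat.one_le_pow 2 q hq, Nat.one_le_pow 8 q hq, Nat.one_le_pow 12 q hq, Nat.one_le_pow 14 q hq, Nat.one_le_pow 18 q hq, Nat.one_le_pow 20 q hq, Nat.one_le_pow 24 q hq, Nat.one_le_pow 30 q hq]
  ring

theorem cardWE8 : Nat.card tabE8_chk.rsys.W = 696729600 := by
  rw [← RS.WJ_univ, ← RS.PJ_one, poinE8]; rfl

theorem coxE8 : ∃ e : CoxeterMatrix.E₈.Group ≃* tabE8_chk.rsys.W, ∀ i, e (CoxeterMatrix.E₈.simple i) = tabE8_chk.rsys.sW i :=
  tabE8_chk.coxeter CoxeterMatrix.E₈ (by decide +kernel)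

theorem ordE8 : orderOf (tabE8_chk.rsys.wd (List.finRange 8)) = 30 :=
  tabE8_chk.ord_spec _ (by decide +kernel)

theorem connE8 : tabE8.chkConn = true := by decide +kernel

theorem perfE8 : tabE8.chkPerf = true := by decide +kernel

theorem thetaE8 (F : Type*) [Field F] :
    Nonempty ((tabE8_chk.rsys.theta F).ker ≃* (Fin 0 → (powMonoidHom 1 : Fˣ →* Fˣ).ker)) ∧
    ∀ c, c ∈ (tabE8_chk.rsys.theta F).ker ↔
      ∃ z : Fin 0 → Fˣ, (∀ k, z k ^ 1 = 1) ∧ c = fun i => ∏ k, z k ^ lm [] k i :=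
  card_ker_theta _ F 1 _ (![] : Fin 0 → Fin 8) (lm [[4, 5, 7, 10, 8, 6, 4, 2], [5, 8, 10, 15, 12, 9, 6, 3], [7, 10, 14, 20, 16, 12, 8, 4], [10, 15, 20, 30, 24, 18, 12, 6], [8, 12, 16, 24, 20, 15, 10, 5], [6, 9, 12, 18, 15, 12, 8, 4], [4, 6, 8, 12, 10, 8, 6, 3], [2, 3, 4, 6, 5, 4, 3, 2]]) (lm [])
    (by decide +kernel) (by decide +kernel) (by decide +kernel) (by decide +kernel)

theorem cardThetaE8 (F : Type*) [Field F] [Fintype F] : Nat.card (tabE8_chk.rsys.theta F).ker = 1 := by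
  obtain ⟨e⟩ := (thetaE8 F).1
  rw [Nat.card_congr e.toEquiv, Nat.card_fun, card_pow_ker]; simp

theorem St.good_of_odd {ι Φ : Type} [Fintype ι] [DecidableEq ι] [Fintype Φ] [DecidableEq Φ] {R : CD ι Φ}
    {F : Type*} [Field F] {G : Type*} [Group G] (S : St R F G) (hF : ∃ a : F, a ≠ 0 ∧ a ≠ 1) {r : Φ} (s : Φ)
    (h : Odd (R.A s r)) : S.Good r := by
  obtain ⟨a, h0, h1⟩ := hF
  by_cases h2 : a ^ 2 = 1
  · obtain rfl : a = -1 := (mul_self_eq_one_iff.1 (by rw [← h2]; ring)).resolve_left h1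
    exact S.good_of_h (s := s) h0 (by rwa [h.neg_one_zpow])
  · exact S.good_of_h (s := r) h0 (by rwa [RS.A_self, zpow_ofNat])

theorem goodG2 {F : Type*} [Field F] {G : Type*} [Group G] (S : St tabG2_chk.cd F G)
    (hF : ∃ a : F, a ≠ 0 ∧ a ≠ 1) (i : Fin chevG2.rank) : S.Good (tabG2_chk.cd.sim i) := by
  obtain ⟨j, hj⟩ : ∃ j, Odd (tabG2_chk.rsys.C j i) := by revert i; decide +kernel
  exact S.good_of_odd hF (tabG2_chk.cd.sim j) (by rwa [RS.A_sim_sim])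

theorem goodB2 {F : Type*} [Field F] {G : Type*} [Group G] (S : St tabB2_chk.cd F G)
    (hF : ∃ a : F, a ≠ 0 ∧ a ≠ 1) (i : Fin chevB2.rank) : S.Good (tabB2_chk.cd.sim i) := by
  have key : ∀ r s : Fin chevB2.nroots, Odd (tabB2.A s r) → S.Good r := fun r s h =>
    S.good_of_odd hF s (by rwa [Tab.Chk.cd_toRS, Tab.Chk.A_eq])
  rcases i with ⟨_ | _ | i, hi⟩
  · exact key _ (4 : Fin 8) (by decide +kernel +revert)
  · refine St0.good_of_terms (a := tabB2_chk.fin 0) (b := tabB2_chk.fin 6) (l1 := [(tabB2_chk.fin 2, -1, 1, 1)])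
      (l2 := []) (c := 1) (j := 1) (k := 2) (by decide +kernel) (by decide +kernel) (by decide +kernel +revert)
      (by simp) (Or.inl rfl) ?_
    simpa using key _ (4 : Fin 8) (by decide +kernel)
  · exact absurd hi (by change ¬ _ < 2; omega)

end H24
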