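import Cfsg.Agent.H24.Tor2
import Cfsg.Agent.H24.Facts

/-! Homocyclic subgroups of maximal tori and Sylow subgroups for large primes. -/

set_option maxHeartbeats 400000
set_option linter.unusedSectionVars false

namespace H24
open Finset St0 Cfsg.Lie

theorem hom_torus {ι κ k A : Type*} [Fintype ι] [Fintype κ] [DecidableEq κ] [Field k] [CommGroup A]
    {T : Subgroup (ι → kˣ)} {M : ι → ι → ℤ} {q : ℕ} (hT : ∀ c, c ∈ T ↔ ∀ i, c i ^ q = ∏ x, c x ^ M i x)
    (y lam : κ → ι → ℤ) {m : ℕ} (h1 : ∀ a j, (m : ℤ) ∣ y a j * q - ∑ x, M j x * y a x)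
    (h2 : ∀ a b, ∑ x, lam a x * y b x = if a = b then 1 else 0) (ψ : A →* kˣ) (hψ : Function.Injective ψ)
    (hm : ∀ z : A, z ^ m = 1) : ∃ f : (κ → A) →* T, Function.Injective f := by
  have key : ∀ (z : κ → A) (v : ι → ℤ), ∏ x, (∏ a, ψ (z a) ^ y a x) ^ v x = ∏ a, ψ (z a) ^ ∑ x, v x * y a x := fun z v => by
    simp only [← prod_zpow, ← zpow_mul, ← prod_zpow_eq_zpow_sum', mul_comm]
    exact prod_comm
  refine ⟨MonoidHom.codRestrict (MonoidHom.mk' (fun z j => ∏ a, ψ (z a) ^ y a j) fun z z' => funext fun j => by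
    simp [mul_zpow, prod_mul_distrib]) T fun z => (hT _).2 fun j => ?_, (injective_iff_map_eq_one _).2 fun z e => ?_⟩
  · simp only [MonoidHom.mk'_apply, key]
    simp only [← zpow_natCast, ← prod_zpow, ← zpow_mul]
    refine prod_congr rfl fun a _ => ?_
    obtain ⟨t, ht⟩ := h1 a j
    rw [sub_eq_iff_eq_add.1 ht, zpow_add, zpow_mul, zpow_natCast, ← map_pow, hm, map_one, one_zpow, one_mul]
  · funext a
    have := key z (lam a)
    have h3 : ∀ x, ∏ a, ψ (z a) ^ y a x = 1 := congrFun (congrArg Subtype.val e)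
    simp only [h3, h2, one_zpow, prod_const_one] at this
    rw [prod_eq_single a (fun b _ hb => by simp [hb.symm]) (by simp)] at this
    exact hψ (by simpa using this.symm)

def phi : ℕ → List ℤ
  | 1 => [-1]
  | 2 => [1]
  | 3 => [1, 1]
  | 4 => [1, 0]
  | 5 => [1, 1, 1, 1]
  | 6 => [1, -1]
  | 7 => [1, 1, 1, 1, 1, 1]
  | 8 => [1, 0, 0, 0]
  | 9 => [1, 0, 0, 1, 0, 0]
  | 10 => [1, -1, 1, -1]
  | 12 => [1, 0, -1, 0]
  | 14 => [1, -1, 1, -1, 1, -1]
  | 15 => [1, -1, 0, 1, -1, 1, 0, -1]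
  | 18 => [1, 0, 0, -1, 0, 0]
  | 20 => [1, 0, -1, 0, 1, 0, -1, 0]
  | 24 => [1, 0, 0, 0, -1, 0, 0, 0]
  | 30 => [1, 1, 0, -1, -1, -1, 0, 1]
  | _ => []

theorem phi_dvd (q : ℤ) : ∀ d ∈ [1, 2, 3, 4, 5, 6, 7, 8, 9, 10, 12, 14, 15, 18, 20, 24, 30], ∃ L : List ℕ, (∀ e ∈ L, 0 < e ∧ e < d) ∧
    q ^ d - 1 ∣ (q ^ (phi d).length + ∑ i ∈ range (phi d).length, (phi d).getD i 0 * q ^ i) * (L.map (q ^ · - 1)).prod := by
  simp only [List.mem_cons, List.not_mem_nil, or_false, forall_eq_or_imp, forall_eq]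
  refine ⟨?_, ?_, ?_, ?_, ?_, ?_, ?_, ?_, ?_, ?_, ?_, ?_, ?_, ?_, ?_, ?_, ?_⟩
  · exact ⟨[], by decide, (1) * q ^ 0, by simp [phi, sum_range_succ]; try ring⟩
  · exact ⟨[1], by decide, (1) * q ^ 0, by simp [phi, sum_range_succ]; try ring⟩
  · exact ⟨[1], by decide, (1) * q ^ 0, by simp [phi, sum_range_succ]; try ring⟩
  · exact ⟨[2], by decide, (1) * q ^ 0, by simp [phi, sum_range_succ]; try ring⟩
  · exact ⟨[1], by decide, (1) * q ^ 0, by simp [phi, sum_range_succ]; try ring⟩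
  · exact ⟨[3, 2], by decide, (-1) * q ^ 0 + (1) * q ^ 1, by simp [phi, sum_range_succ]; try ring⟩
  · exact ⟨[1], by decide, (1) * q ^ 0, by simp [phi, sum_range_succ]; try ring⟩
  · exact ⟨[4], by decide, (1) * q ^ 0, by simp [phi, sum_range_succ]; try ring⟩
  · exact ⟨[3], by decide, (1) * q ^ 0, by simp [phi, sum_range_succ]; try ring⟩
  · exact ⟨[5, 2], by decide, (-1) * q ^ 0 + (1) * q ^ 1, by simp [phi, sum_range_succ]; try ring⟩
  · exact ⟨[6, 4], by decide, (-1) * q ^ 0 + (1) * q ^ 2, by simp [phi, sum_range_succ]; try ring⟩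
  · exact ⟨[7, 2], by decide, (-1) * q ^ 0 + (1) * q ^ 1, by simp [phi, sum_range_succ]; try ring⟩
  · exact ⟨[5, 3], by decide, (-1) * q ^ 0 + (1) * q ^ 1, by simp [phi, sum_range_succ]; try ring⟩
  · exact ⟨[9, 6], by decide, (-1) * q ^ 0 + (1) * q ^ 3, by simp [phi, sum_range_succ]; try ring⟩
  · exact ⟨[10, 4], by decide, (-1) * q ^ 0 + (1) * q ^ 2, by simp [phi, sum_range_succ]; try ring⟩
  · exact ⟨[12, 8], by decide, (-1) * q ^ 0 + (1) * q ^ 4, by simp [phi, sum_range_succ]; try ring⟩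
  · exact ⟨[15, 10, 6], by decide, (1) * q ^ 0 + (1) * q ^ 1 + (-1) * q ^ 3 + (-1) * q ^ 4 + (-1) * q ^ 5 + (-1) * q ^ 6 + (1) * q ^ 8 + (1) * q ^ 9, by simp [phi, sum_range_succ]; try ring⟩

section
variable {r q : ℕ} [hr : Fact r.Prime]

theorem dvd_pow_sub_one_iff (hq : 0 < q) (e : ℕ) : r ∣ q ^ e - 1 ↔ orderOf (q : ZMod r) ∣ e := by
  rw [orderOf_dvd_iff_pow_eq_one, ← ZMod.natCast_eq_zero_iff, Nat.cast_sub (Nat.one_le_pow _ _ hq), sub_eq_zero]
  simp

theorem val_pow_sub_one (h2 : r ≠ 2) (hq : 1 < q) (hrq : ¬ r ∣ q) {e : ℕ} (he : ¬ r ∣ e) :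
    padicValNat r (q ^ e - 1) = if orderOf (q : ZMod r) ∣ e then padicValNat r (q ^ orderOf (q : ZMod r) - 1) else 0 := by
  split_ifs with h
  · obtain ⟨c, rfl⟩ := h
    have := padicValNat.pow_sub_pow (p := r) (hr.out.odd_of_ne_two h2) (x := q ^ orderOf (q : ZMod r)) (y := 1)
      (Nat.one_lt_pow (fun e => he (by simp [e])) hq) ((dvd_pow_sub_one_iff (by omega) _).2 dvd_rfl)
      (fun h => hrq (hr.out.dvd_of_dvd_pow h)) (n := c) (fun e => he (by simp [e]))
    rwa [one_pow, ← pow_mul, padicValNat.eq_zero_of_not_dvd (fun h => he (h.mul_left _)), add_zero] at this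
  · exact padicValNat.eq_zero_of_not_dvd fun h' => h ((dvd_pow_sub_one_iff (by omega) _).1 h')

theorem val_prod (h2 : r ≠ 2) (hq : 1 < q) (hrq : ¬ r ∣ q) (L : List ℕ) (hL : ¬ r ∣ L.prod) :
    (L.map (q ^ · - 1)).prod ≠ 0 ∧ padicValNat r (L.map (q ^ · - 1)).prod =
      padicValNat r (q ^ orderOf (q : ZMod r) - 1) * (L.filter (orderOf (q : ZMod r) ∣ ·)).length := by
  induction L with
  | nil => simp
  | cons e L ih =>
    obtain ⟨h1, h3⟩ := ih fun h => hL (h.mul_left _)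
    have he : ¬ r ∣ e := fun h => hL (h.mul_right _)
    have h4 : q ^ e - 1 ≠ 0 := (Nat.sub_pos_of_lt (Nat.one_lt_pow (fun e => he (by simp [e])) hq)).ne'
    refine ⟨mul_ne_zero h4 h1, ?_⟩
    rw [List.map_cons, List.prod_cons, padicValNat.mul h4 h1, h3, val_pow_sub_one h2 hq hrq he, List.filter_cons]
    split_ifs <;> simp_all [mul_add, add_comm]

theorem val_cyclotomic (hq : 1 < q) (hd : 0 < orderOf (q : ZMod r)) :
    padicValNat r ((Polynomial.cyclotomic (orderOf (q : ZMod r)) ℤ).eval (q : ℤ)).natAbs =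
      padicValNat r (q ^ orderOf (q : ZMod r) - 1) := by
  set d := orderOf (q : ZMod r)
  have cast : ∀ e, ((q : ℤ) ^ e - 1).natAbs = q ^ e - 1 := fun e => by
    rw [← Int.natAbs_natCast (q ^ e - 1), Nat.cast_sub (Nat.one_le_pow _ _ (by omega))]; simp
  have h1 := congrArg (fun p => (Polynomial.eval (q : ℤ) p).natAbs) (Polynomial.prod_cyclotomic_eq_X_pow_sub_one hd ℤ)
  simp only [← Nat.cons_self_properDivisors hd.ne', Finset.prod_cons, Polynomial.eval_mul, Polynomial.eval_prod, Int.natAbs_mul,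
    Polynomial.eval_sub, Polynomial.eval_pow, Polynomial.eval_X, Polynomial.eval_one, cast] at h1
  have h2 := (mul_ne_zero_iff.1 (h1 ▸ (Nat.sub_pos_of_lt (Nat.one_lt_pow hd.ne' hq)).ne'))
  rw [← h1, padicValNat.mul h2.1 h2.2, left_eq_add]
  refine padicValNat.eq_zero_of_not_dvd fun h => ?_
  obtain ⟨e, he, h3⟩ := (Prime.dvd_finset_prod_iff (Nat.prime_iff_prime_int.1 hr.out) _).1 (Int.natCast_dvd.2 h)
  have h4 := h3.trans (Polynomial.eval_dvd (x := (q : ℤ)) (Polynomial.cyclotomic.dvd_X_pow_sub_one e ℤ))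
  simp only [Polynomial.eval_sub, Polynomial.eval_pow, Polynomial.eval_X, Polynomial.eval_one, Int.natCast_dvd, cast,
    dvd_pow_sub_one_iff (by omega : 0 < q)] at h4
  exact (Nat.le_of_dvd (Nat.pos_of_mem_properDivisors he) h4).not_gt (Nat.mem_properDivisors.1 he).2

end

/-- `(d, a, word, images of the simple roots, vectors, functionals)` -/
abbrev HomData := ℕ × ℕ × List ℕ × List ℕ × List (List ℤ) × List (List ℤ)

namespace Tab
variable (T : Tab)

noncomputable def chkHom (c : HomData) : Bool :=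
  band (allL c.2.2.1 fun i => Nat.blt i T.l) <|
  band (allLt T.l fun x => Nat.beq (nth c.2.2.2.1 x) (T.appl c.2.2.1 (T.simple x))) <|
  forceB (phi c.1).length fun f => allLt c.2.1 fun a => allLt f fun i =>
    band (allLt T.l fun j => decide ((sumLt T.l fun x => T.cov (nth c.2.2.2.1 x) j * n2 c.2.2.2.2.1 (a * f + i) x) =
      (if i = 0 then 0 else n2 c.2.2.2.2.1 (a * f + (i - 1)) j) - (phi c.1).getD i 0 * n2 c.2.2.2.2.1 (a * f + (f - 1)) j))
    (allLt c.2.1 fun b => decide ((sumLt T.l fun x => n2 c.2.2.2.2.2 b x * n2 c.2.2.2.2.1 (a * f + i) x) =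
      if b = a ∧ i = 0 then 1 else 0))

noncomputable def chkHoms (degs : List ℕ) (L : List HomData) : Bool :=
  band (allL L T.chkHom) (decide (2 ∈ degs ∧ ∀ e ∈ degs, 0 < e ∧ ∀ d ≤ e, d ∣ e →
    d ∈ [1, 2, 3, 4, 5, 6, 7, 8, 9, 10, 12, 14, 15, 18, 20, 24, 30] ∧ 0 < (phi d).length ∧
      (d, (degs.filter (d ∣ ·)).length) ∈ L.map fun c => (c.1, c.2.1)))

namespace Chk
variable {D : ChevalleyDatum} {T : Tab} (h : T.Chk D)

theorem exists_wd (w : List ℕ) (hw : ∀ i ∈ w, i < T.l) : ∃ v ∈ h.rsys.W, ∀ r, (v r : ℕ) = T.appl w r := by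
  induction w with
  | nil => exact ⟨1, one_mem _, fun _ => rfl⟩
  | cons i w ih =>
    obtain ⟨v, hv, e⟩ := ih fun j hj => hw j (List.mem_cons_of_mem _ hj)
    exact ⟨h.rsys.s ⟨i, h.hl ▸ hw i List.mem_cons_self⟩ * v, mul_mem (h.rsys.s_mem_W _) hv, fun r => by
      rw [Equiv.Perm.mul_apply, val_s, e]; rfl⟩

theorem sylow_hom {K : Type*} [Field K] [Fintype K] (hs : (h.stb (AlgebraicClosure K)).SC) (hs0 : (h.stb K).SC)
    {q : ℕ} (hq : Fintype.card K = q) {degs : List ℕ} {L : List HomData} (H : T.chkHoms degs L = true)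
    (hP : (q - 1) ^ D.rank * h.rsys.PJ Set.univ q = (degs.map (q ^ · - 1)).prod) {e : ℕ} (he : e ∣ degs.prod)
    (h1 : ∀ c ∈ (h.rsys.theta K).ker, c ^ e = 1) (h2 : ∀ c ∈ (h.rsys.theta (AlgebraicClosure K)).ker, c ^ e = 1)
    (r : ℕ) [hr : Fact r.Prime] (hrq : ¬ r ∣ q) (hrW : ¬ r ∣ degs.prod) (hrG : r ∣ Nat.card (D.group K))
    (P : Sylow r (D.group K)) : Nonempty (P ≃* (Fin (degs.filter (fun e => orderOf (q : ZMod r) ∣ e)).length →
      Multiplicative (ZMod (r ^ padicValNat r ((Polynomial.cyclotomic (orderOf (q : ZMod r)) ℤ).eval (q : ℤ)).natAbs)))) := by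
  simp only [chkHoms, band_iff, allL_iff, decide_eq_true_eq] at H
  obtain ⟨H, H2, H3⟩ := H
  have hq1 : 1 < q := hq ▸ Fintype.one_lt_card
  have hr2 : r ≠ 2 := fun e => hrW (e ▸ List.dvd_prod H2)
  have e1 := h.card_group K
  obtain ⟨e2, e3⟩ := val_prod hr2 hq1 hrq degs hrW
  rw [hq, hP] at e1
  have e4 := mul_ne_zero_iff.1 (e1 ▸ mul_ne_zero (pow_ne_zero _ (by omega)) e2)
  have : Finite (D.group K) := Nat.finite_of_card_ne_zero e4.2
  have hre : r.Coprime e := hr.out.coprime_iff_not_dvd.2 fun h => hrW (h.trans he)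
  have e5 : ¬ r ∣ Nat.card (h.rsys.theta K).ker := fun h' => by
    obtain ⟨c, hc⟩ := exists_prime_orderOf_dvd_card' r h'
    exact hr.out.coprime_iff_not_dvd.1 hre (hc ▸ orderOf_dvd_of_pow_eq_one (Subtype.ext (h1 c c.2)))
  replace e1 := congrArg (padicValNat r) e1
  rw [padicValNat.mul e4.1 e4.2, padicValNat.mul (pow_ne_zero _ (by omega)) e2, padicValNat.eq_zero_of_not_dvd e5,
    padicValNat.eq_zero_of_not_dvd (fun h => hrq (hr.out.dvd_of_dvd_pow h)), zero_add, zero_add, e3] at e1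
  set d := orderOf (q : ZMod r) with hd
  obtain ⟨e0, he0⟩ := List.exists_mem_of_ne_nil (degs.filter (d ∣ ·)) fun h0 => by
    rw [h0, List.length_nil, mul_zero, padicValNat.eq_zero_iff] at e1
    simp [hr.out.ne_one, e4.2, hrG] at e1
  simp only [List.mem_filter, decide_eq_true_eq] at he0
  obtain ⟨d1, d2, d3⟩ := (H3 e0 he0.1).2 d (Nat.le_of_dvd (H3 e0 he0.1).1 he0.2) he0.2
  obtain ⟨⟨d', a', w, im, A, lam⟩, hc, hc'⟩ := List.mem_map.1 d3
  obtain ⟨hc1, hc2⟩ : d' = d ∧ a' = _ := Prod.ext_iff.1 hc'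
  subst d' a'
  replace H := H _ hc
  simp only [chkHom, band_iff, allL_iff, allLt_iff, decide_eq_true_eq, forceB_eq, Nat.blt_eq, Nat.beq_eq] at H
  obtain ⟨v, hv, hw⟩ := h.exists_wd w H.1
  rw [val_cyclotomic hq1 (Nat.pos_of_dvd_of_pos he0.2 (H3 e0 he0.1).1)]
  set m := r ^ padicValNat r (q ^ d - 1)
  have cast : ∀ e, ((q ^ e - 1 : ℕ) : ℤ) = q ^ e - 1 := fun e => by
    rw [Nat.cast_sub (Nat.one_le_pow _ _ (by omega))]; simp
  have hm : (m : ℤ) ∣ q ^ (phi d).length + ∑ i ∈ range (phi d).length, (phi d).getD i 0 * q ^ i := by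
    obtain ⟨E, E1, E2⟩ := phi_dvd q d d1
    refine IsCoprime.dvd_of_dvd_mul_right ?_ ((cast d ▸ Int.natCast_dvd_natCast.2 pow_padicValNat_dvd).trans E2)
    refine List.prod_induction _ (fun _ _ => IsCoprime.mul_right) isCoprime_one_right fun x hx => ?_
    obtain ⟨x, hx', rfl⟩ := List.mem_map.1 hx
    rw [← cast, Nat.isCoprime_iff_coprime]
    exact Nat.Coprime.pow_left _ (hr.out.coprime_iff_not_dvd.2 fun h' =>
      (Nat.le_of_dvd (E1 x hx').1 ((dvd_pow_sub_one_iff (by omega) _).1 h')).not_gt (E1 x hx').2)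
  obtain ⟨f, hf, M, m1, m2, -⟩ := h.exists_mdl_frob (algebraMap K (AlgebraicClosure K)) hs hs0
  have : NeZero (m : AlgebraicClosure K) := ⟨by
    rw [← map_natCast (algebraMap K _), map_ne_zero, Nat.cast_pow]
    refine pow_ne_zero _ fun e => hrq ?_
    obtain ⟨p, _, n, hp, hn⟩ := FiniteField.card' K
    rw [← hq, hn, ← (Nat.prime_dvd_prime_iff_eq hp hr.out).1 ((CharP.cast_eq_zero_iff K p r).1 e)]
    exact dvd_pow_self _ n.ne_zero⟩
  have : NeZero m := ⟨pow_ne_zero _ hr.out.ne_zero⟩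
  obtain ⟨ζ, hζ⟩ : ∃ ζ : (AlgebraicClosure K)ˣ, IsPrimitiveRoot ζ m :=
    let ⟨_, hζ⟩ := HasEnoughRootsOfUnity.exists_primitiveRoot (AlgebraicClosure K) m; ⟨_, hζ.isUnit_unit (NeZero.ne m)⟩
  obtain ⟨g, hg⟩ := Nat.exists_eq_add_one.2 d2
  have hz : ∀ z : Multiplicative (ZMod m), z ^ m = 1 := fun z => by
    simpa using pow_card_eq_one' (x := z)
  obtain ⟨ν, hν⟩ := hom_torus (κ := Fin (degs.filter (d ∣ ·)).length) (T := M.T v) (q := q)
    (M := fun j i => h.cd.co (v (h.cd.sim i)) j) (fun c => by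
      refine funext_iff.trans (forall_congr' fun i => ?_)
      have : ∀ t, M.d.ψ i t = t ^ q := fun t => Units.ext (by simp [m2, TD.coe_ψ, TD.frob, Mor.id, m1, hq])
      have h' : M.d.π⁻¹ i = i := by rw [m2]; rfl
      change M.d.ψ (M.d.π⁻¹ i) (c (M.d.π⁻¹ i)) = _ ↔ _
      rw [h', this]; rfl)
    (fun a j => ∑ i ∈ range (phi d).length, n2 A (a * (phi d).length + i) j * q ^ i) (fun a j => n2 lam a j) (m := m)
    (fun a j => by
      have : ∀ x : Fin D.rank, h.cd.co (v (h.cd.sim x)) j = T.cov (nth im x) j := fun x => by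
        rw [H.2.1 x (h.lt_l x), ← h.val_sim, ← hw]; rfl
      simp only [this, mul_sum, ← mul_assoc]
      have h5 : ∀ i ∈ range (phi d).length, ∑ x : Fin D.rank, T.cov (nth im x) j * n2 A (a * (phi d).length + i) x * q ^ i = _ :=
        fun i hi => by
          rw [← sum_mul, ← h.sumLt_eq' fun x => T.cov (nth im x) j * n2 A (a * (phi d).length + i) x,
            (H.2.2 a a.2 i (mem_range.1 hi)).1 j (h.lt_l j)]
      rw [sum_comm, sum_congr rfl h5]
      refine Eq.subst (motive := fun x => (m : ℤ) ∣ x) ?_ (hm.mul_left (n2 A (a * (phi d).length + ((phi d).length - 1)) j))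
      simp only [sub_mul, sum_sub_distrib, mul_add, mul_sum, sum_mul]
      rw [hg, sum_range_succ fun i => n2 A _ j * q ^ i * q, sum_range_succ' fun i => (if i = 0 then 0 else _) * _]
      simp only [mul_assoc, ← pow_succ, mul_left_comm (n2 A _ j)]
      simp)
    (fun a b => by
      simp only [mul_sum, ← mul_assoc]
      rw [sum_comm, sum_congr rfl fun i hi => by
        rw [← sum_mul, ← h.sumLt_eq' fun x => n2 lam a x * n2 A (b * (phi d).length + i) x,
          (H.2.2 b b.2 i (mem_range.1 hi)).2 a a.2]]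
      by_cases e : a = b <;> simp [e, d2, Fin.val_inj])
    ((Subgroup.zpowers ζ).subtype.comp (AddEquiv.toMultiplicativeLeft hζ.zmodEquivZPowers).toMonoidHom)
    ((Subgroup.zpowers ζ).subtype_injective.comp (MulEquiv.injective _)) hz
  obtain ⟨μ, n1, -⟩ := M.torus hv
  have hi : Function.Injective (μ.comp ν) := (injective_iff_map_eq_one _).2 fun z e => hν <| by
    have := pow_gcd_eq_one.2 ⟨(by rw [← Subgroup.coe_pow, ← map_pow, show z ^ m = 1 from funext fun a => hz _, map_one,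
      Subgroup.coe_one] : (ν z : _ → _) ^ m = 1), h2 _ ((n1 _).1 e)⟩
    rw [Nat.Coprime.pow_left _ hre, pow_one] at this
    exact Subtype.ext (this.trans (by simp))
  exact ⟨(P.equiv (Sylow.ofCard (μ.comp ν).range (by
    rw [← Nat.card_congr (MonoidHom.ofInjective hi).toEquiv, Nat.card_fun, Nat.factorization_def _ hr.out, e1, pow_mul]
    simp [m]))).trans (MonoidHom.ofInjective hi).symm⟩

end Chk
end Tab

end H24
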