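import Cfsg.Agent.H24.Tab
import Cfsg.Prelude.Def_ChevG2

/-! Packed tables for type G2 and the kernel checks. -/

namespace H24
open Cfsg.Lie

def chG2 : List ℕ := [0x705000000703000000902000000000000000901000000000000000000000000000000000000000000000000000000,
 0x706000000000000000704000000000000000902000000000000000900000000000000000000000000000000000000000000000,
 0x701704708900903707000000000000b01a04000500603000000000000000000000000b01000000b00000000000000000000000000000,
 0x705907909000000000000505a07000000000000000505900702904000000000000b00602000000000000000500000000000000000000,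
 0x906708909000b06608000000506000000000000000000701902903000000000000501a02000000501000000000000000000,
 0x90a000000000000000000000000907000000000000000000000000000000000703000000000000000000000000700000000000,
 0x90b000000000000000000000000908000000000000000000000000000000000704000000000000000000000000701,
 0xb0a00050a60900000000090a909708000000000000000000000000b05000b05a03705703702000000000,
 0xb0b000000000000b0ba0900000000070b709707000000b06000000000000506604000000000906904702,
 0x50b00000050a00000000000000000000050ba08000b0a60700000000070b90890490a707903,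
 0x70b000000000000000709000000000000000907000000000000000905,
 0x70a000000000000000709000000908000000906000000000]

def tabG2 : Tab where
  l := 2
  n := 12
  w := 36
  ch := chG2
  wt := 0x987b89977aa56b9679879578
  co := 0xa999bab98998788757567767
  rt := 0xab9b9a998998788777767565
  ln := 0xf57d5f
  sp := 0x607
  rf := 0xa0b090708050603040200010b060809040a010702030500
  et := 0x969696
  reps := [(9, 1), (9, 2), (9, 4), (9, 6), (9, 8), (9, 9), (9, 11), (11, 0), (11, 3), (11, 5), (11, 7), (11, 9), (11, 10), (11, 11)]
  gens := [(7, 0, 9), (4, 0, 8), (6, 1, 11), (5, 0, 10)]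

set_option maxRecDepth 100000

theorem tabG2_link : tabG2.chkLink chevG2 = true := by decide +kernel
theorem tabG2_rs : tabG2.chkRS = true := by decide +kernel
theorem tabG2_eqv0 : tabG2.chkEqv 0 = true := by decide +kernel
theorem tabG2_nn0 : tabG2.chkN 0 = true := by decide +kernel
theorem tabG2_eqv1 : tabG2.chkEqv 1 = true := by decide +kernel
theorem tabG2_nn1 : tabG2.chkN 1 = true := by decide +kernel
theorem tabG2_reps : tabG2.chkReps = true := by decide +kernel
theorem tabG2_rep0 : tabG2.chkRep 9 1 = true := by decide +kernel
theorem tabG2_rep1 : tabG2.chkRep 9 2 = true := by decide +kernel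
theorem tabG2_rep2 : tabG2.chkRep 9 4 = true := by decide +kernel
theorem tabG2_rep3 : tabG2.chkRep 9 6 = true := by decide +kernel
theorem tabG2_rep4 : tabG2.chkRep 9 8 = true := by decide +kernel
theorem tabG2_rep5 : tabG2.chkRep 9 9 = true := by decide +kernel
theorem tabG2_rep6 : tabG2.chkRep 9 11 = true := by decide +kernel
theorem tabG2_rep7 : tabG2.chkRep 11 0 = true := by decide +kernel
theorem tabG2_rep8 : tabG2.chkRep 11 3 = true := by decide +kernel
theorem tabG2_rep9 : tabG2.chkRep 11 5 = true := by decide +kernel
theorem tabG2_rep10 : tabG2.chkRep 11 7 = true := by decide +kernel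
theorem tabG2_rep11 : tabG2.chkRep 11 9 = true := by decide +kernel
theorem tabG2_rep12 : tabG2.chkRep 11 10 = true := by decide +kernel
theorem tabG2_rep13 : tabG2.chkRep 11 11 = true := by decide +kernel
theorem tabG2_gen : tabG2.chkGen = true := by decide +kernel

theorem tabG2_chk : tabG2.Chk chevG2 where
  link := tabG2_link
  rs := tabG2_rs
  eqv i hi := by
    change i < 2 at hi
    interval_cases i
    exacts [tabG2_eqv0, tabG2_eqv1]
  nn i hi := by
    change i < 2 at hi
    interval_cases i
    exacts [tabG2_nn0, tabG2_nn1]
  reps := tabG2_reps
  rep p hp := by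
    change p ∈ [(9, 1), (9, 2), (9, 4), (9, 6), (9, 8), (9, 9), (9, 11), (11, 0), (11, 3), (11, 5), (11, 7), (11, 9), (11, 10), (11, 11)] at hp
    simp only [List.mem_cons, List.not_mem_nil, or_false] at hp
    rcases hp with rfl | rfl | rfl | rfl | rfl | rfl | rfl | rfl | rfl | rfl | rfl | rfl | rfl | rfl
    exacts [tabG2_rep0, tabG2_rep1, tabG2_rep2, tabG2_rep3, tabG2_rep4, tabG2_rep5, tabG2_rep6, tabG2_rep7, tabG2_rep8, tabG2_rep9, tabG2_rep10, tabG2_rep11, tabG2_rep12, tabG2_rep13]
  gen := tabG2_gen

end H24
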