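import Cfsg.Agent.S0245
import Cfsg.Agent.S0246

/-! The order of `PSp4(3)`. -/

set_option autoImplicit false

namespace H24.CardX

theorem cardX {F : Type*} [Field F] [Fintype F] (hF : Fintype.card F = 3) :
    Nat.card (Cfsg.PSp 2 F) = 25920 := by
  have := Subgroup.card_eq_card_quotient_mul_card_subgroup
    (Subgroup.center (Matrix.symplecticGroup (Fin 2) F))
  rw [Cfsg.Agent.S0246.result hF 2 (by norm_num), Cfsg.Agent.S0245.result hF 2] at this
  simp [Finset.prod_range_succ] at this
  change _ = Nat.card (Cfsg.PSp 2 F) * 2 at this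
  omega

end H24.CardX
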