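import Cfsg.Agent.H3.S8h
import Cfsg.Prelude.Def_Local

/-! The exceptional configuration with generalized Fitting subgroup `A5 × A5`. -/

set_option autoImplicit false
set_option maxHeartbeats 400000

namespace H24.D5

open Subgroup Equiv H3S

variable {G : Type*} [Group G] [Finite G] {σ t : G} {θ : A5 × A5 →* G}

theorem cen0 : ∀ a : Perm (Fin 5), a * c5.1 = c5.1 * a → a * f5.1 = f5.1 * a → a = 1 := by
  decide +kernel

theorem cen (a : A5) (h : ∀ x, a * x = x * a) : a = 1 :=
  Subtype.ext (cen0 a.1 (congrArg Subtype.val (h c5)) (congrArg Subtype.val (h f5)))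

theorem out0 : ∀ a : Perm (Fin 5), Perm.sign a = 1 →
    a * (swap 3 4 * c5.1 * (swap 3 4)⁻¹) = c5.1 * a →
    a * (swap 3 4 * f5.1 * (swap 3 4)⁻¹) = f5.1 * a → False := by
  decide +kernel

theorem out (a : A5) (h : ∀ x, a * τ x = x * a) : False :=
  out0 a.1 a.2 (congrArg Subtype.val (h c5)) (congrArg Subtype.val (h f5))

theorem c5ne : c5 ≠ 1 := fun h => absurd (congrArg Subtype.val h) (by decide)

instance simp5 : IsSimpleGroup A5 := alternatingGroup.isSimpleGroup (by simp)

theorem all5 (K : Subgroup A5) [hK : K.Normal] (a : A5) (ha : a ≠ 1)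
    (h : ∀ x, a * x * a⁻¹ * x⁻¹ ∈ K) : K = ⊤ := by
  refine hK.eq_bot_or_eq_top.resolve_left fun e => ha (cen a fun x => ?_)
  have := h x
  rw [e, mem_bot, mul_inv_eq_one, mul_inv_eq_iff_eq_mul] at this
  exact this

instance perf5 : Group.IsPerfect A5 :=
  ⟨all5 _ c5 c5ne fun x => commutator_mem_commutator (mem_top c5) (mem_top x)⟩

theorem comp (inj : Function.Injective θ) [hN : θ.range.Normal] (j : A5 →* A5 × A5)
    (hj : Function.Injective j) (hn : j.range.Normal) : Cfsg.IsComponent (θ.comp j).range := by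
  have e := MonoidHom.ofInjective (f := θ.comp j) (inj.comp hj)
  refine ⟨IsSubnormal.step _ θ.range ?_ hN.isSubnormal ⟨?_⟩, Group.IsPerfect.range _, ?_⟩
  · rintro _ ⟨x, rfl⟩; exact ⟨j x, rfl⟩
  · rintro ⟨_, m, rfl⟩ ⟨x, hx⟩ ⟨_, k, rfl⟩
    obtain ⟨y, hy⟩ := hn.conj_mem _ ⟨x, rfl⟩ k
    refine ⟨y, ?_⟩
    have hx' : θ (j x) = θ m := hx
    show θ (j y) = θ k * θ m * (θ k)⁻¹
    rw [hy, map_mul, map_mul, map_inv, hx']
  · haveI : IsSimpleGroup (θ.comp j).range := e.symm.isSimpleGroup
    have hc : center (θ.comp j).range = ⊥ := by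
      rw [eq_bot_iff]
      intro x hx
      obtain ⟨a, rfl⟩ := e.surjective x
      have : a = 1 := cen a fun y => e.injective (by
        rw [map_mul, map_mul]; exact (mem_center_iff.1 hx (e y)).symm)
      rw [this, map_one]; exact one_mem _
    exact ((QuotientGroup.quotientMulEquivOfEq hc).trans QuotientGroup.quotientBot).isSimpleGroup

theorem d5 (h : H2 θ t σ) (h2 : ¬ 128 ∣ Nat.card G) [θ.range.Normal]
    (hp : IsPGroup 2 (G ⧸ θ.range)) : ∃ N : Subgroup G, N.Normal ∧
      Cfsg.generalizedFittingSubgroup G = N ∧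
      Nonempty (N ≃* alternatingGroup (Fin 5) × alternatingGroup (Fin 5)) ∧
      (∀ K : Subgroup G, K.Normal → K ≤ N → K = ⊥ ∨ K = N) ∧ N.index = 4 ∧
      ∀ g : G, g ^ 2 ∈ N := by
  classical
  have hN : θ.range.Normal := inferInstance
  have e := MonoidHom.ofInjective h.inj
  have si : σ⁻¹ = σ := inv_eq_of_mul_eq_one_right h.ss
  -- the three cosets
  have nt : t ∉ θ.range := by
    rintro ⟨⟨a, b⟩, rfl⟩
    have k : ∀ x, a * x * a = τ x := fun x => by
      have := h.ta x 1
      rw [← map_mul, ← map_mul] at this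
      exact congrArg Prod.fst (h.inj this)
    have k1 := k 1
    rw [mul_one, map_one] at k1
    exact out a fun x => by rw [← k, ← mul_assoc, ← mul_assoc, k1, one_mul]
  have ns : σ ∉ θ.range := by
    rintro ⟨⟨a, b⟩, rfl⟩
    have k : ∀ x : A5, b * 1 * b = x := fun x => by
      have := h.sa x 1
      rw [← map_mul, ← map_mul] at this
      exact congrArg Prod.snd (h.inj this)
    exact c5ne ((k c5).symm.trans (k 1))
  have nts : t * σ ∉ θ.range := by
    rintro ⟨⟨a, b⟩, hab⟩
    have k : ∀ x : A5, b * 1 * b = τ x := fun x => by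
      have : θ (a, b) * θ (x, 1) * θ (a, b) = θ (τ 1, τ x) := by
        rw [← h.ta, ← h.sa x 1, hab]
        calc t * σ * θ (x, 1) * (t * σ) = t * σ * θ (x, 1) * (σ * t) := by rw [← h.ts]
          _ = _ := by simp only [mul_assoc]
      rw [← map_mul, ← map_mul] at this
      exact congrArg Prod.snd (h.inj this)
    exact c5ne (τ.injective ((k c5).symm.trans (k 1)))
  -- the quotient
  have cN : Nat.card θ.range = 3600 := by
    have c : Nat.card A5 = 60 := by
      have := two_mul_nat_card_alternatingGroup (α := Fin 5)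
      rw [Nat.card_perm, Nat.card_fin] at this
      have f : Nat.factorial 5 = 120 := by decide
      change 2 * Nat.card A5 = _ at this
      omega
    rw [← Nat.card_congr e.toEquiv, Nat.card_prod, c]
  haveI : Fact (Nat.Prime 2) := ⟨Nat.prime_two⟩
  obtain ⟨k, hk⟩ := IsPGroup.iff_card.1 hp
  have le4 : Nat.card (G ⧸ θ.range) ≤ 4 := by
    by_contra hlt
    have : 3 ≤ k := by
      by_contra hk3
      have : k = 0 ∨ k = 1 ∨ k = 2 := by omega
      rcases this with rfl | rfl | rfl <;> omega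
    apply h2
    rw [card_eq_card_quotient_mul_card_subgroup θ.range, cN, hk]
    exact mul_dvd_mul (pow_dvd_pow 2 this : 8 ∣ 2 ^ k) (by norm_num : 16 ∣ 3600)
  set π := QuotientGroup.mk' θ.range with hπ
  have pk : ∀ g, π g = 1 ↔ g ∈ θ.range := fun g => QuotientGroup.eq_one_iff g
  have t1 : π t ≠ 1 := mt (pk _).1 nt
  have s1 : π σ ≠ 1 := mt (pk _).1 ns
  have ts1 : π t * π σ ≠ 1 := by rw [← map_mul]; exact mt (pk _).1 nts
  have tt : π t * π t = 1 := by rw [← map_mul, h.tt, map_one]
  have ss : π σ * π σ = 1 := by rw [← map_mul, h.ss, map_one]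
  have ts : π t * π σ = π σ * π t := by rw [← map_mul, h.ts, map_mul]
  haveI := Fintype.ofFinite (G ⧸ θ.range)
  have c4 : ({1, π t, π σ, π t * π σ} : Finset (G ⧸ θ.range)).card = 4 := by
    have n1 : π t ≠ π σ := fun q => ts1 (by rw [← q, tt])
    have n2 : π t ≠ π t * π σ := fun q => s1 (left_eq_mul.1 q)
    have n3 : π σ ≠ π t * π σ := fun q => t1 (right_eq_mul.1 q)
    rw [Finset.card_insert_of_notMem, Finset.card_insert_of_notMem, Finset.card_pair n3]
    · simp only [Finset.mem_insert, Finset.mem_singleton, not_or]; exact ⟨n1, n2⟩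
    · simp only [Finset.mem_insert, Finset.mem_singleton, not_or]
      exact ⟨t1.symm, s1.symm, ts1.symm⟩
  have ge4 : 4 ≤ Fintype.card (G ⧸ θ.range) := c4 ▸ Finset.card_le_univ _
  rw [Nat.card_eq_fintype_card] at le4
  have hu : ({1, π t, π σ, π t * π σ} : Finset (G ⧸ θ.range)) = Finset.univ :=
    Finset.eq_univ_of_card _ (by omega)
  have sq : ∀ x : G ⧸ θ.range, x * x = 1 := fun x => by
    have := Finset.mem_univ x
    rw [← hu] at this
    simp only [Finset.mem_insert, Finset.mem_singleton] at this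
    rcases this with rfl | rfl | rfl | rfl
    · exact mul_one _
    · exact tt
    · exact ss
    · nth_rewrite 1 [ts]
      rw [mul_assoc, ← mul_assoc (π t), tt, one_mul, ss]
  have cm : commutator G ≤ θ.range := by
    refine commutator_le.2 fun a _ b _ => (pk _).1 ?_
    have i : ∀ x : G ⧸ θ.range, x⁻¹ = x := fun x => inv_eq_of_mul_eq_one_right (sq x)
    rw [commutatorElement_def, map_mul, map_mul, map_mul, map_inv, map_inv, i, i, mul_assoc]
    exact sq _
  -- minimal normal
  have mn : ∀ K : Subgroup G, K.Normal → K ≤ θ.range → K = ⊥ ∨ K = θ.range := by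
    intro K hK hle
    have sw : ∀ a b, θ (a, b) ∈ K → θ (b, a) ∈ K := fun a b hab => by
      have := hK.conj_mem _ hab σ
      rwa [si, h.sa] at this
    have key : ∀ a b, θ (a, b) ∈ K → a ≠ 1 → K = θ.range := fun a b hab ha => by
      haveI : (K.comap (θ.comp (MonoidHom.inl A5 A5))).Normal := hK.comap _
      have := all5 (K.comap (θ.comp (MonoidHom.inl A5 A5))) a ha fun x => by
        have := K.mul_mem hab (hK.conj_mem _ (K.inv_mem hab) (θ (x, 1)))
        rw [← map_inv, ← map_inv, ← map_mul, ← map_mul, ← map_mul] at this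
        show θ (a * x * a⁻¹ * x⁻¹, 1) ∈ K
        convert this using 2
        ext <;> simp [mul_assoc]
      have l : ∀ x, θ (x, 1) ∈ K := fun x => by
        have q : x ∈ K.comap (θ.comp (MonoidHom.inl A5 A5)) := this ▸ mem_top x
        exact q
      refine le_antisymm hle ?_
      rintro _ ⟨⟨x, y⟩, rfl⟩
      have := K.mul_mem (l x) (sw _ _ (l y))
      rwa [← map_mul, Prod.mk_mul_mk, mul_one, one_mul] at this
    by_cases hb : K = ⊥
    · exact Or.inl hb
    · right
      obtain ⟨⟨g, hg⟩, g1⟩ := ne_bot_iff_exists_ne_one.1 hb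
      obtain ⟨⟨a, b⟩, rfl⟩ := hle hg
      by_cases ha : a = 1
      · refine key b a (sw _ _ hg) fun hb1 => g1 (Subtype.ext ?_)
        show θ (a, b) = 1
        rw [ha, hb1]; exact map_one θ
      · exact key a b hg ha
  -- centralizer
  have cz : ∀ g, (∀ m, Commute g (θ m)) → g ∈ θ.range := fun g hg => by
    obtain ⟨⟨a, b⟩, q | q⟩ := h.nz g (by
      rw [(hg _).eq, mul_inv_cancel_right]; exact mem_zpowers _)
    · exact ⟨_, q.symm⟩
    · exfalso
      refine out a fun x => ?_
      have q1 := (hg (x, 1)).eq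
      have q2 : θ (a, b) * θ (τ x, τ 1) = θ (x, 1) * θ (a, b) := by
        rw [← h.ta]
        calc _ = (θ (a, b) * t * θ (x, 1)) * t := by simp only [mul_assoc]
          _ = θ (x, 1) * θ (a, b) * (t * t) := by rw [← q, q1, q]; simp only [mul_assoc]
          _ = _ := by rw [h.tt, mul_one]
      rw [← map_mul, ← map_mul] at q2
      exact congrArg Prod.fst (h.inj q2)
  refine ⟨θ.range, hN, le_antisymm (sup_le (sSup_le ?_) (sSup_le ?_)) ?_, ⟨e.symm⟩, mn, ?_,
    fun g => (pk _).1 (by rw [map_pow, pow_two]; exact sq _)⟩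
  · rintro K ⟨-, hK, -⟩
    rw [← isPerfect_iff.1 hK]
    exact (commutator_mono le_top le_top).trans cm
  · rintro M ⟨hM, hnil⟩
    rcases mn (M ⊓ θ.range) inferInstance inf_le_right with q | q
    · intro g hg
      exact cz g fun m => commute_of_normal_of_disjoint M θ.range hM hN (disjoint_iff.2 q) g _ hg
        ⟨m, rfl⟩
    · exfalso
      have l : ∀ x, (θ.comp (MonoidHom.inl A5 A5)) x ∈ M := fun x => by
        have : θ (x, 1) ∈ M ⊓ θ.range := q.symm ▸ ⟨_, rfl⟩
        exact this.1
      have inj : Function.Injective ((θ.comp (MonoidHom.inl A5 A5)).codRestrict M l) :=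
        fun x y hxy => congrArg Prod.fst (h.inj (congrArg Subtype.val hxy))
      exact Group.IsPerfect.not_isNilpotent (G := A5)
        (nilpotent_of_mulEquiv (MonoidHom.ofInjective inj).symm)
  · refine le_trans ?_ le_sup_left
    rintro _ ⟨⟨x, y⟩, rfl⟩
    have c1 := comp h.inj (MonoidHom.inl A5 A5) (fun x y q => congrArg Prod.fst q) ⟨by
      rintro _ ⟨a, rfl⟩ ⟨u, v⟩; exact ⟨u * a * u⁻¹, by simp⟩⟩
    have c2 := comp h.inj (MonoidHom.inr A5 A5) (fun x y q => congrArg Prod.snd q) ⟨by
      rintro _ ⟨a, rfl⟩ ⟨u, v⟩; exact ⟨v * a * v⁻¹, by simp⟩⟩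
    have m1 : θ (x, 1) ∈ Cfsg.layer G := (le_sSup c1 : _ ≤ Cfsg.layer G) ⟨x, rfl⟩
    have m2 : θ (1, y) ∈ Cfsg.layer G := (le_sSup c2 : _ ≤ Cfsg.layer G) ⟨y, rfl⟩
    have := mul_mem m1 m2
    rwa [← map_mul, Prod.mk_mul_mk, mul_one, one_mul] at this
  · rw [index_eq_card, Nat.card_eq_fintype_card]; omega

end H24.D5
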