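import Cfsg.Agent.H24.MS6

/-! The multiplier of `²E₆(q)`. -/

set_option linter.unusedSectionVars false
set_option maxHeartbeats 400000
set_option synthInstance.maxSize 1024

namespace H24
open Subgroup St0 Cfsg.Lie
open scoped commutatorElement

theorem exists_stem {G' G : Type*} [Group G'] [Group G] (θ : G' →* G) (hs : Function.Surjective θ)
    (hc : θ.ker ≤ center G') {M : Subgroup G} (hM : M ≤ ⁅M, M⁆) {m : ℕ} (hm : ∀ c ∈ θ.ker, c ^ m = 1) :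
    ∃ Γ : Subgroup G', Γ.map θ = M ∧ Γ ≤ ⁅Γ, Γ⁆ ∧ ∀ x, θ x ∈ M → ∀ n, x ^ n = 1 → n.Coprime m → x ∈ Γ := by
  have h1 : ⁅M.comap θ, M.comap θ⁆.map θ = M := by
    rw [Subgroup.map_commutator, map_comap_eq_self_of_surjective hs]
    exact le_antisymm (commutator_le_self M) hM
  have cen : ∀ c, θ c = 1 → ∀ e, Commute c e := fun c h e => (mem_center_iff.1 (hc h) e).symm
  have h2 : ∀ x, θ x ∈ M → ∃ y ∈ ⁅M.comap θ, M.comap θ⁆, ∃ c, θ c = 1 ∧ x = y * c := fun x hx => by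
    obtain ⟨y, hy, e⟩ := h1.ge hx
    exact ⟨y, hy, exists_cen e.symm⟩
  refine ⟨_, h1, commutator_le.2 fun a ha b hb => ?_, fun x hx n hn co => ?_⟩
  · obtain ⟨a, ha', c, hc, rfl⟩ := h2 a ha
    obtain ⟨b, hb', d, hd, rfl⟩ := h2 b hb
    rw [(cE_cen (cen c hc) _ _).1, (cE_cen (cen d hd) _ _).2]
    exact commutator_mem_commutator ha' hb'
  · obtain ⟨y, hy, c, hc, rfl⟩ := h2 x hx
    exact mem_of_pow_coprime co (hn ▸ one_mem _) (by rw [(cen c hc y).symm.mul_pow, hm c hc, mul_one]; exact pow_mem hy m)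

theorem Sl0.pow_char {F G : Type*} [Field F] [Group G] (A : Sl0 F G) (p : ℕ) [CharP F p] (t : F) :
    A.a t ^ p = 1 ∧ A.b t ^ p = 1 := by
  have : ∀ n : ℕ, A.a t ^ n = A.a (n * t) ∧ A.b t ^ n = A.b (n * t) := fun n => by
    induction n with
    | zero => simp [A.a_zero, A.b_zero]
    | succ n ih => simp [pow_succ, ih.1, ih.2, add_mul, A.a_add, A.b_add]
  simpa [A.a_zero, A.b_zero] using this p

theorem Tab.Chk.Pack.stem_of.{u} {D : ChevalleyDatum} {T : Tab} {h : T.Chk D} {F : Type u} [Field F]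
    {M : Subgroup (GL D.Idx F)} {m : ℕ} (P : h.Pack F M m) {G' : Type u} [Group G'] [Finite G'] (θ : G' →* D.group F)
    (hc : θ.ker ≤ center G') {Γ : Subgroup G'} (h1 : Γ.map θ = P.z.G1 P.O) (h2 : Γ ≤ ⁅Γ, Γ⁆) {c : G'} (h3 : c ∈ Γ)
    (h4 : θ c = 1) (h5 : c ≠ 1) :
    ∃ (Γ : Type u) (_ : Group Γ) (_ : Finite Γ) (σ : Γ →* M), Cfsg.IsStemExtension σ ∧ Nat.card σ.ker ≠ 1 := by
  let τ : Γ →* P.z.G1 P.O := (θ.comp Γ.subtype).codRestrict _ fun x => h1.le ⟨x, x.2, rfl⟩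
  have e : ∀ x, x ∈ (P.e'.symm.toMonoidHom.comp τ).ker ↔ θ x = 1 := fun x => by
    rw [MonoidHom.ker_comp_of_injective _ _ P.e'.symm.injective, MonoidHom.mem_ker, Subtype.ext_iff]; rfl
  refine ⟨Γ, inferInstance, inferInstance, P.e'.symm.toMonoidHom.comp τ, ⟨P.e'.symm.surjective.comp fun y => ?_,
    fun x hx => mem_center_iff.2 fun y => Subtype.ext (mem_center_iff.1 (hc ((e x).1 hx)) y), fun x _ => ?_⟩, fun h => ?_⟩
  · obtain ⟨x, hx, e⟩ := h1.ge y.2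
    exact ⟨⟨x, hx⟩, Subtype.ext e⟩
  · obtain ⟨y, hy, e⟩ := (map_subtype_commutator Γ).ge (h2 x.2)
    rwa [← show y = x from Subtype.ext e]
  · exact h5 (Subtype.ext_iff.1 (mem_bot.1 ((card_eq_one.1 h).le ((e ⟨c, h3⟩).2 h4))))

namespace E6
variable {K : Type*} [Field K] (f : K →+* K) (hf : ∀ t, f (f t) = t)

local notation "hT" => tabE6_chk
local notation "SS" => Tab.Chk.grp tabE6_chk K
local notation "xx" r => St0.x (St.toSt0 (Tab.Chk.grp tabE6_chk K)) (Tab.Chk.fin tabE6_chk r)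

/-- the levels -/
def gL : List ℕ := [0, 0, 0, 0, 0, 0, 0, 0, 0, 0, 0, 0, 0, 0, 0, 0, 0, 0, 0, 0, 0, 0, 0, 0, 0, 0, 0, 0, 0, 0, 0, 0, 0, 0, 0, 0, 0, 1,
  4, 2, 5, 7, 1, 5, 8, 10, 3, 6, 9, 11, 9, 12, 13, 14, 16, 18, 0, 4, 7, 10, 15, 11, 13, 17, 16, 19, 20, 18, 20, 21,
  22, 23]

/-- certificates for the pairs of levels -/
def cP : List (List (ℕ × ℕ × ℕ)) := [[(4, 36, 36)], [(2, 36, 37), (7, 42, 42)], [(1, 36, 39), (1, 37, 39), (39, 2, 70)], [(0, 36, 46), (0, 37, 46), (0,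
  39, 46), (46, 1, 71)], [(2, 36, 38), (6, 38, 37), (1, 38, 39), (0, 38, 46), (7, 38, 38)], [(1, 36, 40), (1, 37,
  40), (2, 40, 39), (0, 40, 46), (1, 38, 40), (9, 43, 43)], [(0, 36, 47), (0, 37, 47), (0, 39, 47), (1, 47, 46), (0,
  38, 47), (0, 40, 47), (47, 2, 71)], [(1, 36, 41), (1, 37, 41), (2, 41, 39), (0, 41, 46), (1, 38, 41), (6, 40, 41),
  (0, 41, 47), (9, 41, 41)], [(1, 36, 44), (1, 37, 44), (4, 39, 44), (0, 44, 46), (1, 38, 44), (2, 40, 44), (0, 44,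
  47), (2, 41, 44), (44, 6, 70)], [(0, 36, 48), (0, 37, 48), (0, 39, 48), (1, 48, 46), (0, 38, 48), (0, 40, 48), (2,
  48, 47), (0, 41, 48), (0, 44, 48), (12, 50, 50)], [(1, 36, 45), (1, 37, 45), (3, 39, 45), (0, 45, 46), (1, 38, 45),
  (2, 40, 45), (0, 45, 47), (2, 41, 45), (3, 44, 45), (0, 45, 48), (10, 45, 45)], [(0, 36, 49), (0, 37, 49), (0, 39,
  49), (1, 49, 46), (0, 38, 49), (0, 40, 49), (2, 49, 47), (0, 41, 49), (0, 44, 49), (6, 48, 49), (0, 45, 49), (12,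
  49, 49)], [(0, 36, 51), (0, 37, 51), (0, 39, 51), (1, 51, 46), (0, 38, 51), (0, 40, 51), (4, 47, 51), (0, 41, 51),
  (0, 44, 51), (2, 48, 51), (0, 45, 51), (2, 49, 51), (51, 6, 71)], [(0, 36, 52), (0, 37, 52), (0, 39, 52), (1, 52,
  46), (0, 38, 52), (0, 40, 52), (3, 47, 52), (0, 41, 52), (0, 44, 52), (2, 48, 52), (0, 45, 52), (2, 49, 52), (3,
  51, 52), (13, 52, 52)], [(0, 36, 53), (0, 37, 53), (0, 39, 53), (4, 46, 53), (0, 38, 53), (0, 40, 53), (1, 47, 53),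
  (0, 41, 53), (0, 44, 53), (1, 48, 53), (0, 45, 53), (1, 49, 53), (1, 51, 53), (1, 52, 53), (53, 8, 71)], [(1, 36,
  60), (1, 37, 60), (3, 39, 60), (0, 60, 46), (1, 38, 60), (2, 40, 60), (0, 60, 47), (2, 41, 60), (3, 44, 60), (0,
  60, 48), (4, 60, 45), (0, 60, 49), (0, 60, 51), (0, 60, 52), (0, 60, 53), (60, 18, 70)], [(0, 36, 54), (0, 37, 54),
  (0, 39, 54), (3, 46, 54), (0, 38, 54), (0, 40, 54), (1, 47, 54), (0, 41, 54), (0, 44, 54), (1, 48, 54), (0, 45,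
  54), (1, 49, 54), (1, 51, 54), (1, 52, 54), (3, 53, 54), (0, 60, 54), (14, 54, 54)], [(0, 36, 63), (0, 37, 63), (0,
  39, 63), (1, 63, 46), (0, 38, 63), (0, 40, 63), (3, 47, 63), (0, 41, 63), (0, 44, 63), (2, 48, 63), (0, 45, 63),
  (2, 49, 63), (3, 51, 63), (4, 63, 52), (1, 63, 53), (0, 60, 63), (1, 63, 54), (63, 18, 71)], [(0, 36, 55), (0, 37,
  55), (0, 39, 55), (2, 46, 55), (0, 38, 55), (0, 40, 55), (1, 47, 55), (0, 41, 55), (0, 44, 55), (1, 48, 55), (0,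
  45, 55), (1, 49, 55), (1, 51, 55), (1, 52, 55), (2, 53, 55), (0, 60, 55), (2, 54, 55), (1, 63, 55), (15, 55, 55)],
  [(0, 36, 65), (0, 37, 65), (0, 39, 65), (3, 46, 65), (0, 38, 65), (0, 40, 65), (1, 47, 65), (0, 41, 65), (0, 44,
  65), (1, 48, 65), (0, 45, 65), (1, 49, 65), (1, 51, 65), (1, 52, 65), (3, 53, 65), (0, 60, 65), (4, 65, 54), (1,
  63, 65), (2, 65, 55), (65, 20, 71)], [(0, 36, 66), (0, 37, 66), (0, 39, 66), (2, 46, 66), (0, 38, 66), (0, 40, 66),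
  (1, 47, 66), (0, 41, 66), (0, 44, 66), (1, 48, 66), (0, 45, 66), (1, 49, 66), (1, 51, 66), (1, 52, 66), (2, 53,
  66), (0, 60, 66), (2, 54, 66), (1, 63, 66), (6, 55, 66), (2, 65, 66), (36, 68, 68)], [(0, 36, 69), (0, 37, 69), (0,
  39, 69), (3, 46, 69), (0, 38, 69), (0, 40, 69), (1, 47, 69), (0, 41, 69), (0, 44, 69), (1, 48, 69), (0, 45, 69),
  (1, 49, 69), (1, 51, 69), (1, 52, 69), (3, 53, 69), (0, 60, 69), (6, 69, 54), (1, 63, 69), (7, 69, 55), (4, 65,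
  69), (6, 69, 66), (69, 24, 71)], [(0, 36, 70), (0, 37, 70), (0, 39, 70), (2, 46, 70), (0, 38, 70), (0, 40, 70), (3,
  47, 70), (0, 41, 70), (0, 44, 70), (2, 48, 70), (0, 45, 70), (2, 49, 70), (3, 51, 70), (6, 52, 70), (2, 53, 70),
  (0, 60, 70), (2, 54, 70), (4, 63, 70), (6, 55, 70), (2, 65, 70), (8, 70, 66), (6, 69, 70), (70, 25, 71)], [(1, 36,
  71), (1, 37, 71), (3, 39, 71), (2, 46, 71), (1, 38, 71), (2, 40, 71), (1, 47, 71), (2, 41, 71), (3, 44, 71), (1,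
  48, 71), (6, 45, 71), (1, 49, 71), (1, 51, 71), (1, 52, 71), (2, 53, 71), (4, 60, 71), (2, 54, 71), (1, 63, 71),
  (6, 55, 71), (2, 65, 71), (11, 71, 66), (6, 69, 71), (8, 70, 71), (71, 46, 70)]]

/-- certificates for the levels -/
def cL : List (ℕ × ℕ) := [(3, 36), (2, 37), (1, 39), (0, 46), (2, 38), (1, 40), (0, 47), (1, 41), (1, 44), (0, 48), (1, 45), (0, 49), (0,
  51), (0, 52), (0, 53), (1, 60), (0, 54), (0, 63), (0, 55), (0, 65), (0, 66), (0, 69), (0, 70), (1, 71)]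

/-- the exponents -/
noncomputable def ev (d r : ℕ) : ℤ × ℤ × ℤ := (tabE6.A d r, tabE6.A (morE6.ph d) r, 0)

theorem lv : (z f hf).Lv (fun r => nth gL r) ∧ ∀ r, (hT).cd.Pos r → nth gL r ≤ 23 :=
  (hT).lv _ _ _ _ _ _ (by decide +kernel)

theorem ch (d : ℕ) (hd : d < tabE6.n) (t : K) (ht : t ≠ 0) : ∃ k ∈ (SS).H ⊓ (z f hf).G1 (O f hf), ∀ r < tabE6.n,
    (SS).Ch k ((hT).fin r) (t ^ (ev d r).1 * f t ^ (ev d r).2.1) := by
  have e : ∀ (i : Fin 6) (t : Kˣ), ((td f hf).ψ i t : K) = f t := fun i t =>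
    ((hT).td_ψ morE6_chk f Nat.cast_zero π hπ (surj f hf) i (ex1 _) t).trans (pow_one _)
  have a1 : morE6.ph d < tabE6.n := by simpa only [(hT).val_fin hd] using ((hT).mor_row hT morE6_chk ((hT).fin d)).1
  have := (td f hf).mem2 ((hT).grp_r3 K) (z f hf).σ_x (hT_mem f hf) (fun i => ⟨(by decide : ∀ i, π (π i) = i) i,
    fun t => Units.ext (by erw [e, e, hf])⟩) ((hT).fin d) ht
  erw [(hT).td_ρ morE6_chk f Nat.cast_zero π hπ (surj f hf) hd, show (td f hf).m.e _ = 1 from ex1 _, pow_one] at this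
  refine ⟨_, this, fun r hr => ?_⟩
  simp only [ev, ← (hT).A_fin hd hr, ← (hT).A_fin a1 hr]
  exact ((SS).ch_h _ _ ht).mul ((SS).ch_h _ _ (by simpa using ht))

variable [Fintype K] {q : ℕ} (h3 : 2 < q) (hK : Fintype.card K = q ^ 2) (hq : ∀ t, f t = t ^ q)
include h3 hK hq

theorem cs : (hT).CS ev (fun e => (e.1 ≠ 0 ∨ e.2.1 ≠ 0) ∧ |e.1| ≤ 2 ∧ |e.2.1| ≤ 1)
    (fun e e' => e = (1, 0, 0) ∧ e' = (1, 0, 0)) SS ((z f hf).G1 (O f hf)) := by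
  refine ⟨⟨Finset.univ, by rw [Finset.card_univ, hK]; nlinarith⟩, fun t e => t ^ e.1 * f t ^ e.2.1, ch f hf,
    fun t ht e => by simp [zpow_ne_zero, ht], by simp, ?_, ?_⟩
  · rintro ⟨a, b, c⟩ ⟨h0, h1, h2⟩
    simp only [abs_le] at h0 h1 h2
    have h5 : (3 : ℤ) ≤ q := by exact_mod_cast h3
    obtain ⟨_, _⟩ := h2
    obtain ⟨t, t0, ht⟩ := exists_zpow_ne (K := K) (e := a + q * b) (by interval_cases b <;> omega) (by
      rw [Nat.card_eq_fintype_card, hK, abs_lt]; push_cast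
      interval_cases b <;> constructor <;> nlinarith)
    exact ⟨t, t0, by simpa only [hq, ← zpow_natCast, ← zpow_mul, ← zpow_add₀ t0] using ht⟩
  · rintro _ _ ⟨rfl, rfl⟩ v hv
    exact ⟨v, hv, by simp⟩

variable {E : Type*} [Group E] [Finite E] {θ : E →* chevE6.group K} (hR : θ.range = (z f hf).G1 (O f hf))
include hR

theorem ker_dvd (cen : ∀ c, θ c = 1 → ∀ e, Commute c e) (hs : θ.ker ≤ commutator E) :
    Nat.card θ.ker ∣ Nat.gcd 3 (q + 1) := by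
  obtain ⟨p, hp⟩ := CharP.exists K
  have := Fact.mk (CharP.char_is_prime K p)
  have : Finite (chevE6.group K) := (SS).finite ((hT).grp_Gr K) ((hT).grp_r3 K)
  have hq1 : 1 < q := by omega
  have C := cs f hf h3 hK hq
  have X : PX p θ := by
    refine (sub f hf).px' hR p ((hT).grp_adj K) cen hs (lv f hf).1 (lv f hf).2 (fun k hk => C.fp
      (c := cL.getD k 0) (by revert k; decide +kernel)) fun k hk j hj => ?_
    have : ∀ k ≤ 23, ∀ j ≤ k, tabE6.Gp gL ev (fun e => (e.1 ≠ 0 ∨ e.2.1 ≠ 0) ∧ |e.1| ≤ 2 ∧ |e.2.1| ≤ 1)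
        (fun e e' => e = (1, 0, 0) ∧ e' = (1, 0, 0)) j k ((cP.getD k []).getD j 0) ∨
        tabE6.Kp morE6 gL j k ((cP.getD k []).getD j 0) := by decide +kernel
    obtain hc | hc := this k hk j hj
    exacts [C.pair _ _ hc, Or.inl ((hT).kl _ _ _ _ _ _ (sub f hf) hR cen (lv f hf).1 hc)]
  have h1 := (sub f hf).card_ker_dvd hR X le_rfl hs
  have a1 : ∀ {a b : ℕ} (H : a < tabE6.n ∧ tabE6.neg a = b) (k : Fin 4),
      (∀ g, g ∈ (SS).UK ((O f hf).J k) ⊓ (z f hf).Fx ↔ ∃ t, f t = t ∧ g = (xx a) t) →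
      (∀ g, g ∈ (SS).VK ((O f hf).J k) ⊓ (z f hf).Fx ↔ ∃ t, f t = t ∧ g = (xx b) t) →
      Nat.card (Tw.Hk (O f hf) p θ k) ∣ q - 1 := fun H k hU hV => by
    have := (sub f hf).card_Hk hR p X ((hT).sl SS _ _ H) (f.eqLocusField (RingHom.id K)).subtype k
      (fun a => (hU a).trans ⟨fun ⟨t, h, e⟩ => ⟨⟨t, h⟩, e⟩, fun ⟨t, e⟩ => ⟨t, t.2, e⟩⟩)
      (fun a => (hV a).trans ⟨fun ⟨t, h, e⟩ => ⟨⟨t, h⟩, e⟩, fun ⟨t, e⟩ => ⟨t, t.2, e⟩⟩)
      (fun t => (SS).x_eq_one_iff.1) fun t ht => by rw [(hT).sl_h]; exact (SS).h_mem ht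
    rwa [show Nat.card (f.eqLocusField (RingHom.id K)) = q from
      (Nat.card_congr (Equiv.subtypeEquivRight fun t => by simp [hq])).trans (card_fixed K hq1 hK).2] at this
  have a2 : ∀ {a b a' b' : ℕ} (H : Nd a b a' b') (k : Fin 4), (SS).Par ((SS).VK ((O f hf).J k)) [(hT).fin b, (hT).fin b'] →
      (∀ g, g ∈ (SS).UK ((O f hf).J k) ⊓ (z f hf).Fx ↔ ∃ t, g = (xx a) t * (xx a') (f t)) →
      (∀ g, g ∈ (SS).VK ((O f hf).J k) ⊓ (z f hf).Fx ↔ ∃ t, g = (xx b) t * (xx b') (f t)) →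
      Nat.card (Tw.Hk (O f hf) p θ k) ∣ (q - 1) * (q + 1) := fun H k hP hU hV => by
    have := (sub f hf).card_Hk hR p X (sl f H) (RingHom.id K) k hU hV
      (fun t e => (hP.inj2 (t' := 0) (u' := 0) (by simpa [sl_b] using e)).1) fun t ht => sl_h f H t ▸
        mul_mem ((SS).h_mem ht) ((SS).h_mem (by simpa using ht))
    rwa [Nat.card_eq_fintype_card (α := K), hK, ← one_pow 2, Nat.sq_sub_sq, mul_comm] at this
  rw [Fin.prod_univ_four] at h1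
  replace h1 := h1.trans (mul_dvd_mul (mul_dvd_mul (mul_dvd_mul (a1 (by decide +kernel) 0 (U0 f hf) (V0 f hf))
    (a1 (by decide +kernel) 1 (U1 f hf) (V1 f hf))) (a2 nd2 2 (pV f hf 2) (U2 f hf) (V2 f hf)))
    (a2 nd3 3 (pV f hf 3) (U3 f hf) (V3 f hf)))
  rw [show (q - 1) * (q - 1) * ((q - 1) * (q + 1)) * ((q - 1) * (q + 1)) = (q - 1) ^ 4 * (q + 1) ^ 2 by ring,
    ← card_H f hf hq1 hK hq] at h1
  exact Nat.dvd_of_mul_dvd_mul_right Nat.card_pos h1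

end E6

open E6 in
theorem E6.schur.{u} {K : Type u} [Field K] [Fintype K] {q : ℕ} (hq : IsPrimePow q) (hK : Fintype.card K = q ^ 2)
    (h2 : q ≠ 2) : Cfsg.HasCyclicSchurMultiplier (twistedE6 K q) (Nat.gcd 3 (q + 1)) := by
  obtain ⟨f, hf, hq'⟩ := exists_f hq hK
  have : Finite (chevE6.group K) := (tabE6_chk.grp K).finite (tabE6_chk.grp_Gr K) (tabE6_chk.grp_r3 K)
  have hn := (Nat.dvd_prime Nat.prime_three).1 (Nat.gcd_dvd_left 3 (q + 1))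
  refine hasSchur_of (hn.imp_right fun e => by rw [e]; exact Nat.prime_three) ?_ fun Γ _ _ σ hσ => ?_
  swap
  · obtain ⟨θ, hR, e, cen⟩ := (pack f hf hq').stem hσ
    exact e ▸ ker_dvd f hf (lt_of_le_of_ne hq.two_le h2.symm) hK hq' hR cen (e.le.trans hσ.2.2)
  rcases hn with hn | hn
  · exact ⟨PUnit, inferInstance, inferInstance, 1, Or.inr ⟨hn, Finite.of_equiv _ (pack f hf hq').e'.symm.toEquiv⟩⟩
  obtain ⟨p, hp⟩ := CharP.exists K
  have := Fact.mk (CharP.char_is_prime K p)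
  obtain ⟨h3, hi⟩ := scE6 K
  have := (tabE6_chk.stb K).finite (tabE6_chk.stb_Gr K) h3
  let θ := tabE6_chk.liftS (tabE6_chk.grp K).toSt0 (tabE6_chk.grp_r3 K)
  have hθ : ∀ r t, θ ((tabE6_chk.stb K).x r t) = (tabE6_chk.grp K).x r t := tabE6_chk.liftS_x _ _
  have hk : θ.ker = (tabE6_chk.cd.theta K).ker.map ((tabE6_chk.stb K).hh h3) := by
    rw [(tabE6_chk.stb K).ker_eq_center (tabE6_chk.stb_Gr K) _ (tabE6_chk.grp_adj K) θ hθ, (tabE6_chk.stb K).center_eq (tabE6_chk.stb_Gr K), St.Z_eq_map]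
  have hc := (tabE6_chk.stb K).ker_le_center (tabE6_chk.stb_Gr K) _ θ hθ
  obtain ⟨Γ, g1, g2, g3⟩ := exists_stem θ (St.surjective_of _ (tabE6_chk.grp_Gr K) θ hθ) hc
    ((sub f hf).G1_le_commutator (perf f hf (exists_sq hq.one_lt hK))) (m := Nat.card K - 1) fun c h => by
      obtain ⟨c, -, rfl⟩ := hk.le h
      rw [← map_pow, show c ^ (Nat.card K - 1) = 1 from funext fun i => by
        rw [← Nat.card_units]; exact pow_card_eq_one', map_one]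
  have co : p.Coprime (Nat.card K - 1) := by simpa using St.coprime_card (F := K) p 1
  obtain ⟨c, ⟨c1, c2⟩, c3⟩ := (((td f hf).T ⊓ (tabE6_chk.cd.theta K).ker).bot_or_exists_ne_one).resolve_left fun e => by
    have := card_Tker f hf hq.one_lt hK hq'
    rw [e, hn] at this
    simp at this
  suffices h : (tabE6_chk.stb K).hh h3 c ∈ Γ by
    obtain ⟨Γ', _, _, σ, H⟩ := (pack f hf hq').stem_of θ hc g1 g2 h (hk.ge ⟨c, c2, rfl⟩)
      fun e => c3 (hi (e.trans (map_one _).symm))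
    exact ⟨Γ', _, ‹_›, σ, Or.inl H⟩
  have a1 : ∀ {a b : ℕ} (H : a < tabE6.n ∧ tabE6.neg a = b) (k : Fin 4),
      (∀ g, g ∈ (tabE6_chk.grp K).UK ((O f hf).J k) ⊓ (z f hf).Fx ↔ ∃ t, f t = t ∧ g = (tabE6_chk.grp K).x (tabE6_chk.fin a) t) →
      (∀ g, g ∈ (tabE6_chk.grp K).VK ((O f hf).J k) ⊓ (z f hf).Fx ↔ ∃ t, f t = t ∧ g = (tabE6_chk.grp K).x (tabE6_chk.fin b) t) →
      ∀ t, f t = t → (tabE6_chk.stb K).h (tabE6_chk.fin a) t ∈ Γ := fun H k hU hV t ht => by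
    rw [← tabE6_chk.sl_h _ H]
    exact Sl0.h_mem' _ (f.eqLocusField (RingHom.id K))
      (fun t ht => g3 _ ((hθ _ t).symm ▸ (sub f hf).UK_le k ((hU _).2 ⟨t, ht, rfl⟩)) p (Sl0.pow_char _ p t).1 co)
      (fun t ht => g3 _ ((hθ _ t).symm ▸ (sub f hf).VK_le k ((hV _).2 ⟨t, ht, rfl⟩)) p (Sl0.pow_char _ p t).2 co) ht
  have a2 : ∀ {a b a' b' : ℕ} (H : Nd a b a' b') (k : Fin 4),
      (∀ g, g ∈ (tabE6_chk.grp K).UK ((O f hf).J k) ⊓ (z f hf).Fx ↔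
        ∃ t, g = (tabE6_chk.grp K).x (tabE6_chk.fin a) t * (tabE6_chk.grp K).x (tabE6_chk.fin a') (f t)) →
      (∀ g, g ∈ (tabE6_chk.grp K).VK ((O f hf).J k) ⊓ (z f hf).Fx ↔
        ∃ t, g = (tabE6_chk.grp K).x (tabE6_chk.fin b) t * (tabE6_chk.grp K).x (tabE6_chk.fin b') (f t)) →
      ∀ t, (tabE6_chk.stb K).h (tabE6_chk.fin a) t * (tabE6_chk.stb K).h (tabE6_chk.fin a') (f t) ∈ Γ := fun {a b a' b'} H k hU hV t => by
    let A := (tabE6_chk.sl (tabE6_chk.stb K) a b H.1).mul ((tabE6_chk.sl _ a' b' H.2.1).comp f) ((tabE6_chk.sl_cm _ H.2.2).comp_right _)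
    rw [← tabE6_chk.sl_h _ H.1, ← tabE6_chk.sl_h _ H.2.1, ← Sl0.comp_h, ← Sl0.mul_h _ _ ((tabE6_chk.sl_cm _ H.2.2).comp_right _)]
    exact A.h_mem (fun t => g3 _ ((sub f hf).UK_le k ((hU _).2 ⟨t, (map_mul θ _ _).trans (congrArg₂ _ (hθ _ _) (hθ _ _))⟩))
      p (A.pow_char p t).1 co) (fun t => g3 _ ((sub f hf).VK_le k ((hV _).2
        ⟨t, (map_mul θ _ _).trans (congrArg₂ _ (hθ _ _) (hθ _ _))⟩)) p (A.pow_char p t).2 co) t
  obtain ⟨h1, h3', h4, h5⟩ := (mem_T f hf).1 c1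
  obtain ⟨φ, e1, e⟩ : ∃ φ : (Fin 6 → Kˣ) →* chevE6.SteinbergGroup K, (tabE6_chk.stb K).hh h3 c = φ c ∧
      ∀ i t, φ (Pi.mulSingle i t) = (tabE6_chk.stb K).h (tabE6_chk.cd.sim i) t := ⟨_, rfl, (tabE6_chk.stb K).hh_single h3⟩
  have : ∀ c : Fin 6 → Kˣ, c = Pi.mulSingle 1 (c 1) * Pi.mulSingle 3 (c 3) * (Pi.mulSingle 2 (c 2) * Pi.mulSingle 4 (c 4)) *
      (Pi.mulSingle 0 (c 0) * Pi.mulSingle 5 (c 5)) := fun c => by
    funext i; fin_cases i <;> simp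
  rw [e1, this c]
  simp only [map_mul, e]
  erw [h4, h5]
  exact mul_mem (mul_mem (mul_mem (a1 (by decide +kernel) 0 (U0 f hf) (V0 f hf) _ h1)
    (a1 (by decide +kernel) 1 (U1 f hf) (V1 f hf) _ h3')) (a2 nd2 2 (U2 f hf) (V2 f hf) _)) (a2 nd3 3 (U3 f hf) (V3 f hf) _)

end H24
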