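import Cfsg.Agent.H24.MS8
import Cfsg.Agent.S2378

/-! The multiplier of `²F₄(q)`. -/

set_option linter.unusedSectionVars false
set_option maxHeartbeats 400000
set_option synthInstance.maxSize 1024

namespace H24
open Subgroup St0 Cfsg.Lie
open scoped commutatorElement

theorem isCyclic_of_range {G G' : Type*} [Group G] [Group G'] [Finite G] {l : ℕ} [Fact l.Prime] (θ : G →* G')
    (h : ∀ Q : Sylow l G, IsCyclic Q) {P : Subgroup G'} (hP : P ≤ θ.range) (hl : IsPGroup l P) : IsCyclic P := by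
  obtain ⟨Q, hQ⟩ := (hl.comap_subtype (K := θ.range)).exists_le_sylow
  obtain ⟨Q, rfl⟩ := Sylow.mapSurjective_surjective θ.rangeRestrict_surjective l Q
  have := h Q
  have : IsCyclic (Q.mapSurjective θ.rangeRestrict_surjective) :=
    isCyclic_of_surjective _ (θ.rangeRestrict.subgroupMap_surjective Q)
  have : IsCyclic (P.subgroupOf θ.range) := Subgroup.isCyclic_of_le hQ
  exact isCyclic_of_surjective _ (subgroupOfEquivOfLe hP).surjective

section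
variable {ι Φ : Type} [Fintype ι] [DecidableEq ι] [Fintype Φ] [DecidableEq Φ] {R : CD ι Φ} {F : Type*} [Field F]
  {G : Type*} [Group G] {E : Type*} [Group E]

namespace Tw.Sub
variable {S : St R F G} {z : Tw S} {g : Φ → ℕ} {π : E →* G} {κ : Type} {O : z.sym.Orb κ} {M : Subgroup G}
  (hM : z.Sub O M) (hR : π.range = M) (cen : ∀ c, π c = 1 → ∀ e, Commute c e) (L : z.Lv g) {N : ℕ}
  (h0 : ∀ r, R.Pos r → g r ≤ N)
include hM hR cen L h0

theorem kl_top {r : Φ} (hr : R.Pos r) (o : ∀ v ≠ 0, ∃ h ∈ S.H ⊓ M, S.Ch h r v) {a b : G} (ha : a ∈ S.U ⊓ z.Fx)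
    (hb : b ∈ S.U ⊓ z.Fx) (h : ⁅a, b⁆ ∈ z.PL g (g r) ∧ ⁅a, b⁆ ∉ z.PL g (g r + 1)) : z.KL g π (g r) N := by
  refine ⟨{c | ∀ x y, π x = c → π y ∈ z.PL g N → Commute x y}, _, L.rp_onto hM.le_Fx hr h.1 h.2 o
    (fun x y hx _ => cen x hx y) fun k hk x y hx hy => ?_, Rp.self N, fun x y hx hy => hx x y rfl hy⟩
  obtain ⟨k, rfl⟩ : k ∈ π.range := hR ▸ hk.2
  obtain ⟨a, rfl⟩ : a ∈ π.range := hR ▸ hM.U_le ha
  obtain ⟨b, rfl⟩ : b ∈ π.range := hR ▸ hM.U_le hb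
  have h1 := L.normP (inv_mem (⟨S.H_le_B hk.1, hM.le_Fx hk.2⟩ : π k ∈ S.B ⊓ z.Fx)) hy
  have h2 : ∀ {u}, u ∈ S.U ⊓ z.Fx → Commute (π (k⁻¹ * y * k)) u := fun hu => by
    have := L.commP hu h1
    rw [PL_top fun r hr => Nat.lt_succ_of_le (h0 r hr), mem_bot, commutatorElement_eq_one_iff_commute] at this
    simpa using this.symm
  have := commute_comm cen (y := k⁻¹ * x * k) (h2 ha) (h2 hb) (by simp [hx, mul_assoc])
  simpa [mul_assoc] using this.symm.map (MulAut.conj k)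

theorem cw_top [Finite F] (h : ∀ k ≤ N, z.Pair g π M k N) : z.CW g π ⊥ 0 N := fun x y hx hy =>
  congrArg Subtype.val ((hM.bx hR cen).cw_all L (cpl_bot fun r hr => Nat.lt_succ_of_le (h0 r hr)) (fun k hk => (h k hk).res _)
    ⟨x, S.U_le_B (PL_le _ hx).1⟩ ⟨y, S.U_le_B (PL_le _ hy).1⟩ hx hy)

end Tw.Sub

theorem Tab.Chk.yw_lvl {D : ChevalleyDatum} {T : Tab} (h : T.Chk D) {z : Tw (h.grp F)} {g : List ℕ}
    (L : z.Lv fun r => nth g r) {r : ℕ} {l : List ℕ} (hx : h.yw F (r :: l) ∈ z.Fx)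
    (H : (∀ s ∈ r :: l, s < T.n ∧ T.isP s = true ∧ nth g r ≤ nth g s) ∧ r ∉ l) :
    h.yw F (r :: l) ∈ z.PL (fun r => nth g r) (nth g (h.fin r)) ∧
      h.yw F (r :: l) ∉ z.PL (fun r => nth g r) (nth g (h.fin r) + 1) := by
  have h1 := H.1 r List.mem_cons_self
  obtain ⟨φ, b1, -, -, b4, -⟩ := L.coord (h.posP h1.1 h1.2.1)
  simp only [h.val_fin h1.1] at b1 b4 ⊢
  have h2 : h.yw F l ∈ (h.grp F).XS (h.cd.TL (fun r => nth g r) (nth g r) \ {h.fin r}) :=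
    Subgroup.list_prod_mem _ fun y hy => by
      obtain ⟨s, hs, rfl⟩ := List.mem_map.1 hy
      have := H.1 s (List.mem_cons_of_mem _ hs)
      exact (h.grp F).x_mem (T := _ \ _) ⟨h.mem_TL this, fun e => h.fin_ne h1.1 this.1 (by rintro rfl; exact H.2 hs) e⟩ _
  rw [yw_cons] at hx ⊢
  have h3 : (h.grp F).x (h.fin r) 1 * h.yw F l ∈ z.PL (fun r => nth g r) (nth g r) :=
    ⟨((h.grp F).XS _).mul_mem ((h.grp F).x_mem (h.mem_TL h1) _) ((h.grp F).XS_mono Set.diff_subset h2), hx⟩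
  exact ⟨h3, fun e => one_ne_zero ((b1 _ 1 (by rwa [inv_mul_cancel_left])).symm.trans ((b4 _ h3).2 e))⟩

end

namespace F4
variable {K : Type*} [Field K] (h2 : (2 : K) = 0) (f : K →+* K) (hf : ∀ t, f (f t) ^ 2 = t)

local notation "hT" => tabF4_chk
local notation "SS" => Tab.Chk.grp tabF4_chk K

/-- the levels -/
def gL : List ℕ := [0, 0, 0, 0, 0, 0, 0, 0, 0, 0, 0, 0, 0, 0, 0, 0, 0, 0, 0, 0, 0, 0, 0, 0, 0, 1, 2, 1, 3, 4, 3, 5, 6, 0,
  2, 5, 7, 6, 8, 9, 10, 4, 7, 8, 11, 9, 10, 11]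

/-- certificates for the pairs of levels -/
def cP : List (List (ℕ × ℕ × ℕ)) := [[(0, 24, 24)], [(0, 25, 24), (1, 25, 25)], [(0, 24, 26), (0, 25, 26), (0, 26, 26)],
  [(0, 28, 24), (0, 0, 0), (0, 28, 26), (1, 28, 28)], [(0, 24, 29), (0, 25, 29), (0, 26, 29), (0, 28, 29), (0, 29, 29)],
  [(0, 24, 31), (0, 25, 31), (0, 26, 31), (0, 28, 31), (0, 29, 31), (0, 31, 31)],
  [(0, 24, 32), (0, 25, 32), (0, 26, 32), (0, 28, 32), (0, 29, 32), (0, 31, 32), (0, 32, 32)],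
  [(1, 36, 24), (0, 25, 36), (0, 0, 0), (0, 28, 36), (1, 36, 29), (1, 36, 31), (1, 36, 32), (0, 36, 36)],
  [(2, 24, 38), (0, 25, 38), (1, 26, 38), (0, 28, 38), (1, 29, 38), (1, 35, 43), (2, 32, 43), (0, 36, 38), (0, 38, 38)],
  [(2, 24, 39), (0, 25, 39), (1, 26, 39), (0, 28, 39), (4, 41, 39), (5, 31, 39), (1, 32, 45), (0, 36, 39), (0, 38, 39),
    (0, 39, 39)], [(2, 24, 40), (0, 25, 40), (1, 26, 40), (0, 28, 40), (4, 29, 40), (0, 0, 0), (1, 32, 40), (0, 36, 40),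
    (0, 38, 40), (0, 39, 40), (0, 40, 40)], [(2, 24, 44), (0, 25, 44), (1, 26, 44), (0, 28, 44), (0, 0, 0), (5, 31, 44),
    (1, 32, 47), (0, 42, 44), (0, 43, 44), (0, 45, 44), (0, 46, 44), (0, 44, 44)]]

/-- the exponents -/
noncomputable def ev (d r : ℕ) : V3 := (tabF4.A d r, morF4.ex d * tabF4.A (morF4.ph d) r, 0)

theorem lv : (z h2 f hf).Lv (fun r => nth gL r) ∧ ∀ r, (hT).cd.Pos r → nth gL r ≤ 11 :=
  (hT).lv _ _ _ _ _ _ (by decide +kernel)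

theorem ch (d : ℕ) (hd : d < tabF4.n) (t : K) (ht : t ≠ 0) : ∃ k ∈ (SS).H ⊓ (z h2 f hf).G1 (O h2 f hf), ∀ r < tabF4.n,
    (SS).Ch k ((hT).fin r) (t ^ (ev d r).1 * f t ^ (ev d r).2.1) := by
  have e := fun (i : Fin chevF4.rank) => (hT).td_ψ morF4_chk f (hp h2) π hπ (surj f hf) i rfl
  have a1 : morF4.ph d < tabF4.n := by simpa only [(hT).val_fin hd] using ((hT).mor_row hT morF4_chk ((hT).fin d)).1
  have := (td h2 f hf).mem2 ((hT).grp_r3 K) (z h2 f hf).σ_x (hT_mem h2 f hf) (fun i => ⟨(by decide : ∀ i, π (π i) = i) i,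
    fun t => Units.ext (by
      erw [e, e, map_pow, ← pow_mul, (by decide +kernel : ∀ i : Fin chevF4.rank,
        morF4.ex (tabF4.simple i) * morF4.ex (tabF4.simple (π i)) = 2) i, hf])⟩) ((hT).fin d) ht
  erw [(hT).td_ρ morF4_chk f (hp h2) π hπ (surj f hf) hd, show (td h2 f hf).m.e ((hT).fin d) = morF4.ex d from
    congrArg morF4.ex ((hT).val_fin hd)] at this
  refine ⟨_, this, fun r hr => ?_⟩
  simp only [ev, ← (hT).A_fin hd hr, ← (hT).A_fin a1 hr, zpow_mul, zpow_natCast]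
  exact ((SS).ch_h _ _ ht).mul ((SS).ch_h _ _ (pow_ne_zero _ (by simpa using ht)))

include hf in
theorem pow_eq {t : K} (ht : t ≠ 0) {a b : ℤ} (h : t ^ a * f t ^ b = 1) : t ^ (2 * a ^ 2 - b ^ 2) = 1 := by
  have h0 : f t ≠ 0 := by simpa using ht
  have h1 := congrArg (fun x => f x ^ 2) h
  simp only [map_mul, map_zpow₀, mul_pow, map_one, one_pow] at h1
  rw [← zpow_natCast (f (f t) ^ b), ← zpow_mul, mul_comm b, zpow_mul, zpow_natCast, hf, ← zpow_natCast, ← zpow_mul] at h1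
  have h3 := congrArg (· ^ (2 * a)) h
  have h4 := congrArg (· ^ b) h1
  simp only [mul_zpow, ← zpow_mul, one_zpow] at h3 h4
  rw [zpow_sub₀ ht, div_eq_one_iff_eq (zpow_ne_zero _ ht), show 2 * a ^ 2 = a * (2 * a) by ring, pow_two b,
    eq_inv_of_mul_eq_one_left h3, eq_inv_of_mul_eq_one_right h4]
  congr 2; push_cast; ring

variable [Fintype K] (h8 : 8 ≤ Fintype.card K)
include h8

theorem cs : (hT).CS ev (fun e => 2 * e.1 ^ 2 - e.2.1 ^ 2 ≠ 0 ∧ |2 * e.1 ^ 2 - e.2.1 ^ 2| < 7)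
    (fun e e' => e = e' ∧ 2 * e.1 ^ 2 - e.2.1 ^ 2 ∣ 4) SS ((z h2 f hf).G1 (O h2 f hf)) := by
  refine ⟨⟨Finset.univ, by rw [Finset.card_univ]; omega⟩, fun t e => t ^ e.1 * f t ^ e.2.1, ch h2 f hf,
    fun t ht e => by simp [zpow_ne_zero, ht], by simp, fun e h => ?_, ?_⟩
  · obtain ⟨t, t0, ht⟩ := exists_zpow_ne (K := K) h.1 (by rw [Nat.card_eq_fintype_card]; omega)
    exact ⟨t, t0, fun e => ht (pow_eq f hf t0 e)⟩
  · rintro e _ ⟨rfl, c, hc⟩ v hv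
    obtain ⟨t, t0, ht⟩ := onto_of_inj (fun t => t ^ e.1 * f t ^ e.2.1) (fun t ht => by simp [zpow_ne_zero, ht])
      (fun t u => by simp only [map_mul, mul_zpow]; ring) (fun t t0 e => by
        have := congrArg (· ^ c) (pow_eq f hf t0 e)
        simp only [← zpow_mul, ← hc, one_zpow, zpow_ofNat] at this
        exact sub_eq_zero.1 (pow_eq_zero_iff (n := 4) (by decide) |>.1
          (by linear_combination this + (1 - 2 * t + 3 * t ^ 2 - 2 * t ^ 3) * h2))) v hv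
    exact ⟨t, t0, ht, ht⟩

variable {E : Type*} [Group E] [Finite E] {θ : E →* chevF4.group K} (hR : θ.range = (z h2 f hf).G1 (O h2 f hf))
include hR

theorem px [CharP K 2] (cen : ∀ c, θ c = 1 → ∀ e, Commute c e) (hs : θ.ker ≤ commutator E) : PX 2 θ := by
  have : Finite (chevF4.group K) := (SS).finite ((hT).grp_Gr K) ((hT).grp_r3 K)
  have C := cs h2 f hf h8
  obtain ⟨L, hL⟩ := lv h2 f hf
  have hM := sub h2 f hf
  have cx := (hT).cx_tw morF4_chk f (hp h2) π hπ (surj f hf) _ hM (hJ h2 f hf)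
  have hτ : ∀ r, (z h2 f hf).τ r 1 = 1 := fun r => by
    simpa using zτ h2 f hf (r := r) ⟨(hT).lt_n r, rfl, rfl⟩ 1
  have hp : ∀ k ≤ 11, ∀ j ≤ k, (j, k) ∈ [(1, 3), (2, 7), (5, 10), (4, 11)] ∨
      (z h2 f hf).Pair (fun r => nth gL r) θ ((z h2 f hf).G1 (O h2 f hf)) j k := fun k hk j hj =>
    ((by decide +kernel : ∀ k ≤ 11, ∀ j ≤ k, (j, k) ∈ [(1, 3), (2, 7), (5, 10), (4, 11)] ∨ tabF4.Gp gL ev
      (fun e => 2 * e.1 ^ 2 - e.2.1 ^ 2 ≠ 0 ∧ |2 * e.1 ^ 2 - e.2.1 ^ 2| < 7)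
      (fun e e' => e = e' ∧ 2 * e.1 ^ 2 - e.2.1 ^ 2 ∣ 4) j k ((cP.getD k []).getD j 0)) k hk j hj).imp_right (C.pair _ _)
  have yU : ∀ l, tabF4.chkX morF4.ph l = true ∧ (∀ s ∈ l, s < tabF4.n ∧ tabF4.isP s = true) →
      (hT).yw K l ∈ (SS).U ⊓ (z h2 f hf).Fx := fun l H => ⟨Subgroup.list_prod_mem _ fun y hy => by
    obtain ⟨s, hs, rfl⟩ := List.mem_map.1 hy
    exact (SS).x_mem_U ((hT).posP (H.2 s hs).1 (H.2 s hs).2) _, hM.le_Fx (cx.yw_mem H.1)⟩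
  have a1 := yU [33, 24] (by decide +kernel)
  have a2 := yU [28, 30] (by decide +kernel)
  have e1 : ⁅(hT).yw K [33, 24], (hT).yw K [28, 30]⁆ = (hT).yw K [29, 41, 31, 35, 32, 37, 36, 42, 38, 43, 39, 45, 46, 47] := by
    rw [commutatorElement_def, mul_inv_eq_iff_eq_mul, mul_inv_eq_iff_eq_mul, ← Tab.Chk.yw_append, ← Tab.Chk.yw_append,
      ← Tab.Chk.yw_append]
    exact (hT).yw_eq (by decide +kernel)
  have k4 : (z h2 f hf).KL (fun r => nth gL r) θ 4 11 := hM.kl_top hR cen L hL (r := (hT).fin 29)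
    ((hT).posP (by decide) (by decide +kernel)) (C.onto (d := 0) (by decide +kernel)) a1 a2
    (e1 ▸ (hT).yw_lvl L (e1 ▸ (commutator_le_self _ (commutator_mem_commutator a1 a2)).2) (by decide +kernel))
  have top := hM.cw_top hR cen L hL fun k hk => (hp 11 le_rfl k hk).elim (fun h => by
    obtain rfl : k = 4 := by simpa using h
    exact Or.inl k4) id
  have kc : ∀ (w : List ℕ) (a b c d e d1 d2 : ℕ), tabF4.chkG morF4.ph w = true ∧ tabF4.chkX morF4.ph [a, b, c] = true ∧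
      tabF4.chkX morF4.ph [d, e] = true ∧ ((∀ s ∈ [a, b, c], s < tabF4.n ∧ tabF4.isP s = true ∧ nth gL a ≤ nth gL s) ∧ a ∉ [b, c]) ∧
      ((∀ s ∈ [d, e], s < tabF4.n ∧ tabF4.isP s = true ∧ nth gL d ≤ nth gL s) ∧ d ∉ [e]) ∧
      (d1 < tabF4.n ∧ a < tabF4.n ∧ ev d1 a = ev d1 a ∧ 2 * (ev d1 a).1 ^ 2 - (ev d1 a).2.1 ^ 2 ∣ 4) ∧
      (d2 < tabF4.n ∧ d < tabF4.n ∧ ev d2 d = ev d2 d ∧ 2 * (ev d2 d).1 ^ 2 - (ev d2 d).2.1 ^ 2 ∣ 4) ∧
      (∀ s ∈ [a, b, c].map (tabF4.appl w), s < tabF4.n ∧ tabF4.isP s = true ∧ 0 ≤ nth gL s) ∧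
      (∀ s ∈ [d, e].map (tabF4.appl w), s < tabF4.n ∧ tabF4.isP s = true ∧ 11 ≤ nth gL s) →
      (z h2 f hf).KL (fun r => nth gL r) θ (nth gL a) (nth gL d) := by
    rintro w a b c d e d1 d2 ⟨c1, c2, c3, c4, c5, c6, c7, c8, c9⟩
    obtain ⟨w, rfl⟩ := (hT).lift_w (g := w) (band_iff.1 c1).1
    have hn : (SS).nw w ∈ (SS).N ⊓ (z h2 f hf).G1 (O h2 f hf) := ⟨(SS).nw_mem w, hM.nu_mem ((hT).grp_adj K) hτ
      ((hT).mem_W1 (fun r => Fin.ext (((hT).val_ρ _ _ _ _ _ _ r).trans ((hT).val_fin ((hT).mor_row hT morF4_chk r).1).symm))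
        c1) _ ((SS).nu_nw w)⟩
    have key : ∀ {l j}, tabF4.chkX morF4.ph l = true →
        (∀ s ∈ l.map (tabF4.appl (w.map Fin.val)), s < tabF4.n ∧ tabF4.isP s = true ∧ j ≤ nth gL s) →
        (SS).nw w * (hT).yw K l * ((SS).nw w)⁻¹ ∈ (z h2 f hf).PL (fun r => nth gL r) j := fun h1 h3 =>
      ⟨by
        rw [(hT).yw_conj ((SS).nu_nw w) (band_iff.1 h1).1]
        exact Subgroup.list_prod_mem _ fun y hy => by
          obtain ⟨s, hs, rfl⟩ := List.mem_map.1 hy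
          exact (SS).x_mem ((hT).mem_TL (h3 s hs)) _, (z h2 f hf).conj_mem_Fx (hM.le_Fx hn.2) (hM.le_Fx (cx.yw_mem h1))⟩
    have := hM.kl_conj hR L top hn ((hT).posP c6.2.1 (c4.1 a (by simp)).2.1) ((hT).posP c7.2.1 (c5.1 d (by simp)).2.1)
      (C.onto c6) (C.onto c7) ((hT).yw_lvl L (hM.le_Fx (cx.yw_mem c2)) c4) ((hT).yw_lvl L (hM.le_Fx (cx.yw_mem c3)) c5)
      (key c2 c8) (key c3 c9)
    simpa only [(hT).val_fin c6.2.1, (hT).val_fin c7.2.1] using this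
  refine hM.px' hR 2 ((hT).grp_adj K) cen hs L hL (fun k hk => C.fp (c := [(0, 24), (1, 25), (0, 26), (1, 28), (0, 29),
    (0, 31), (0, 32), (0, 36), (0, 38), (0, 39), (0, 40), (0, 44)].getD k 0) (by revert k; decide +kernel))
    fun k hk j hj => (hp k hk j hj).elim (fun h => Or.inl ?_) id
  simp only [List.mem_cons, Prod.mk.injEq, List.not_mem_nil, or_false] at h
  rcases h with ⟨rfl, rfl⟩ | ⟨rfl, rfl⟩ | ⟨rfl, rfl⟩ | ⟨rfl, rfl⟩
  exacts [kc [0, 3, 1, 2, 1, 2, 0, 3] 27 25 28 28 30 1 1 (by decide +kernel),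
    kc [0, 3, 1, 2, 1, 2] 26 34 36 36 42 0 0 (by decide +kernel), kc [0, 3] 31 35 40 40 46 0 0 (by decide +kernel), k4]

omit hR h8 in
include h2 in
theorem cyc {l : ℕ} (hl : l.Prime) (hd : l ∣ Fintype.card K ^ 2 + 1) {P : Subgroup (chevF4.group K)}
    (hP : P ≤ (SS).XS {r | (hT).cd.InJ {i | nth [0, 1, 1, 0] i = 1} r}) (h : IsPGroup l P) : IsCyclic P := by
  have := Fact.mk hl
  have : CharP K 2 := CharTwo.of_one_ne_zero_of_two_eq_zero one_ne_zero h2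
  obtain ⟨n, -, hn⟩ := FiniteField.card K 2
  have h1 : 2 ∣ Fintype.card K := hn ▸ dvd_pow_self 2 n.ne_zero
  have h3 : ¬ l ∣ Fintype.card K := fun e => hl.not_dvd_one ((Nat.dvd_add_right (e.trans (dvd_pow_self _ two_ne_zero))).1 hd)
  have h4 : l ≠ 2 := by rintro rfl; exact h3 h1
  have : Finite (chevB2.group K) := (tabB2_chk.grp K).finite (tabB2_chk.grp_Gr K) (tabB2_chk.grp_r3 K)
  let θ1 := tabB2_chk.liftS (tabB2_chk.grp K).toSt0 (tabB2_chk.grp K).r3_of_finite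
  have b1 : Function.Bijective θ1 := ⟨(MonoidHom.ker_eq_bot_iff _).1 (card_eq_one.1 (by
    rw [tabB2_chk.card_ker_grp (scB2 K), cardThetaB2]
    have := Fintype.card_pos (α := K)
    exact (Nat.Prime.coprime_iff_not_dvd Nat.prime_two).2 (by omega))), St.surjective_of _ (tabB2_chk.grp_Gr K) θ1 (tabB2_chk.liftS_x _ _)⟩
  let θ2 := tabB2_chk.liftS ((SS).twist (tabB2_chk.mor hT embB2_chk) (RingHom.id K) Nat.cast_zero)
    (St0.R3.twist _ _ _ ((hT).grp_r3 K))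
  refine isCyclic_of_range (θ2.comp (MulEquiv.ofBijective θ1 b1).symm.toMonoidHom) (fun Q => ?_)
    (hP.trans ((SS).XS_le.2 fun r hr t => ?_)) h
  · by_cases e : l ∣ Nat.card (chevB2.group K)
    · have o4 : orderOf (Fintype.card K : ZMod l) = 2 ^ 2 := by
        have e2 : (Fintype.card K : ZMod l) ^ 2 = -1 := by
          have := (ZMod.natCast_eq_zero_iff _ _).2 hd
          push_cast at this
          exact eq_neg_of_add_eq_zero_left this
        refine orderOf_eq_prime_pow (n := 1) (fun e => h4 ((Nat.prime_dvd_prime_iff_eq hl Nat.prime_two).1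
          ((ZMod.natCast_eq_zero_iff _ _).1 ?_))) (by rw [show 2 ^ (1 + 1) = 2 * 2 from rfl, pow_mul, e2]; simp)
        rw [pow_one, e2] at e
        push_cast
        linear_combination -e
      obtain ⟨e⟩ := Cfsg.Agent.S2378.result rfl (chevB2, [2, 4]) (by simp) l h3
        (fun e => h4 ((Nat.prime_dvd_prime_iff_eq hl Nat.prime_two).1 (hl.dvd_of_dvd_pow (n := 3) e))) e Q
      rw [o4] at e
      exact isCyclic_of_surjective _ (e.trans (MulEquiv.funUnique (Fin 1) _)).symm.surjective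
    · rw [(Q.1.card_eq_one).1 (Q.isPGroup'.card_eq_or_dvd.resolve_right fun h => e (h.trans (card_subgroup_dvd_card _)))]
      infer_instance
  · obtain ⟨s, hs, e1, e⟩ := (by decide +kernel : ∀ r < tabF4.n, tabF4.isJ (fun i => Nat.beq (nth [0, 1, 1, 0] i) 1) r = true →
      ∃ s < tabB2.n, embB2.ph s = r ∧ embB2.ex s = 1) r ((hT).lt_n r) (((hT).isJ_iff (by simp) r).2 hr)
    refine ⟨θ1 ((tabB2_chk.stb0 K).x (tabB2_chk.fin s) t), (congrArg θ2 ((MulEquiv.ofBijective θ1 b1).symm_apply_apply _)).trans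
      ((tabB2_chk.liftS_x _ _ _ _).trans ?_)⟩
    erw [twist_x]
    rw [tabB2_chk.mor_φ_fin _ _ hs, e1, Tab.Chk.fin_val, Tab.Chk.mor_e, Tab.Chk.mor_ε, tabB2_chk.val_fin hs, e]
    rcases embB2.ep_eq s with h | h <;> simp [h, CharTwo.neg_eq]

omit hR h8 in
theorem schur {m : ℕ} (hm : 1 ≤ m) (hK : Fintype.card K = 2 ^ (2 * m + 1)) :
    Cfsg.HasCyclicSchurMultiplier (twistedF4 K (2 ^ m)) 1 := by
  obtain ⟨h2, f, hf, hq⟩ := exists_f hK
  have : Finite (chevF4.group K) := (SS).finite ((hT).grp_Gr K) ((hT).grp_r3 K)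
  refine hasSchur_of (Or.inl rfl) ⟨PUnit, inferInstance, inferInstance, 1, Or.inr ⟨rfl, Finite.of_equiv _
    (pack h2 f hf hq).e'.symm.toEquiv⟩⟩ fun Γ _ _ σ hσ => ?_
  obtain ⟨θ, hR, e, cen⟩ := (pack h2 f hf hq).stem hσ
  have hs := e.le.trans hσ.2.2
  have : CharP K 2 := CharTwo.of_one_ne_zero_of_two_eq_zero one_ne_zero h2
  have X := px h2 f hf (hK ▸ Nat.pow_le_pow_right (n := 2) (i := 3) two_pos (by omega)) hR cen hs
  have h1 := (sub h2 f hf).card_ker_dvd hR X le_rfl hs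
  have h3 := (sub h2 f hf).card_Hk hR 2 X (sl f) (RingHom.id K) 0 (U0 h2 f hf) (V0 h2 f hf)
    (fun t e => (Par.inj2 (a := (hT).fin 14) (b := (hT).fin 23) (pV h2 f hf 0) (t' := 0) (u' := 0)
      (by simpa [sl_b] using e)).2) fun t ht => sl_h f t ▸ mul_mem ((SS).h_mem (by simpa using ht)) ((SS).h_mem ht)
  have h4 := (sub h2 f hf).card_Hk' hR 2 X ((hT).grp_adj K) 1 fun l hl hd P hP => cyc h2 hl
    (by rwa [card_UK h2 f hf rfl] at hd) (hP.trans ((SS).XS_mono fun r hr i hi => hr i fun e => hi ((hJ h2 f hf 1 i).1 e)))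
  rw [card_H h2 f hf rfl, Fin.prod_univ_two] at h1
  replace h1 := h1.trans (mul_dvd_mul h3 h4)
  rw [Nat.card_eq_fintype_card (α := K), ← pow_two] at h1
  have := Fintype.one_lt_card (α := K)
  rw [← e]
  exact Nat.dvd_of_mul_dvd_mul_right (pow_pos (Nat.sub_pos_of_lt this) 2) (by rwa [one_mul])

end F4
end H24
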