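import Cfsg.Agent.H24.Ree1
import Cfsg.Agent.H10.TT

/-! Groups of Ree type: `3`-elements, involutions and Sylow `2`-subgroups. -/

set_option linter.unusedSectionVars false
set_option maxHeartbeats 400000

namespace H24
open Subgroup H4
open scoped MatrixGroups

theorem hall_of {G : Type*} [Group G] [Finite G] {A : Subgroup G} {a N : ℕ} (h1 : Nat.card A = a)
    (h : Nat.card G = a * N) (hc : a.Coprime N) : A.index = N ∧ (Nat.card A).Coprime A.index := by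
  have : A.index = N := Nat.eq_of_mul_eq_mul_left (Nat.card_pos (α := A)) (by rw [A.card_mul_index, h, h1])
  exact ⟨this, by rwa [this, h1]⟩

theorem orderOf_conj {G : Type*} [Group G] (k g : G) : orderOf (k * g * k⁻¹) = orderOf g := (MulAut.conj k).orderOf_eq g

theorem card_cent_conj {G : Type*} [Group G] (k g : G) :
    Nat.card (centralizer {k * g * k⁻¹}) = Nat.card (centralizer {g}) :=
  Nat.card_congr ⟨fun y => ⟨k⁻¹ * y * k, mem_centralizer_singleton_iff.2 (by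
      simpa [mul_assoc] using congrArg (fun t => k⁻¹ * t * k) (mem_centralizer_singleton_iff.1 y.2))⟩,
    fun y => ⟨k * y * k⁻¹, mem_centralizer_singleton_iff.2 (by
      simpa [mul_assoc] using congrArg (fun t => k * t * k⁻¹) (mem_centralizer_singleton_iff.1 y.2))⟩,
    fun y => Subtype.ext (by simp [mul_assoc]), fun y => Subtype.ext (by simp [mul_assoc])⟩

/-- the arithmetic of the order of a small Ree group -/
structure ReeNum (m q a b c d : ℕ) : Prop where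
  hq : q = 3 ^ (2 * m + 1)
  ha : q = 2 * a + 1
  hb : q + 1 = 4 * b
  hc : c + 3 ^ (m + 1) = q + 1
  hd : d = q + 3 ^ (m + 1) + 1
  hcd : c * d + q = q ^ 2 + 1
  a6 : a % 6 = 1
  b6 : b % 6 = 1
  c6 : c % 6 = 1
  d6 : d % 6 = 1

theorem reeNum (m : ℕ) : ReeNum m (3 ^ (2 * m + 1)) ((3 ^ (2 * m + 1) - 1) / 2) ((3 ^ (2 * m + 1) + 1) / 4)
    (3 ^ (2 * m + 1) - 3 ^ (m + 1) + 1) (3 ^ (2 * m + 1) + 3 ^ (m + 1) + 1) := by
  have h1 : 3 ^ (2 * m + 1) % 24 = 3 := by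
    induction m with
    | zero => rfl
    | succ m ih => rw [show 2 * (m + 1) + 1 = 2 * m + 1 + 2 by ring, pow_add]; omega
  have h2 : 3 ^ (m + 1) % 6 = 3 := by
    clear h1
    induction m with
    | zero => rfl
    | succ m ih => rw [pow_succ]; omega
  have h3 : 3 ^ (m + 1) ≤ 3 ^ (2 * m + 1) := Nat.pow_le_pow_right (by decide) (by omega)
  have h4 : (3 ^ (2 * m + 1) - 3 ^ (m + 1) + 1) * (3 ^ (2 * m + 1) + 3 ^ (m + 1) + 1) + 3 ^ (2 * m + 1) =
      (3 ^ (2 * m + 1)) ^ 2 + 1 := by zify [h3]; ring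
  have key : ∀ q r : ℕ, q % 24 = 3 → r % 6 = 3 → r ≤ q → q = 2 * ((q - 1) / 2) + 1 ∧ q + 1 = 4 * ((q + 1) / 4) ∧
      q - r + 1 + r = q + 1 ∧ (q - 1) / 2 % 6 = 1 ∧ (q + 1) / 4 % 6 = 1 ∧ (q - r + 1) % 6 = 1 ∧ (q + r + 1) % 6 = 1 := by
    omega
  obtain ⟨k1, k2, k3, k4, k5, k6, k7⟩ := key _ _ h1 h2 h3
  exact ⟨rfl, k1, k2, k3, rfl, h4, k4, k5, k6, k7⟩

namespace ReeNum
variable {m q a b c d : ℕ} (h : ReeNum m q a b c d)
include h

omit h in
theorem cop6 {a : ℕ} (h : a % 6 = 1) (i j : ℕ) : a.Coprime (2 ^ i * 3 ^ j) :=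
  Nat.Coprime.mul_right (Nat.Coprime.pow_right _ (Nat.coprime_two_right.2 (Nat.odd_iff.2 (by omega))))
    (Nat.Coprime.pow_right _ ((Nat.coprime_comm.1 ((Nat.Prime.coprime_iff_not_dvd Nat.prime_three).2 (by omega)))))

theorem ab : a.Coprime b := Nat.isCoprime_iff_coprime.1 ⟨-1, 2, by have := h.ha; have := h.hb; omega⟩

theorem acd : a.Coprime (c * d) := Nat.isCoprime_iff_coprime.1 ⟨-2 * q, 1, by
  have h1 := h.ha; have h2 := h.hcd; zify at h1 h2; push_cast; linear_combination h2 + q * h1⟩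

theorem bcd : b.Coprime (c * d) := Nat.isCoprime_iff_coprime.1 ⟨1 + 4 * (b / 3 : ℕ) * (q - 2), -(b / 3 : ℕ), by
  have h1 := h.hb; have h2 := h.hcd; have h3 : b = 3 * (b / 3) + 1 := by have := h.b6; omega
  generalize b / 3 = k at h3 ⊢
  zify at h1 h2 h3; push_cast
  linear_combination h3 - k * h2 - k * (q - 2) * h1⟩

theorem cd : c.Coprime d := by
  rw [show d = c + 2 ^ 1 * 3 ^ (m + 1) by have := h.hc; have := h.hd; omega, Nat.coprime_self_add_right]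
  exact cop6 h.c6 _ _

theorem card : q ^ 3 * (q - 1) * (q ^ 3 + 1) = 2 ^ 3 * 3 ^ (6 * m + 3) * (a * (b * (c * d))) := by
  have h1 := h.hb; have h2 := h.hcd; have h3 := h.ha
  have : q ^ 3 + 1 = 4 * b * (c * d) := by
    zify at h1 h2 ⊢; linear_combination -(4 * b : ℤ) * h2 + (q ^ 2 - q + 1) * h1
  rw [this, show q - 1 = 2 * a by omega, show q ^ 3 = 3 ^ (6 * m + 3) by rw [h.hq]; ring]; ring

theorem three_dvd : 3 ∣ q := h.hq ▸ dvd_pow_self 3 (by omega)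

theorem big (hm : 1 ≤ m) : 6 < a ∧ 6 < b ∧ 6 < c ∧ 6 < d := by
  have h1 : 3 ^ (m + 1) * 3 ≤ q := by rw [h.hq, ← pow_succ]; exact Nat.pow_le_pow_right (by decide) (by omega)
  have h2 : 3 ^ 2 ≤ 3 ^ (m + 1) := Nat.pow_le_pow_right (by decide) (by omega)
  have := h.ha; have := h.hb; have := h.hc; have := h.hd
  omega

end ReeNum

namespace Ree
variable {K : Type*} [Field K] [Fintype K] {G : Type*} [Group G] [Finite G] (R : Ree K G)

theorem ord_x3 {t u v : K} : orderOf (R.x t u v) = 3 ↔ t = 0 ∧ ¬ (u = 0 ∧ v = 0) := by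
  rw [orderOf_eq_prime_iff, x_cube, Ne, x_eq_one, x_eq_one]
  exact ⟨fun ⟨h1, h2⟩ => have : t = 0 := by simpa using h1
    ⟨this, fun h => h2 ⟨this, h⟩⟩, fun ⟨h1, h2⟩ => ⟨by simp [h1], fun h => h2 h.2⟩⟩

theorem x_nine (t u v : K) : R.x t u v ^ 9 = 1 := by
  rw [show 9 = 3 * 3 from rfl, pow_mul, x_cube, x_cube, x_eq_one]; simp

theorem ord_x9 {t u v : K} : orderOf (R.x t u v) = 9 ↔ t ≠ 0 :=
  ⟨fun h ht => by
    have := orderOf_dvd_of_pow_eq_one (x := R.x t u v) (n := 3) (by rw [x_cube, x_eq_one]; simp [ht])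
    rw [h] at this; omega,
  fun ht => orderOf_eq_prime_pow (p := 3) (n := 1) (by rw [pow_one, x_cube, x_eq_one]; simp [ht]) (R.x_nine ..)⟩

theorem card_ord3 : Nat.card {u : R.U // orderOf u = 3} = Fintype.card K ^ 2 - 1 := by
  classical
  rw [← Nat.card_eq_of_bijective (fun p : {p : K × K // p ≠ 0} => (⟨⟨_, R.x_mem 0 p.1.1 p.1.2⟩, by
    rw [orderOf_mk, ord_x3]; exact ⟨rfl, fun h => p.2 (Prod.ext h.1 h.2)⟩⟩ : {u : R.U // orderOf u = 3}))
    ⟨fun p p' e => Subtype.ext (Prod.ext_iff.2 (R.x_inj (congrArg (·.1.1) e)).2), fun ⟨⟨_, t, u, v, rfl⟩, h⟩ => by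
      obtain ⟨rfl, h'⟩ := R.ord_x3.1 ((orderOf_coe _).trans h)
      exact ⟨⟨(u, v), fun e => h' (Prod.ext_iff.1 e)⟩, rfl⟩⟩]
  simp [sq]

theorem card_ord9 : Nat.card {u : R.U // orderOf u = 9} = Fintype.card K ^ 2 * (Fintype.card K - 1) := by
  classical
  rw [← Nat.card_eq_of_bijective (fun p : (K × K) × {t : K // t ≠ 0} => (⟨⟨_, R.x_mem p.2 p.1.1 p.1.2⟩, by
    rw [orderOf_mk, ord_x9]; exact p.2.2⟩ : {u : R.U // orderOf u = 9}))
    ⟨fun p p' e => have := R.x_inj (congrArg (·.1.1) e)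
      Prod.ext (Prod.ext_iff.2 this.2) (Subtype.ext this.1), fun ⟨⟨_, t, u, v, rfl⟩, h⟩ => by
      exact ⟨((u, v), ⟨t, R.ord_x9.1 ((orderOf_coe _).trans h)⟩), rfl⟩⟩]
  simp [sq]

theorem exists_conj_n {g : G} (hg : g ∈ centralizer {R.a}) (h2 : g * g = 1) (h1 : g ≠ 1) (ha : g ≠ R.a) :
    ∃ k ∈ centralizer {R.a}, k * g * k⁻¹ = R.n ∨ k * g * k⁻¹ = R.n * R.a := by
  rcases R.cent_h (mem_centralizer_singleton_iff.1 hg) with ⟨u, hu, l, rfl, e⟩ | ⟨-, u, hu, u', hu', l, rfl, e, e'⟩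
  · obtain ⟨u, rfl⟩ := (R.fix_a hu).1 e
    obtain ⟨e1, e2⟩ := R.B_uniq (mul_mem hu (R.h_conj_mem l hu)) (one_mem _) (l := l ^ 2) (l' := 1) (by
      rw [sq, map_mul, map_one, mul_one, ← h2]; group)
    have : u = 0 := by
      rcases eq_of_sq e2 with rfl | rfl <;> rw [h_x, x_mul, x_eq_one] at e1 <;>
        exact mul_left_cancel₀ R.two_ne (by simpa [two_mul] using e1.2.1)
    subst this
    rcases eq_of_sq e2 with rfl | rfl
    · exact absurd (by simp [x_zero]) h1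
    · exact absurd (by simp [x_zero, a]) ha
  · obtain ⟨u, rfl⟩ := (R.fix_a hu).1 e
    obtain ⟨u', rfl⟩ := (R.fix_a hu').1 e'
    have hy := mul_mem hu' (R.h_conj_mem l hu)
    obtain ⟨y, e0⟩ : ∃ y, R.x 0 u' 0 * (R.h l * R.x 0 u 0 * (R.h l)⁻¹) = y := ⟨_, rfl⟩
    have e1 : (R.x 0 u 0)⁻¹ * (R.x 0 u 0 * R.n * (R.x 0 u' 0 * R.h l)) * R.x 0 u 0 = R.n * y * R.h l := by
      rw [← e0]; group
    have e2 : R.n * y * R.h l * (R.n * y * R.h l) = 1 := by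
      rw [← e1]; simpa [mul_assoc] using congrArg (fun g => (R.x 0 u 0)⁻¹ * g * R.x 0 u 0) h2
    rw [e0] at hy
    obtain rfl := (R.cell_uniq hy (one_mem _) (R.U_le (R.h_conj_mem l⁻¹ hy)) (one_mem _) (by
      rw [one_mul, mul_one, ← mul_assoc, ← mul_assoc, mul_assoc y, ← R.hn, map_inv, inv_inv]
      calc _ = R.n⁻¹ * (R.n * y * R.h l * (R.n * y * R.h l)) := by group
        _ = _ := by rw [e2, mul_one, n_inv])).1
    obtain ⟨d, hd⟩ := R.sq' l
    refine ⟨R.h d * (R.x 0 u 0)⁻¹, mul_mem (mem_centralizer_singleton_iff.2 (R.h_comm ..))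
      (inv_mem (R.L_le (R.x_mem_L u))), ?_⟩
    have e3 : R.h d * (R.x 0 u 0)⁻¹ * (R.x 0 u 0 * R.n * (R.x 0 u' 0 * R.h l)) * (R.h d * (R.x 0 u 0)⁻¹)⁻¹ =
        R.n * R.h (d⁻¹ * l * d⁻¹) := by
      rw [map_mul, map_mul, ← mul_assoc R.n, ← mul_assoc R.n, ← R.hn, mul_assoc (R.h d) R.n, ← (mul_one R.n ▸ e1 : _ = R.n * R.h l),
        map_inv]
      group
    rw [e3]
    exact hd.imp (fun e => by simp [e, sq]) fun e => by simp [e, sq, a]

theorem L_conj {k g : G} (hk : k ∈ centralizer {R.a}) (hg : g ∈ R.L) : k * g * k⁻¹ ∈ R.L := by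
  rcases R.mem_cent_a.1 hk with h | h
  · exact mul_mem (mul_mem h hg) (inv_mem h)
  · have := mul_mem (mul_mem h hg) (inv_mem h)
    rwa [mul_assoc k, ← mem_centralizer_singleton_iff.1 (R.L_le hg), mul_inv_rev, ← mul_assoc, ← mul_assoc,
      mul_inv_cancel_right] at this

theorem exists_conj_n' {g : G} (hg : g ∈ R.L) (h2 : g * g = 1) (h1 : g ≠ 1) :
    ∃ k ∈ centralizer {R.a}, k * g * k⁻¹ = R.n := by
  obtain ⟨k, hk, e⟩ := R.exists_conj_n (R.L_le hg) h2 h1 fun e => R.a_notMem (e ▸ hg)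
  exact ⟨k, hk, e.resolve_right fun e => R.a_notMem
    ((mul_mem_cancel_left R.n_mem_L).1 (e ▸ R.L_conj hk hg))⟩

theorem relIndex_two {S : Subgroup G} (ha : R.a ∈ S) (hk : S ≤ centralizer {R.a}) : R.L.relIndex S = 2 :=
  relIndex_eq_two_iff.2 ⟨R.a, ha, fun _ hy => (R.mem_cent_a.1 (hk hy)).elim
    (fun h => Or.inr ⟨h, fun h' => R.a_notMem (by simpa using mul_mem (inv_mem h) h')⟩)
    fun h => Or.inl ⟨h, fun h' => R.a_notMem (by simpa using mul_mem (inv_mem h') h)⟩⟩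

omit R in
theorem isPGroup_inv {g : G} (h2 : g * g = 1) : IsPGroup 2 (zpowers g) := by
  rintro ⟨_, i, rfl⟩
  exact ⟨1, Subtype.ext ((sq (g ^ i)).trans (by rw [← Commute.mul_zpow rfl, h2, one_zpow]; rfl))⟩

theorem ord_a : orderOf R.a = 2 := orderOf_eq_prime (by rw [sq, a_sq]) R.a_ne

include R in
theorem pRes : Cfsg.pResidual 2 G = ⊤ := by
  have : ∀ k t u v, k * R.x t u v * k⁻¹ ∈ Cfsg.pResidual 2 G := fun k t u v => subset_closure (by
    rw [Set.mem_ofPred_eq, orderOf_conj]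
    exact Nat.Coprime.coprime_dvd_left (orderOf_dvd_of_pow_eq_one (R.x_nine ..)) (by decide))
  exact R.gen _ (by simpa using this 1) (this _)

variable {m q a b c d : ℕ} (N : ReeNum m q a b c d) (hK : Fintype.card K = q)
include N hK

include R in
theorem card_G' : Nat.card G = 2 ^ 3 * 3 ^ (6 * m + 3) * (a * (b * (c * d))) := by rw [R.card_G, hK, N.card]

omit R hK in
theorem cop (i j : ℕ) : (a * (b * (c * d))).Coprime (2 ^ i * 3 ^ j) :=
  (ReeNum.cop6 N.a6 i j).mul_left ((ReeNum.cop6 N.b6 i j).mul_left ((ReeNum.cop6 N.c6 i j).mul_left (ReeNum.cop6 N.d6 i j)))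

theorem hallU : (Nat.card R.U).Coprime R.U.index :=
  (hall_of (a := 3 ^ (6 * m + 3)) (N := 2 ^ 3 * (a * (b * (c * d)))) (by rw [card_U, hK, N.hq]; ring)
    (by rw [R.card_G' N hK]; ring) (Nat.Coprime.mul_right (Nat.Coprime.pow _ _ (by decide))
      (by simpa only [pow_zero, one_mul] using (cop N 0 _).symm))).2

theorem three_dvd_U : 3 ∣ Nat.card R.U := by rw [card_U, hK]; exact dvd_pow N.three_dvd (by decide)

theorem isPGroup_U : IsPGroup 3 R.U := IsPGroup.of_card (n := 6 * m + 3) (by rw [card_U, hK, N.hq]; ring)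

theorem mem_U_of {g : G} (hg : g ∈ R.B) (h : g ^ 9 = 1) : g ∈ R.U :=
  mem_of_pow_hall (R.hallU N hK) (R.normalizer_U ▸ hg) (by
    obtain ⟨k, hk⟩ : 9 ∣ Nat.card R.U := by
      rw [card_U, hK]; exact (by decide : 9 ∣ 3 ^ 3).trans (pow_dvd_pow_of_dvd N.three_dvd 3)
    rw [hk, pow_mul, h, one_pow]; exact one_mem _)

theorem conj_U {P : Subgroup G} (hP : IsPGroup 3 P) : ∃ k, ∀ g ∈ P, k * g * k⁻¹ ∈ R.U :=
  exists_conj_le_hall (R.hallU N hK) Nat.prime_three (R.three_dvd_U N hK) hP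

theorem sylow3 (P : Sylow 3 G) : ∃ k, ∀ g, g ∈ P ↔ k * g * k⁻¹ ∈ R.U := by
  obtain ⟨k, hk⟩ := R.conj_U N hK P.isPGroup'
  have := P.is_maximal' ((R.isPGroup_U N hK).comap_of_injective (MulAut.conj k).toMonoidHom (MulAut.conj k).injective) hk
  exact ⟨k, fun g => by rw [← SetLike.mem_coe, ← Sylow.coe_coe, ← this]; rfl⟩

include R in
theorem sylow3_ti (P Q : Sylow 3 G) (h : P ≠ Q) : (P : Subgroup G) ⊓ Q = ⊥ := by
  obtain ⟨k, hk⟩ := R.sylow3 N hK P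
  obtain ⟨k', hk'⟩ := R.sylow3 N hK Q
  refine eq_bot_iff.2 fun g hg => by_contra fun h1 => h (Sylow.ext (Subgroup.ext fun y => ?_))
  have := R.mem_B_of_conj (k := k' * k⁻¹) ((hk g).1 hg.1) (by simpa using h1)
    (R.U_le (by simpa [mul_assoc] using (hk' g).1 hg.2))
  refine (hk y).trans (Iff.trans ?_ (hk' y).symm)
  simpa [mul_assoc] using mem_normalizer_iff.1 (R.normalizer_U.ge this) (k * y * k⁻¹)

theorem count_U {j : ℕ} (hj : j = 3 ∨ j = 9) :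
    Nat.card {g : G // orderOf g = j} = (q ^ 3 + 1) * Nat.card {u : R.U // orderOf u = j} := by
  rw [card_conj_TI {u | u ∈ R.U ∧ orderOf u = j} R.B (fun k hk u hu => ⟨R.B_conj hk hu.1, (orderOf_conj k u).trans hu.2⟩)
    (fun k u hu hk => R.mem_B_of_conj hu.1 (by rintro rfl; have := hu.2; simp at this; omega) (R.U_le hk.1)) _ fun g =>
      ⟨fun hg => ?_, fun ⟨k, hk⟩ => (orderOf_conj k g).symm.trans hk.2⟩, index_B, hK]
  · congr 1
    exact Nat.card_congr ⟨fun c => ⟨⟨c, c.2.1⟩, (orderOf_mk _ _).trans c.2.2⟩,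
      fun c => ⟨c.1, c.1.2, (orderOf_coe _).trans c.2⟩, fun _ => rfl, fun _ => rfl⟩
  · obtain ⟨i, hi⟩ : ∃ i, orderOf g = 3 ^ i := hj.elim (fun e => ⟨1, hg.trans e⟩) fun e => ⟨2, hg.trans e⟩
    obtain ⟨k, hk⟩ := R.conj_U N hK (isPGroup_zpowers hi)
    exact ⟨k, hk _ (mem_zpowers g), (orderOf_conj k g).trans hg⟩

theorem index_cent_a : (centralizer {R.a}).index = q ^ 2 * (c * d) := by
  have h1 := N.ha; have h2 := N.hb
  refine Nat.eq_of_mul_eq_mul_left (Nat.card_pos (α := centralizer {R.a})) ?_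
  rw [card_mul_index, R.card_G' N hK, card_cent_a, hK, show q ^ 2 - 1 = 2 * a * (4 * b) by
    rw [← h2, h1]; exact Nat.sub_eq_of_eq_add (by ring), show 3 ^ (6 * m + 3) = q ^ 3 by rw [N.hq]; ring]
  ring

theorem conj_cent_a {P : Subgroup G} (hP : IsPGroup 2 P) : ∃ k, ∀ g ∈ P, k * g * k⁻¹ ∈ centralizer {R.a} :=
  exists_conj_le_of_index Nat.prime_two (by
    have := N.ha; have := N.c6; have := N.d6
    simp only [R.index_cent_a N hK, Nat.prime_two.dvd_mul, sq]; omega) hP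

theorem exists_sylow2 (S : Sylow 2 G) : ∃ k : G, R.a ∈ k • S ∧ (k • S).1 ≤ centralizer {R.a} := by
  obtain ⟨k, hk⟩ := R.conj_cent_a N hK S.isPGroup'
  have h1 : (k • S).1 ≤ centralizer {R.a} := by rintro _ ⟨g, hg, rfl⟩; exact hk g hg
  refine ⟨k, ((isPGroup_inv R.a_sq).inf_normalizer_sylow
    (k • S)).le ⟨mem_zpowers _, mem_norm_of_conj fun g hg => ?_⟩ |>.2, h1⟩
  rwa [← mem_centralizer_singleton_iff.1 (h1 hg), mul_inv_cancel_right]

theorem conj_n {g : G} (h2 : g * g = 1) (h1 : g ≠ 1) : ∃ k, k * g * k⁻¹ = R.n := by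
  obtain ⟨S, hS⟩ := (isPGroup_inv h2).exists_le_sylow
  obtain ⟨k, ha, hk⟩ := R.exists_sylow2 N hK S
  have hg : k * g * k⁻¹ ∈ k • S := ⟨g, hS (mem_zpowers g), rfl⟩
  have key : ∀ k, k * g * k⁻¹ ∈ R.L → ∃ k, k * g * k⁻¹ = R.n := fun k h => by
    obtain ⟨k', -, e⟩ := R.exists_conj_n' h (by simp [h2]) (by simpa using h1)
    exact ⟨k' * k, by rw [← e]; group⟩
  by_cases h : k * g * k⁻¹ ∈ R.L
  · exact key k h
  obtain ⟨k', h', -⟩ := H10.thompson_transfer_two R.pRes (H10.isSylowIn_top (k • S)) (T := R.L)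
    (R.relIndex_two ha hk) hg (by simp [h2]) h
    (R := ⊥) IsPGroup.of_bot bot_le
  exact key (k' * k) (by simpa [mul_assoc] using h'.2)

theorem conj_a {g : G} (h2 : g * g = 1) (h1 : g ≠ 1) : ∃ k, k * g * k⁻¹ = R.a := by
  obtain ⟨k, e⟩ := R.conj_n N hK h2 h1
  obtain ⟨k', e'⟩ := R.conj_n N hK R.a_sq R.a_ne
  exact ⟨k'⁻¹ * k, by rw [show k'⁻¹ * k * g * (k'⁻¹ * k)⁻¹ = k'⁻¹ * (k * g * k⁻¹) * k' by group, e, ← e']; group⟩

include R in
theorem sq_of_four {g : G} (h : g ^ 4 = 1) : g * g = 1 := by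
  refine by_contra fun h1 => ?_
  obtain ⟨k, e⟩ := R.conj_a N hK (g := g * g) (by rw [← h]; simp [pow_succ, mul_assoc]) h1
  have e' : k * g * k⁻¹ * (k * g * k⁻¹) = R.a := by rw [← e]; group
  have hc : k * g * k⁻¹ ∈ centralizer {R.a} := mem_centralizer_singleton_iff.2 (by rw [← e']; group)
  refine R.a_notMem ((R.mem_cent_a.1 hc).elim (fun h => e' ▸ mul_mem h h) fun h => ?_)
  have := mul_mem h h
  rwa [mul_assoc, ← mul_assoc R.a, ← mem_centralizer_singleton_iff.1 hc, mul_assoc _ R.a, a_sq, mul_one, e'] at this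

include R in
theorem sq_of_pGroup {P : Subgroup G} (hP : IsPGroup 2 P) {g : G} (hg : g ∈ P) : g * g = 1 := by
  obtain ⟨i, hi⟩ := hP ⟨g, hg⟩
  replace hi : g ^ 2 ^ i = 1 := congrArg Subtype.val hi
  induction i with
  | zero => simp_all
  | succ i ih =>
    cases i with
    | zero => simpa [sq] using hi
    | succ i => exact ih (by
        rw [pow_succ, pow_mul, sq]
        exact R.sq_of_four N hK (by rw [← pow_mul, ← hi]; congr 1; ring))

include R in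
theorem card_sylow2 (S : Sylow 2 G) : Nat.card S = 8 := by
  obtain ⟨i, hi⟩ := S.isPGroup'.exists_card_eq
  have e := S.1.card_mul_index
  rw [R.card_G' N hK, mul_assoc] at e
  refine Nat.dvd_antisymm (Nat.Coprime.dvd_of_dvd_mul_right ?_ (Dvd.intro _ e))
    (Nat.Coprime.dvd_of_dvd_mul_right (Nat.Coprime.pow_left (m := 2) 3 ?_) (Dvd.intro _ e.symm))
  · exact (congrArg (Nat.Coprime · _) hi).mpr (Nat.Coprime.mul_right (Nat.Coprime.pow _ _ (by decide))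
      (by simpa using (cop N i 0).symm))
  · exact (Nat.Prime.coprime_iff_not_dvd Nat.prime_two).2 S.not_dvd_index

include R in
theorem count2 : Nat.card {g : G // orderOf g = 2} = q ^ 2 * (c * d) := by
  rw [card_conj_TI {R.a} (centralizer {R.a}) (by
      rintro k hk _ rfl; rw [mem_centralizer_singleton_iff.1 hk, mul_inv_cancel_right]; rfl)
    (by rintro k _ rfl h; exact mem_centralizer_singleton_iff.2 (mul_inv_eq_iff_eq_mul.1 h)) _ fun g =>
      ⟨fun hg => R.conj_a N hK (by rw [← sq, ← hg, pow_orderOf_eq_one]) (by rintro rfl; simp at hg), fun ⟨k, hk⟩ => by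
        rw [← orderOf_conj k, hk]; exact R.ord_a⟩, R.index_cent_a N hK]
  simp

theorem conj_a_B {g : G} (hg : g ∈ R.B) (h2 : g * g = 1) (h1 : g ≠ 1) : ∃ u ∈ R.U, u * g * u⁻¹ = R.a := by
  obtain ⟨u, hu, l, rfl⟩ := hg
  obtain ⟨e1, e2⟩ := R.B_uniq (mul_mem hu (R.h_conj_mem l hu)) (one_mem _) (l := l ^ 2) (l' := 1) (by
    rw [sq, map_mul, map_one, mul_one, ← h2]; group)
  rcases eq_of_sq e2 with rfl | rfl
  · have h9 : u ^ 9 = 1 := by obtain ⟨_, _, _, rfl⟩ := hu; exact R.x_nine ..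
    rw [map_one, one_mul, inv_one, mul_one] at e1
    rw [show 9 = 2 * 4 + 1 from rfl, pow_succ, pow_mul, sq, e1, one_pow, one_mul] at h9
    exact absurd (by simp [h9]) h1
  · have h9 : u ^ 9 = 1 := by obtain ⟨_, _, _, rfl⟩ := hu; exact R.x_nine ..
    have e3 : R.a * u * R.a⁻¹ = u⁻¹ := eq_inv_of_mul_eq_one_right e1
    refine ⟨u ^ 4, pow_mem hu 4, ?_⟩
    calc _ = u ^ 5 * (R.a * u * R.a⁻¹)⁻¹ ^ 4 * R.a := by rw [conj_inv, conj_pow, Ree.a]; group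
      _ = _ := by rw [e3, inv_inv, ← pow_add, h9, one_mul]

omit N hK in
theorem exists_of_mem_B {g : G} (hg : g ∈ R.B) (hc : g ∈ centralizer {R.a}) : ∃ u l, g = R.x 0 u 0 * R.h l := by
  rcases R.cent_h (mem_centralizer_singleton_iff.1 hc) with ⟨u, hu, l, rfl, e⟩ | ⟨-, u, hu, u', hu', l, rfl, -⟩
  · obtain ⟨u, rfl⟩ := (R.fix_a hu).1 e
    exact ⟨u, l, rfl⟩
  · exact absurd hg (R.cell_notMem (R.U_le hu) (mul_mem (R.U_le hu') (R.h_mem l)))

theorem conj_xa {g : G} (h : g ^ (2 * 9) = 1) (h2 : g ^ 9 ≠ 1) (h3 : g ^ 2 ≠ 1) :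
    ∃ k u, u ≠ 0 ∧ k * g * k⁻¹ = R.x 0 u 0 * R.a := by
  obtain ⟨j, -, hj⟩ := (Nat.dvd_prime_pow Nat.prime_three (m := 2)).1
    (orderOf_dvd_of_pow_eq_one (x := g ^ 2) (by rw [← pow_mul]; exact h))
  obtain ⟨k, hk⟩ := R.conj_U N hK (isPGroup_zpowers hj)
  have h4 := hk _ (mem_zpowers _)
  have hB : k * g * k⁻¹ ∈ R.B := R.mem_B_of_conj h4 (by simpa using h3) (R.U_le (by
    rwa [show k * g * k⁻¹ * (k * g ^ 2 * k⁻¹) * (k * g * k⁻¹)⁻¹ = k * g ^ 2 * k⁻¹ by group]))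
  obtain ⟨u, hu, e⟩ := R.conj_a_B N hK (pow_mem hB 9) (by rw [← pow_add, conj_pow, h]; simp) (by simpa using h2)
  have e1 : (u * k * g * (u * k)⁻¹) ^ 9 = R.a := by rw [← e, conj_pow, conj_pow]; group
  obtain ⟨v, l, e2⟩ := R.exists_of_mem_B (g := u * k * g * (u * k)⁻¹)
    (by simpa [mul_assoc] using mul_mem (mul_mem (R.U_le hu) hB) (inv_mem (R.U_le hu)))
    (mem_centralizer_singleton_iff.2 (by rw [← e1, ← pow_succ, ← pow_succ']))
  have h5 : (u * k * g * (u * k)⁻¹) ^ 2 ∈ R.U := by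
    rw [conj_pow]; simpa [mul_assoc] using R.B_conj (R.U_le hu) h4
  have e3 : l ^ 2 = 1 := R.eq_one_of_h_mem (by
    rw [e2, show (R.x 0 v 0 * R.h l) ^ 2 = R.x 0 v 0 * (R.h l * R.x 0 v 0 * (R.h l)⁻¹) * R.h (l ^ 2) by
      rw [map_pow]; simp [sq, mul_assoc]] at h5
    exact (mul_mem_cancel_left (mul_mem (R.x_mem ..) (R.h_conj_mem l (R.x_mem ..)))).1 h5)
  rcases eq_of_sq e3 with rfl | rfl
  · rw [e2, map_one, mul_one, x_nine] at e1
    exact absurd e1.symm R.a_ne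
  · refine ⟨_, v, fun e => h3 ?_, e2⟩
    rw [e, x_zero, one_mul] at e2
    have := (congrArg (· ^ 2) e2).trans ((sq _).trans R.a_sq)
    rwa [conj_pow, conj_eq_one_iff] at this

omit N hK in
theorem ord_xa {u : K} (hu : u ≠ 0) : orderOf (R.x 0 u 0 * R.a) = 6 := by
  rw [Commute.orderOf_mul_eq_mul_orderOf_of_coprime (mem_centralizer_singleton_iff.1 (R.L_le (R.x_mem_L u)))] <;>
    rw [R.ord_x3.2 ⟨rfl, fun h => hu h.1⟩, R.ord_a]
  decide

include R in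
theorem count6 : Nat.card {g : G // orderOf g = 6} = q ^ 2 * (q - 1) * (q ^ 3 + 1) := by
  let M := centralizer {R.a} ⊓ R.B
  have hx : ∀ u, R.x 0 u 0 * R.a * (R.x 0 u 0 * R.a) = R.x 0 (u + u) 0 := fun u => by
    rw [mul_assoc, ← mul_assoc R.a, ← mem_centralizer_singleton_iff.1 (R.L_le (R.x_mem_L u)), mul_assoc, a_sq, mul_one,
      x_mul]; simp
  have h3 : ∀ u, (R.x 0 u 0 * R.a) ^ 3 = R.a := fun u => by
    rw [Commute.mul_pow (mem_centralizer_singleton_iff.1 (R.L_le (R.x_mem_L u))), x_cube, pow_succ R.a, sq R.a, a_sq]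
    simp [x_zero]
  have hM : Nat.card M = q * (q - 1) := by
    rw [← Nat.card_eq_of_bijective (fun p : K × Kˣ => (⟨R.x 0 p.1 0 * R.h p.2, mul_mem (R.L_le (R.x_mem_L _))
      (mem_centralizer_singleton_iff.2 (R.h_comm ..)), _, R.x_mem .., _, rfl⟩ : M))
      ⟨fun p p' e => have := R.B_uniq (R.x_mem ..) (R.x_mem ..) (congrArg Subtype.val e)
        Prod.ext (R.x_inj this.1).2.1 this.2, fun g => let ⟨u, l, e⟩ := R.exists_of_mem_B g.2.2 g.2.1
        ⟨(u, l), Subtype.ext e.symm⟩⟩, Nat.card_prod, Nat.card_units, Nat.card_eq_fintype_card, hK]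
  rw [card_conj_TI {g | ∃ u, u ≠ 0 ∧ g = R.x 0 u 0 * R.a} M ?_ ?_ _ fun g => ⟨fun hg => R.conj_xa N hK
    (orderOf_dvd_iff_pow_eq_one.1 (by rw [hg]; decide)) (by rw [Ne, ← orderOf_dvd_iff_pow_eq_one, hg]; decide)
    (by rw [Ne, ← orderOf_dvd_iff_pow_eq_one, hg]; decide), fun ⟨k, u, hu, e⟩ => by
      rw [← orderOf_conj k, e, R.ord_xa hu]⟩]
  · have e1 : M.index = q ^ 2 * (q ^ 3 + 1) := Nat.eq_of_mul_eq_mul_left (Nat.card_pos (α := M)) (by
      rw [card_mul_index, R.card_G, hM, hK]; ring)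
    have e2 : Nat.card {g | ∃ u, u ≠ 0 ∧ g = R.x 0 u 0 * R.a} = q - 1 := by
      rw [← Nat.card_eq_of_bijective (fun u : Kˣ => (⟨_, u, u.ne_zero, rfl⟩ : {g | ∃ u, u ≠ 0 ∧ g = R.x 0 u 0 * R.a}))
        ⟨fun u u' e => Units.ext (R.x_inj (mul_right_cancel (congrArg Subtype.val e))).2.1,
          fun ⟨_, u, hu, e⟩ => ⟨Units.mk0 u hu, Subtype.ext e.symm⟩⟩, Nat.card_units, Nat.card_eq_fintype_card, hK]
    rw [e1, e2]; ring
  · rintro k hk _ ⟨u, hu, rfl⟩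
    have e : k * (R.x 0 u 0 * R.a) * k⁻¹ = k * R.x 0 u 0 * k⁻¹ * R.a := by
      rw [mul_assoc _ k⁻¹, mem_centralizer_singleton_iff.1 (inv_mem hk.1)]; group
    obtain ⟨u', e'⟩ := (R.fix_a (R.B_conj hk.2 (R.x_mem 0 u 0))).1 (by
      rw [← mem_centralizer_singleton_iff.1 (mul_mem (mul_mem hk.1 (R.L_le (R.x_mem_L u))) (inv_mem hk.1)),
        mul_inv_cancel_right])
    exact ⟨u', by rintro rfl; simp [x_zero, x_eq_one, hu] at e', by rw [e, e']⟩
  · rintro k _ ⟨u, hu, rfl⟩ ⟨u', hu', e⟩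
    refine ⟨mem_centralizer_singleton_iff.2 (mul_inv_eq_iff_eq_mul.1 ?_), R.mem_B_of_conj (R.x_mem 0 (u + u) 0)
      (by simpa [x_eq_one, ← two_mul, R.two_ne] using hu) ?_⟩
    · rw [← h3 u, ← conj_pow, e, h3, h3]
    · rw [← hx, show k * (_ * _) * k⁻¹ = k * (R.x 0 u 0 * R.a) * k⁻¹ * (k * (R.x 0 u 0 * R.a) * k⁻¹) by group, e, hx]
      exact R.U_le (R.x_mem ..)

end Ree
end H24
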