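import Cfsg.Agent.H24.Ree2

/-! Groups of Ree type: the tori. -/

set_option linter.unusedSectionVars false
set_option maxHeartbeats 400000

namespace H24
open Subgroup H4

section
variable {G : Type*} [Group G] [Finite G]

theorem card_ord_cyc (hG : IsCyclic G) {i : ℕ} (h : i ∣ Nat.card G) : Nat.card {g : G // orderOf g = i} = i.totient := by
  classical
  have := Fintype.ofFinite G
  rw [Nat.card_eq_fintype_card, Fintype.card_subtype, IsCyclic.card_orderOf_eq_totient (by rwa [← Nat.card_eq_fintype_card])]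

theorem relIndex_cent (M : Subgroup G) (z : G) :
    (centralizer {z}).relIndex M = {g | ∃ k ∈ M, k * z * k⁻¹ = g}.ncard := by
  let _ := MulAction.compHom G (MulAut.conj.comp M.subtype)
  refine (congrArg index ?_).trans ((MulAction.index_stabilizer M z).trans (congrArg _ ?_))
  · ext k
    exact mem_centralizer_singleton_iff.trans mul_inv_eq_iff_eq_mul.symm
  · ext g
    exact ⟨fun ⟨k, e⟩ => ⟨k, k.2, e⟩, fun ⟨k, hk, e⟩ => ⟨⟨k, hk⟩, e⟩⟩

theorem exists_conj_norm {p : ℕ} [Fact p.Prime] (S : Sylow p G) (hS : ∀ a ∈ S, ∀ b ∈ S, a * b = b * a) {D : Subgroup G}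
    (hD : S.1 ≤ D) {x k : G} (hx : x ∈ S) (hk : k ∈ D) (hy : k * x * k⁻¹ ∈ S) :
    ∃ n ∈ normalizer (S.1 : Set G) ⊓ D, n * x * n⁻¹ = k * x * k⁻¹ := by
  obtain ⟨n, hn, e⟩ := (S.subtype hD).conj_eq_normalizer_conj_of_mem_centralizer ⟨x, hD hx⟩ (⟨k, hk⟩⁻¹)
    (fun b hb => Subtype.ext (hS _ hb _ hx)) fun b hb => Subtype.ext (hS _ hb _ (by simpa using hy))
  refine ⟨(n⁻¹ : D), ⟨mem_norm_of_conj fun a ha => ?_, (n⁻¹).2⟩, by simpa using congrArg Subtype.val e.symm⟩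
  exact (mem_normalizer_iff.1 (inv_mem hn) ⟨a, hD ha⟩).1 ha

theorem exists_normal_p [Group.IsSolvable G] (M : Subgroup G) (hM : M.Normal) (h : M ≠ ⊥) :
    ∃ p, p.Prime ∧ ∃ E : Subgroup G, E.Normal ∧ E ≤ M ∧ E ≠ ⊥ ∧ IsPGroup p E := by
  induction M using WellFoundedLT.induction with | ind M ih =>
  by_cases h1 : ⁅M, M⁆ = ⊥
  · have hc : ∀ a ∈ M, ∀ b ∈ M, Commute a b := fun a ha b hb =>
      commutatorElement_eq_one_iff_commute.1 (mem_bot.1 (h1 ▸ commutator_mem_commutator ha hb))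
    have h2 : Nat.card M ≠ 1 := mt card_eq_one.1 h
    have := Fact.mk (Nat.minFac_prime h2)
    obtain ⟨g, hg⟩ := exists_prime_orderOf_dvd_card' (G := M) _ (Nat.minFac_dvd _)
    refine ⟨_, this.1, ⟨⟨⟨{g | g ∈ M ∧ g ^ (Nat.card M).minFac = 1}, fun ha hb => ⟨mul_mem ha.1 hb.1, by
      rw [(hc _ ha.1 _ hb.1).mul_pow, ha.2, hb.2, one_mul]⟩⟩, one_mem _, one_pow _⟩, fun ha => ⟨inv_mem ha.1, by
      rw [inv_pow, ha.2, inv_one]⟩⟩, ⟨fun a ha k => ⟨hM.conj_mem a ha.1 k, by rw [conj_pow, ha.2]; simp⟩⟩,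
      fun _ ha => ha.1, ne_bot_iff_exists_ne_one.2 ⟨⟨g, g.2, by
        rw [← hg]; exact congrArg Subtype.val (pow_orderOf_eq_one g)⟩, fun e => ?_⟩,
      fun a => ⟨1, Subtype.ext (by simpa using a.2.2)⟩⟩
    rw [show g = 1 from Subtype.ext (congrArg Subtype.val e :), orderOf_one] at hg
    exact h2 (Nat.minFac_eq_one_iff.1 hg.symm)
  · obtain ⟨p, hp, E, e1, e2, e3⟩ := ih _ (Group.IsSolvable.commutator_lt_of_ne_bot h) inferInstance h1
    exact ⟨p, hp, E, e1, e2.trans (commutator_le_left _ _), e3⟩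

namespace TIH
variable {A C : Subgroup G} (h : TIH A C)
include h

theorem card_cent {y : G} (h1 : y ≠ 1) (h2 : orderOf y ∣ Nat.card A) : Nat.card (centralizer {y}) = Nat.card C := by
  obtain ⟨k, hk⟩ := h.conj_le (B := zpowers y) inferInstance (by rwa [Nat.card_zpowers])
  rw [← card_cent_conj k, h.cent _ (hk _ (mem_zpowers y)) (by simpa using h1)]

theorem isCyclic_p {p : ℕ} (hp : p.Prime) (h1 : p ∣ Nat.card A) {P : Subgroup G} (hP : IsPGroup p P) : IsCyclic P := by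
  obtain ⟨k, hk⟩ := exists_conj_le_hall h.hall hp h1 hP
  have := h.cyc
  exact isCyclic_of_injective (((MulAut.conj k).toMonoidHom.comp P.subtype).codRestrict A fun g => hk g g.2)
    fun a b e => Subtype.ext ((MulAut.conj k).injective (congrArg Subtype.val e))

theorem exists_norm {p : ℕ} (hp : p.Prime) (h1 : p ∣ Nat.card A) {P : Subgroup G} (hP : IsPGroup p P) (h0 : P ≠ ⊥) :
    ∃ B : Subgroup G, normalizer (P : Set G) = normalizer (B : Set G) ∧ IsCyclic B ∧ Nat.card B = Nat.card A := by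
  obtain ⟨k, hk⟩ := exists_conj_le_hall h.hall hp h1 hP
  exact ⟨_, (h.map k⁻¹).norm_eq (fun g hg => ⟨_, hk g hg, by simp [mul_assoc]⟩) h0, (h.map k⁻¹).cyc, card_map_conj _ _⟩

theorem count' {e j : ℕ} (he : Nat.card (normalizer (A : Set G)) = e) (h1 : ¬ j.Coprime (Nat.card A)) :
    e * Nat.card {g : G // orderOf g = j} = Nat.card {c : C // orderOf c = j} * Nat.card G := by
  obtain ⟨p, hp, h2, h3⟩ := Nat.Prime.not_coprime_iff_dvd.1 h1
  rw [h.count hp h2 h3, ← he, ← card_mul_index (normalizer (A : Set G))]; ring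

theorem card_ord {i : ℕ} (hi : i ∣ Nat.card A) : Nat.card {c : C // orderOf c = i} = i.totient := by
  rw [← card_ord_cyc h.cyc hi]
  exact Nat.card_congr ⟨fun c => ⟨⟨c.1, h.mem c.1.2 (by rwa [orderOf_coe, c.2])⟩, by rw [orderOf_mk, orderOf_coe, c.2]⟩,
    fun c => ⟨⟨c.1, h.le c.1.2⟩, by rw [orderOf_mk, orderOf_coe, c.2]⟩, fun _ => rfl, fun _ => rfl⟩

end TIH
end

namespace Ree
variable {K : Type*} [Field K] [Fintype K] {G : Type*} [Group G] [Finite G]

/-- the property of the anisotropic tori -/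
def Tc (T : Subgroup G) : Prop := ∀ y ∈ T, y ≠ 1 → (orderOf y).Coprime 6 → centralizer {y} = T

/-- a group of Ree type with its tori -/
structure Full (R : Ree K G) (m q a b c d : ℕ) : Prop where
  N : ReeNum m q a b c d
  hK : Fintype.card K = q
  t2 : ∃ Y T : Subgroup G, IsCyclic Y ∧ Y ≤ T ∧ (∀ a ∈ T, ∀ b ∈ T, a * b = b * a) ∧ 4 * Nat.card Y = q + 1 ∧
    Nat.card T = q + 1 ∧ Tc T
  t3 : ∃ T : Subgroup G, IsCyclic T ∧ Nat.card T = c ∧ Tc T
  t4 : ∃ T : Subgroup G, IsCyclic T ∧ Nat.card T = d ∧ Tc T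

theorem tih_of {A C : Subgroup G} (h1 : IsCyclic A) (h2 : A ≤ C) (h3 : ∀ a ∈ C, ∀ b ∈ C, a * b = b * a) (h4 : Tc C)
    {a N i j : ℕ} (ha : Nat.card A = a) (h6 : a % 6 = 1) (hG : Nat.card G = a * (2 ^ i * 3 ^ j * N)) (hc : a.Coprime N) :
    TIH A C := ⟨h1, h2, h3, fun y hy h => h4 y (h2 hy) h
      (Nat.Coprime.coprime_dvd_left (ha ▸ A.orderOf_dvd_natCard hy) (ReeNum.cop6 h6 1 1)),
    (hall_of ha hG ((ReeNum.cop6 h6 i j).mul_right hc)).2⟩

theorem comm_of_cyc {A : Subgroup G} (h : IsCyclic A) : ∀ a ∈ A, ∀ b ∈ A, a * b = b * a := fun a ha b hb =>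
  congrArg Subtype.val (h.commGroup.mul_comm ⟨a, ha⟩ ⟨b, hb⟩)

theorem isCyclic_H (R : Ree K G) : IsCyclic R.h.range := isCyclic_of_surjective _ R.h.rangeRestrict_surjective

variable {R : Ree K G} {m q a b c d : ℕ}

theorem tih1 (N : ReeNum m q a b c d) (hK : Fintype.card K = q) : ∃ A, TIH A R.h.range ∧ Nat.card A = a := by
  let A := (R.h.comp (powMonoidHom 2)).range
  have h1 : A ≤ R.h.range := by rintro _ ⟨l, rfl⟩; exact ⟨_, rfl⟩
  have h2 : R.a ∉ A := fun ⟨l, e⟩ => R.a_notMem (e ▸ R.h_sq_mem l)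
  have h3 : A.relIndex R.h.range = 2 := relIndex_eq_two_iff.2 ⟨R.a, ⟨_, rfl⟩, by
    rintro _ ⟨l, rfl⟩
    obtain ⟨e, rfl | rfl⟩ := R.sq' l
    · exact Or.inr ⟨⟨e, rfl⟩, fun h => h2 ((A.mul_mem_cancel_left ⟨e, rfl⟩).1 h)⟩
    · rw [map_mul, mul_assoc, ← Ree.a, a_sq, mul_one]
      exact Or.inl ⟨⟨e, rfl⟩, fun h => h2 ((A.mul_mem_cancel_left ⟨e, rfl⟩).1 h)⟩⟩
  have h4 : Nat.card A = a := by
    have := (A.subgroupOf R.h.range).index_mul_card
    rw [Nat.card_congr (subgroupOfEquivOfLe h1).toEquiv, card_H, hK, ← relIndex, h3, N.ha] at this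
    omega
  refine ⟨A, ⟨isCyclic_of_surjective _ (MonoidHom.rangeRestrict_surjective _), h1, comm_of_cyc R.isCyclic_H, ?_,
    (hall_of h4 (N := 2 ^ 3 * 3 ^ (6 * m + 3) * (b * (c * d))) (by rw [R.card_G' N hK]; ring)
      ((ReeNum.cop6 N.a6 _ _).mul_right (N.ab.mul_right N.acd))).2⟩, h4⟩
  rintro _ ⟨l, rfl⟩ h
  exact R.cent_h_eq fun e => (eq_of_sq e).elim (fun e => h ((congrArg R.h e).trans (map_one _)))
    fun e => h2 ⟨l, congrArg R.h e⟩

namespace Full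
variable (F : Full R m q a b c d)
include F

theorem tih2 : ∃ A C : Subgroup G, TIH A C ∧ Nat.card A = b ∧ Nat.card C = q + 1 := by
  obtain ⟨Y, T, h1, h2, h3, h4, h5, h6⟩ := F.t2
  have h7 : Nat.card Y = b := by have := F.N.hb; omega
  exact ⟨Y, T, tih_of h1 h2 h3 h6 h7 F.N.b6 (N := a * (c * d)) (i := 3) (j := 6 * m + 3) (by rw [R.card_G' F.N F.hK]; ring)
    (F.N.ab.symm.mul_right F.N.bcd), h7, h5⟩

theorem tih3 : ∃ A : Subgroup G, TIH A A ∧ Nat.card A = c := by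
  obtain ⟨T, h1, h2, h3⟩ := F.t3
  exact ⟨T, tih_of h1 le_rfl (comm_of_cyc h1) h3 h2 F.N.c6 (N := a * (b * d)) (i := 3) (j := 6 * m + 3)
    (by rw [R.card_G' F.N F.hK]; ring)
    (F.N.acd.coprime_mul_right_right.symm.mul_right (F.N.bcd.coprime_mul_right_right.symm.mul_right F.N.cd)), h2⟩

theorem tih4 : ∃ A : Subgroup G, TIH A A ∧ Nat.card A = d := by
  obtain ⟨T, h1, h2, h3⟩ := F.t4
  exact ⟨T, tih_of h1 le_rfl (comm_of_cyc h1) h3 h2 F.N.d6 (N := a * (b * c)) (i := 3) (j := 6 * m + 3)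
    (by rw [R.card_G' F.N F.hK]; ring)
    (F.N.acd.coprime_mul_left_right.symm.mul_right (F.N.bcd.coprime_mul_left_right.symm.mul_right F.N.cd.symm)), h2⟩

theorem tih {n : ℕ} (h : n ∣ a ∨ n ∣ b ∨ n ∣ c ∨ n ∣ d) : ∃ A C : Subgroup G, TIH A C ∧ n ∣ Nat.card A ∧
    (Nat.card A = a ∨ Nat.card A = b ∨ Nat.card A = c ∨ Nat.card A = d) ∧
    (∀ g ∈ C, orderOf g ∣ q - 1 ∨ orderOf g ∣ (q + 1) / 2 ∨ orderOf g ∣ c ∨ orderOf g ∣ d) ∧
    ¬ 8 ∣ Nat.card C ∧ (4 ∣ Nat.card C → n ∣ b) := by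
  have := F.N.ha; have := F.N.hb; have := F.N.a6; have := F.N.b6; have := F.N.c6; have := F.N.d6
  rcases h with h | h | h | h
  · obtain ⟨A, h1, h2⟩ := tih1 (R := R) F.N F.hK
    have e : Nat.card R.h.range = q - 1 := by rw [card_H, F.hK]
    exact ⟨A, _, h1, h2 ▸ h, Or.inl h2, fun g hg => Or.inl (e ▸ orderOf_dvd_natCard _ hg), by omega, by omega⟩
  · obtain ⟨A, C, h1, h2, h3⟩ := F.tih2
    refine ⟨A, C, h1, h2 ▸ h, by omega, fun g hg => Or.inr (Or.inl ?_), by omega, fun _ => h⟩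
    rw [orderOf_dvd_iff_pow_eq_one, show (q + 1) / 2 = b + b by omega, pow_add]
    refine R.sq_of_four F.N F.hK ?_
    rw [← pow_mul, ← orderOf_dvd_iff_pow_eq_one, show b * 4 = Nat.card C by omega]
    exact orderOf_dvd_natCard _ hg
  · obtain ⟨A, h1, h2⟩ := F.tih3
    exact ⟨A, _, h1, h2 ▸ h, by omega, fun g hg => Or.inr (Or.inr (Or.inl (h2 ▸ orderOf_dvd_natCard _ hg))), by omega, by omega⟩
  · obtain ⟨A, h1, h2⟩ := F.tih4
    exact ⟨A, _, h1, h2 ▸ h, by omega, fun g hg => Or.inr (Or.inr (Or.inr (h2 ▸ orderOf_dvd_natCard _ hg))), by omega, by omega⟩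

theorem prime_cases {p : ℕ} (hp : p.Prime) (h : p ∣ Nat.card G) : p = 2 ∨ p = 3 ∨ p ∣ a ∨ p ∣ b ∨ p ∣ c ∨ p ∣ d := by
  simp only [R.card_G' F.N F.hK, hp.dvd_mul, or_assoc] at h
  exact h.imp (fun h => (Nat.prime_dvd_prime_iff_eq hp Nat.prime_two).1 (hp.dvd_of_dvd_pow h))
    (Or.imp_left fun h => (Nat.prime_dvd_prime_iff_eq hp Nat.prime_three).1 (hp.dvd_of_dvd_pow h))

theorem isCyclic_p {p : ℕ} (hp : p.Prime) (h3 : 3 < p) {P : Subgroup G} (hP : IsPGroup p P) : IsCyclic P := by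
  by_cases h : p ∣ Nat.card G
  · obtain ⟨A, C, h1, h2, -⟩ := F.tih (((F.prime_cases hp h).resolve_left (by omega)).resolve_left (by omega))
    exact h1.isCyclic_p hp h2 hP
  · have := Fact.mk hp
    obtain rfl := card_eq_one.1 (hP.card_eq_or_dvd.resolve_right fun e => h (e.trans (card_subgroup_dvd_card P)))
    infer_instance

theorem cent_odd {y : G} {p : ℕ} (hp : p.Prime) (h2 : p ≠ 2) (hy : orderOf y = p) :
    ¬ 8 ∣ Nat.card (centralizer {y}) ∧ (4 ∣ Nat.card (centralizer {y}) → p ∣ b) := by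
  have h1 : y ≠ 1 := by rintro rfl; rw [orderOf_one] at hy; exact hp.one_lt.ne hy
  rcases (F.prime_cases hp (hy ▸ orderOf_dvd_natCard y)).resolve_left h2 with rfl | h
  · obtain ⟨k, hk⟩ := R.conj_U F.N F.hK (isPGroup_zpowers (n := 1) hy)
    have h3 : Nat.card (centralizer {y}) ∣ q ^ 3 * (q - 1) := by
      rw [← card_cent_conj k, ← F.hK, ← R.card_B]
      refine card_dvd_of_le fun g hg => R.mem_B_of_conj (hk _ (mem_zpowers y)) (by simpa using h1) (R.U_le ?_)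
      rw [mem_centralizer_singleton_iff.1 hg, mul_inv_cancel_right]
      exact hk _ (mem_zpowers y)
    have h4 : ¬ 4 ∣ Nat.card (centralizer {y}) := fun h => by
      have := (Nat.Coprime.pow_right 3 (show Nat.Coprime 4 q by
        rw [F.N.hq]; exact Nat.Coprime.pow_right _ (by decide))).dvd_of_dvd_mul_left (h.trans h3)
      have := F.N.ha; have := F.N.a6; omega
    exact ⟨fun h => h4 ((by decide : 4 ∣ 8).trans h), fun h => absurd h h4⟩
  · obtain ⟨A, C, t, h3, -, -, h4⟩ := F.tih h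
    rwa [t.card_cent h1 (hy ▸ h3)]

theorem cent_sylow2 (S : Sylow 2 G) : centralizer (S.1 : Set G) = S.1 := by
  have hc : S.1 ≤ centralizer (S.1 : Set G) := fun x hx y hy => by
    have h := fun g hg => inv_eq_of_mul_eq_one_right (R.sq_of_pGroup F.N F.hK S.isPGroup' (g := g) hg)
    rw [← h _ (mul_mem hy hx), mul_inv_rev, h _ hx, h _ hy]
  refine S.is_maximal' (IsPGroup.of_card (Nat.eq_prime_pow_of_unique_prime_dvd Nat.card_pos.ne' fun {p} hp h => ?_)) hc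
  have := Fact.mk hp
  obtain ⟨y, hy⟩ := exists_prime_orderOf_dvd_card' p h
  refine by_contra fun h2 => (F.cent_odd hp h2 ((orderOf_coe y).trans hy)).1 ?_
  rw [← R.card_sylow2 F.N F.hK S]
  exact card_dvd_of_le fun g hg => mem_centralizer_singleton_iff.2 (y.2 g hg)

theorem card_norm_sylow2 (S : Sylow 2 G) : Nat.card (normalizer (S.1 : Set G)) = 168 := by
  obtain ⟨k, ha, hk⟩ := R.exists_sylow2 F.N F.hK S
  suffices Nat.card (normalizer ((k • S).1 : Set G)) = 168 by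
    refine Nat.eq_of_mul_eq_mul_right (Nat.pos_of_ne_zero (index_ne_zero_of_finite (H := normalizer (S.1 : Set G)))) ?_
    rw [card_mul_index, ← this]
    exact (card_mul_index _).symm.trans (congrArg _ ((Sylow.card_eq_index_normalizer (k • S)).symm.trans
      (Sylow.card_eq_index_normalizer S)))
  generalize k • S = S at ha hk
  have hs := fun g => R.sq_of_pGroup F.N F.hK S.isPGroup' (g := g)
  have hc : ∀ a ∈ S, ∀ b ∈ S, a * b = b * a := fun a ha b hb => (F.cent_sylow2 S).ge hb a ha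
  have h8 := R.card_sylow2 F.N F.hK S
  have h4 : Nat.card ↥(S.1 ⊓ R.L) = 4 := by
    have := (R.L.subgroupOf S.1).index_mul_card
    rw [h8, ← relIndex, R.relIndex_two ha hk, ← card_map_of_injective S.1.subtype_injective, subgroupOf_map_subtype,
      inf_comm] at this
    omega
  have e1 : (centralizer {R.a}).relIndex (normalizer (S.1 : Set G)) = 7 := by
    rw [relIndex_cent, show {g | ∃ k ∈ normalizer (S.1 : Set G), k * R.a * k⁻¹ = g} = (S.1 : Set G) \ {1} from ?_,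
      Set.ncard_sdiff_singleton_of_mem (one_mem S.1), ← Nat.card_coe_set_eq]
    · exact congrArg (· - 1) h8
    ext g
    refine ⟨by rintro ⟨k, hk, rfl⟩; exact ⟨(mem_normalizer_iff.1 hk _).1 ha, by simpa using R.a_ne⟩, fun hg => ?_⟩
    obtain ⟨k, e⟩ := R.conj_a F.N F.hK (hs g hg.1) hg.2
    have e' : k⁻¹ * R.a * k⁻¹⁻¹ = g := by rw [← e]; group
    obtain ⟨n, hn, e⟩ := exists_conj_norm S hc le_top ha (mem_top k⁻¹) (e' ▸ hg.1)
    exact ⟨n, hn.1, e.trans e'⟩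
  obtain ⟨⟨z, hz⟩, hz1⟩ := ne_bot_iff_exists_ne_one.1 (show S.1 ⊓ R.L ≠ ⊥ from fun e => by simp [e] at h4)
  replace hz1 : z ≠ 1 := by simpa using hz1
  have e2 : (centralizer {z}).relIndex (normalizer (S.1 : Set G) ⊓ centralizer {R.a}) = 3 := by
    rw [relIndex_cent, show {g | ∃ k ∈ normalizer (S.1 : Set G) ⊓ centralizer {R.a}, k * z * k⁻¹ = g} =
      ((S.1 ⊓ R.L : Subgroup G) : Set G) \ {1} from ?_, Set.ncard_sdiff_singleton_of_mem (one_mem _), ← Nat.card_coe_set_eq]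
    · exact congrArg (· - 1) h4
    ext g
    refine ⟨by
      rintro ⟨k, hk, rfl⟩
      exact ⟨⟨(mem_normalizer_iff.1 hk.1 _).1 hz.1, R.L_conj hk.2 hz.2⟩, by simpa using hz1⟩, fun hg => ?_⟩
    obtain ⟨k, h1, e⟩ := R.exists_conj_n' hg.1.2 (hs g hg.1.1) hg.2
    obtain ⟨k', h1', e'⟩ := R.exists_conj_n' hz.2 (hs z hz.1) hz1
    have e'' : k⁻¹ * k' * z * (k⁻¹ * k')⁻¹ = g := by
      rw [show k⁻¹ * k' * z * (k⁻¹ * k')⁻¹ = k⁻¹ * (k' * z * k'⁻¹) * k by group, e', ← e]; group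
    obtain ⟨n, hn, e⟩ := exists_conj_norm S hc hk hz.1 (mul_mem (inv_mem h1) h1') (e'' ▸ hg.1.1)
    exact ⟨n, hn, e.trans e''⟩
  have e3 : centralizer {z} ⊓ (normalizer (S.1 : Set G) ⊓ centralizer {R.a}) = S.1 := by
    refine le_antisymm (fun g ⟨g1, g2, g3⟩ => ?_) (le_inf (fun g hg => mem_centralizer_singleton_iff.2 (hc g hg z hz.1))
      (le_inf le_normalizer hk))
    have key : ∀ y ∈ S.1 ⊓ R.L, g * g * y = y * (g * g) := fun y hy => by
      have hy' : g * y * g⁻¹ ∈ S.1 ⊓ R.L := ⟨(mem_normalizer_iff.1 g2 _).1 hy.1, R.L_conj g3 hy.2⟩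
      have g1 := mem_centralizer_singleton_iff.1 g1
      by_cases e : g * y * g⁻¹ = y
      · rw [mul_inv_eq_iff_eq_mul] at e; rw [mul_assoc, e, ← mul_assoc, e, mul_assoc]
      have e4 : y * (g * y * g⁻¹) = z := by
        have : Nontrivial ↥(S.1 ⊓ R.L) := Finite.one_lt_card_iff_nontrivial.1 (by omega)
        have := IsKleinFour.mk (G := ↥(S.1 ⊓ R.L)) h4 ((Monoid.exponent_eq_prime_iff Nat.prime_two).2 fun t ht =>
          orderOf_eq_prime (Subtype.ext ((sq _).trans (hs _ t.2.1))) ht)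
        refine congrArg Subtype.val (IsKleinFour.eq_mul_of_ne_all (x := ⟨y, hy⟩) (y := ⟨_, hy'⟩) (z := ⟨z, hz⟩)
          ?_ ?_ ?_ ?_ ?_ ?_).symm <;> simp only [Ne, Subtype.ext_iff, coe_one]
        · rintro rfl; simp at e
        · rw [conj_eq_one_iff]; rintro rfl; simp at e
        · exact Ne.symm e
        · exact hz1
        · rintro rfl; exact e (mul_inv_eq_iff_eq_mul.2 g1)
        · intro e'
          exact e (e'.symm.trans (by rw [← mul_inv_eq_iff_eq_mul.2 g1, mul_left_inj, mul_right_inj] at e'; exact e'))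
      have e5 : g * y * g⁻¹ * (g * (g * y * g⁻¹) * g⁻¹) = g * y * g⁻¹ * y := by
        rw [hc _ hy'.1 _ hy.1, e4, ← mul_inv_eq_iff_eq_mul.2 g1, ← e4]; group
      rw [← mul_inv_eq_iff_eq_mul, ← mul_left_cancel e5]
      conv_lhs => rw [mul_left_cancel e5]
      group
    have : g * g ∈ S.1 := (F.cent_sylow2 S).le fun y hy => ((R.mem_cent_a.1 (hk hy)).elim (key y ⟨hy, ·⟩) fun h => by
      have := key _ ⟨mul_mem hy ha, h⟩
      rwa [mul_assoc y, ← mem_centralizer_singleton_iff.1 (mul_mem g3 g3), ← mul_assoc, ← mul_assoc,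
        mul_left_inj] at this).symm
    exact ((isPGroup_zpowers (p := 2) ((Nat.dvd_prime_pow Nat.prime_two (m := 2)).1 (orderOf_dvd_of_pow_eq_one
      (by rw [← hs _ this]; simp [pow_succ, mul_assoc]))).choose_spec.2).inf_normalizer_sylow S).le
        ⟨mem_zpowers g, g2⟩ |>.2
  rw [← ((centralizer {R.a}).subgroupOf _).index_mul_card, ← relIndex, e1, ← card_map_of_injective (subtype_injective _),
    subgroupOf_map_subtype, inf_comm, ← ((centralizer {z}).subgroupOf _).index_mul_card, ← relIndex, e2,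
    ← card_map_of_injective (subtype_injective _), subgroupOf_map_subtype, e3, h8]

end Full
end Ree
end H24
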