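import Cfsg.Agent.H24.Ree3

/-! Groups of Ree type: normalisers, element orders and solvable subgroups. -/

set_option linter.unusedSectionVars false
set_option maxHeartbeats 400000

namespace H24
open Subgroup H4

theorem TIH.card_norm' {G : Type*} [Group G] [Finite G] {A C : Subgroup G} (h : TIH A C) {a c i e : ℕ}
    (ha : Nat.card A = a) (hc : Nat.card C = c) (hG : Nat.card G = c * i) (h1 : (a : ℤ) ∣ e - i) (h2 : e < a) (h3 : 1 < a) :
    Nat.card (normalizer (A : Set G)) = e * c := by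
  have : C.index = i := Nat.eq_of_mul_eq_mul_left (Nat.card_pos (α := C)) (by rw [C.card_mul_index, hG, hc])
  rw [← hc]
  exact h.card_norm (by rwa [this, ha, Nat.modEq_iff_dvd]) (ha ▸ h2) fun e => by rw [e, card_bot] at ha; omega

theorem TIH.card_ord_two {G : Type*} [Group G] [Finite G] {A C : Subgroup G} (h : TIH A C)
    (hC : Nat.card C = 4 * Nat.card A) (h2 : ∀ c ∈ C, c ^ (2 * Nat.card A) = 1) (ho : Odd (Nat.card A)) {i : ℕ}
    (hi : i ∣ Nat.card A) : Nat.card {c : C // orderOf c = 2 * i} = 3 * i.totient := by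
  classical
  let _ : CommGroup C := { mul_comm := fun a b => Subtype.ext (h.comm _ a.2 _ b.2) }
  have := Fintype.ofFinite C
  have hio : Odd i := ho.of_dvd_nat hi
  have e1 : (powMonoidHom 2 : C →* C).range = A.subgroupOf C := by
    ext c
    refine ⟨?_, fun hc => ?_⟩
    · rintro ⟨c, rfl⟩
      exact h.mem (c ^ 2).2 (orderOf_dvd_of_pow_eq_one ((pow_mul _ _ _).symm.trans (h2 _ c.2)))
    · obtain ⟨k, hk⟩ := ho
      refine ⟨c ^ (k + 1), ?_⟩
      rw [powMonoidHom_apply, ← pow_mul, show (k + 1) * 2 = Nat.card A + 1 by omega, pow_succ, mul_eq_right]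
      exact Subtype.ext (congrArg Subtype.val (pow_card_eq_one' (x := (⟨c, hc⟩ : A))) :)
  have e2 : Nat.card (powMonoidHom 2 : C →* C).ker = 4 := by
    have := (powMonoidHom 2 : C →* C).ker.card_mul_index
    rw [index_ker, e1, Nat.card_congr (subgroupOfEquivOfLe h.le).toEquiv, hC] at this
    exact Nat.eq_of_mul_eq_mul_right Nat.card_pos this
  have e3 : (Finset.univ.filter fun c : C => orderOf (c ^ 2) = i).card = 4 * i.totient := by
    rw [← h.card_ord hi, Nat.card_eq_fintype_card, Fintype.card_subtype, mul_comm,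
      Finset.card_eq_sum_card_fiberwise (f := (· ^ 2)) (t := Finset.univ.filter fun c : C => orderOf c = i)
        (fun c hc => by simpa using hc), Finset.sum_congr rfl (g := fun _ => 4) fun y hy => ?_, Finset.sum_const, smul_eq_mul]
    have hy : orderOf y = i := by simpa using hy
    obtain ⟨z, rfl⟩ := e1.ge (h.mem y.2 (((orderOf_coe y).trans hy).dvd.trans hi))
    rw [← e2, Nat.card_eq_fintype_card, Fintype.card_subtype]
    refine Finset.card_bij (fun c _ => z⁻¹ * c) (fun c hc => ?_) (by simp) fun c hc => ⟨z * c, ?_, by simp⟩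
    · simp only [Finset.mem_filter, Finset.mem_univ, true_and, powMonoidHom_apply, MonoidHom.mem_ker] at hc ⊢
      rw [mul_pow, hc.2]; simp
    · simp only [Finset.mem_filter, Finset.mem_univ, true_and, powMonoidHom_apply, MonoidHom.mem_ker] at hc hy ⊢
      rw [mul_pow, hc, mul_one]; exact ⟨hy, rfl⟩
  have e4 : (Finset.univ.filter fun c : C => orderOf (c ^ 2) = i) =
      (Finset.univ.filter fun c : C => orderOf c = i) ∪ Finset.univ.filter fun c : C => orderOf c = 2 * i := by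
    ext c
    simp only [Finset.mem_filter, Finset.mem_univ, true_and, Finset.mem_union, orderOf_pow' _ two_ne_zero]
    obtain ⟨k, rfl⟩ := hio
    rcases Nat.even_or_odd' (orderOf c) with ⟨n, e | e⟩ <;> rw [e]
    · rw [Nat.gcd_eq_right (dvd_mul_right 2 n)]; omega
    · rw [Nat.coprime_two_right.2 ⟨n, rfl⟩]; omega
  rw [e4, Finset.card_union_of_disjoint (Finset.disjoint_filter.2 fun c _ h1 h2 => by have := hio.pos; omega),
    ← Fintype.card_subtype, ← Fintype.card_subtype, ← Nat.card_eq_fintype_card, ← Nat.card_eq_fintype_card,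
    h.card_ord hi] at e3
  omega

namespace Ree
variable {K : Type*} [Field K] [Fintype K] {G : Type*} [Group G] [Finite G] {R : Ree K G} {m q a b c d : ℕ}

theorem odd_H (N : ReeNum m q a b c d) (hK : Fintype.card K = q) :
    2 * Nat.card {h : R.h.range // Odd (orderOf h)} = q - 1 := by
  obtain ⟨A, h1, h2⟩ := tih1 (R := R) N hK
  have := N.ha; have := N.a6
  rw [show q - 1 = 2 * Nat.card A by omega]
  refine congrArg _ (Nat.card_congr ⟨fun h => ⟨h.1, h1.mem h.1.2 ?_⟩, fun h => ⟨⟨h, h1.le h.2⟩, ?_⟩, fun _ => rfl, fun _ => rfl⟩)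
  · refine (Nat.coprime_two_right.2 ((orderOf_coe h.1).symm ▸ h.2)).dvd_of_dvd_mul_left ?_
    rw [show 2 * Nat.card A = Nat.card R.h.range by rw [card_H]; omega]
    exact orderOf_dvd_natCard _ h.1.2
  · rw [orderOf_mk]
    exact Odd.of_dvd_nat (Nat.odd_iff.2 (by omega)) (orderOf_dvd_natCard _ h.2)

theorem fpf (R : Ree K G) {l : Kˣ} (h1 : R.h l ≠ 1) (h2 : Odd (orderOf (R.h l))) : R.U ⊓ centralizer {R.h l} = ⊥ := by
  refine eq_bot_iff.2 ?_
  rintro _ ⟨⟨t, u, v, rfl⟩, h⟩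
  refine by_contra fun h3 => (eq_of_sq (R.sq_of_fix h3 (mul_inv_eq_iff_eq_mul.2
    (mem_centralizer_singleton_iff.1 h).symm))).elim (fun e => h1 (e ▸ map_one _)) fun e => ?_
  rw [e, ← Ree.a, ord_a] at h2; exact absurd h2 (by decide)

theorem stab3 (R : Ree K G) {u : G} (hu : u ∈ R.U) : MulAction.stabilizer G ((1 : G) : G ⧸ R.B) ⊓
    MulAction.stabilizer G (R.n : G ⧸ R.B) ⊓ MulAction.stabilizer G ((u * R.n : G) : G ⧸ R.B) =
      R.h.range ⊓ centralizer {u} := by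
  have key : ∀ l, ∀ u ∈ R.U, R.h l ∈ MulAction.stabilizer G ((u * R.n : G) : G ⧸ R.B) ↔ R.h l ∈ centralizer {u} :=
    fun l u hu => by
      rw [MulAction.mem_stabilizer_iff, MulAction.Quotient.smul_mk, QuotientGroup.eq, smul_eq_mul,
        mem_centralizer_singleton_iff, ← mul_inv_eq_iff_eq_mul]
      refine ⟨fun h => (R.cell_uniq (R.h_conj_mem l hu) hu (mul_mem (R.h_mem l⁻¹) h) (one_mem _) ?_).1, fun h => ?_⟩
      · rw [← mul_assoc, mul_assoc _ R.n, ← R.hn]; group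
      · rw [← mul_assoc (R.h l), mul_inv_eq_iff_eq_mul.1 h, mul_assoc u, R.hn]
        simpa [mul_assoc] using R.h_mem l
  ext g
  simp only [mem_inf]
  refine ⟨fun ⟨⟨h1, h2⟩, h3⟩ => ?_, ?_⟩
  · rw [MulAction.mem_stabilizer_iff, MulAction.Quotient.smul_mk, QuotientGroup.eq, smul_eq_mul] at h1 h2
    obtain ⟨v, hv, l, rfl⟩ : g ∈ R.B := by simpa using h1
    obtain rfl := (R.cell_uniq hv (one_mem _) (mul_mem (R.h_mem l⁻¹) h2) (one_mem _) (by
      rw [← mul_assoc, mul_assoc _ R.n, ← R.hn]; group)).1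
    rw [one_mul] at h3 ⊢
    exact ⟨⟨l, rfl⟩, (key l u hu).1 h3⟩
  · rintro ⟨⟨l, rfl⟩, h⟩
    refine ⟨⟨?_, by simpa using (key l 1 (one_mem _)).2 (by simp [mem_centralizer_singleton_iff])⟩, (key l u hu).2 h⟩
    rw [MulAction.mem_stabilizer_iff, MulAction.Quotient.smul_mk, QuotientGroup.eq]
    simpa using R.h_mem l

theorem card_stab (R : Ree K G) {u : G} (hu : u ∈ R.U) (h1 : u ≠ 1) : R.h.range ⊓ centralizer {u} ≤ zpowers R.a := by
  rintro _ ⟨⟨l, rfl⟩, h⟩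
  obtain ⟨t, u, v, rfl⟩ := hu
  rcases eq_of_sq (R.sq_of_fix h1 (mul_inv_eq_iff_eq_mul.2 (mem_centralizer_singleton_iff.1 h))) with rfl | rfl
  exacts [map_one R.h ▸ one_mem _, mem_zpowers _]

theorem mk_cases (R : Ree K G) {y : G ⧸ R.B} (h : ((1 : G) : G ⧸ R.B) ≠ y) : ∃ u ∈ R.U, y = ((u * R.n : G) : G ⧸ R.B) := by
  induction y using QuotientGroup.induction_on with | H g =>
  obtain ⟨u, hu, b, hb, rfl⟩ := (R.decomp g).resolve_left fun hg => h (QuotientGroup.eq.2 (by simpa using hg))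
  exact ⟨u, hu, QuotientGroup.eq.2 (by simpa [mul_assoc] using hb)⟩

theorem three_points (R : Ree K G) : (∀ x y z : G ⧸ R.B, x ≠ y → x ≠ z → y ≠ z →
    Nat.card ↥(MulAction.stabilizer G x ⊓ MulAction.stabilizer G y ⊓ MulAction.stabilizer G z) ≤ 2) ∧
    ∃ x y z : G ⧸ R.B, x ≠ y ∧ x ≠ z ∧ y ≠ z ∧
      Nat.card ↥(MulAction.stabilizer G x ⊓ MulAction.stabilizer G y ⊓ MulAction.stabilizer G z) = 2 := by
  have key : ∀ (k : G) (x y z : G ⧸ R.B),
      Nat.card ↥(MulAction.stabilizer G (k • x) ⊓ MulAction.stabilizer G (k • y) ⊓ MulAction.stabilizer G (k • z)) =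
      Nat.card ↥(MulAction.stabilizer G x ⊓ MulAction.stabilizer G y ⊓ MulAction.stabilizer G z) := fun k x y z => by
    simp only [MulAction.stabilizer_smul_eq_stabilizer_map_conj]
    rw [← map_inf _ _ _ (MulAut.conj k).injective, ← map_inf _ _ _ (MulAut.conj k).injective, card_map_conj]
  have hn : ∀ u ∈ R.U, ((1 : G) : G ⧸ R.B) ≠ ((u * R.n : G) : G ⧸ R.B) := fun u hu e =>
    R.cell_notMem (R.U_le hu) (one_mem _) (by simpa using QuotientGroup.eq.1 e)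
  refine ⟨fun x y z h1 h2 h3 => ?_, _, _, _, by simpa using hn 1 (one_mem _), hn _ (R.x_mem 0 1 0), fun e => ?_, ?_⟩
  · obtain ⟨k, rfl⟩ := MulAction.exists_smul_eq G ((1 : G) : G ⧸ R.B) x
    obtain ⟨y, rfl⟩ := MulAction.surjective k y
    obtain ⟨u, hu, rfl⟩ := R.mk_cases fun e => h1 (congrArg _ e)
    obtain ⟨z, rfl⟩ := MulAction.surjective (k * u) z
    have e1 : k • ((1 : G) : G ⧸ R.B) = (k * u) • ((1 : G) : G ⧸ R.B) := QuotientGroup.eq.2 (by simpa using R.U_le hu)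
    have e2 : k • ((u * R.n : G) : G ⧸ R.B) = (k * u) • (R.n : G ⧸ R.B) := by rw [mul_smul]; rfl
    simp only [e1, e2] at h2 h3 ⊢
    obtain ⟨v, hv, rfl⟩ := R.mk_cases fun e => h2 (congrArg _ e)
    rw [key, R.stab3 hv, ← R.ord_a, ← Nat.card_zpowers]
    exact card_le_of_le (R.card_stab hv (by rintro rfl; simp at h3))
  · simpa [x_eq_one] using (R.cell_uniq (one_mem _) (R.x_mem 0 1 0) (QuotientGroup.eq.1 e) (one_mem _) (by simp)).1.symm
  · rw [R.stab3 (R.x_mem ..), le_antisymm (R.card_stab (R.x_mem ..) (by simp [x_eq_one])) (zpowers_le.2 ⟨⟨_, rfl⟩,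
      mem_centralizer_singleton_iff.2 (mem_centralizer_singleton_iff.1 (R.L_le (R.x_mem_L 1))).symm⟩),
      Nat.card_zpowers, R.ord_a]

namespace Full
variable (F : Full R m q a b c d)
include F

theorem norm1 (hm : 1 ≤ m) {A : Subgroup G} (h : TIH A R.h.range) (ha : Nat.card A = a) :
    Nat.card (normalizer (A : Set G)) = 2 * (q - 1) := by
  have := F.N.big hm
  refine h.card_norm' ha (by rw [card_H, F.hK]) (i := q ^ 3 * (q ^ 3 + 1)) (by rw [R.card_G, F.hK]; ring) ?_ (by omega)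
    (by omega)
  rw [F.N.ha]
  exact ⟨-(64 * a ^ 5 + 192 * a ^ 4 + 240 * a ^ 3 + 168 * a ^ 2 + 72 * a + 18), by push_cast; ring⟩

theorem norm2 (hm : 1 ≤ m) {A C : Subgroup G} (h : TIH A C) (ha : Nat.card A = b) (hc : Nat.card C = q + 1) :
    Nat.card (normalizer (A : Set G)) = 6 * (q + 1) := by
  have := F.N.big hm
  have h1 := F.N.ha; have h2 := F.N.hb; have h3 := F.N.hcd
  refine h.card_norm' ha hc (i := q ^ 3 * (2 * a) * (c * d)) (by
    rw [R.card_G' F.N F.hK, h2, F.N.hq]; ring) ?_ (by omega) (by omega)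
  zify at h1 h2 h3
  exact ⟨-4 * (q ^ 5 - 3 * q ^ 4 + 5 * q ^ 3 - 6 * q ^ 2 + 6 * q - 6), by
    push_cast
    linear_combination (-(q : ℤ) ^ 3 * (2 * a)) * h3 + q ^ 3 * (q ^ 2 - q + 1) * h1 -
      (q ^ 5 - 3 * q ^ 4 + 5 * q ^ 3 - 6 * q ^ 2 + 6 * q - 6) * h2⟩

theorem norm34 (hm : 1 ≤ m) {A : Subgroup G} (h : TIH A A) {x y : ℕ} (ha : Nat.card A = x)
    (hxy : x = c ∧ y = d ∨ x = d ∧ y = c) : Nat.card (normalizer (A : Set G)) = 6 * x := by
  have := F.N.big hm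
  have h1 := F.N.ha; have h2 := F.N.hb; have h3 := F.N.hcd
  have h4 : x + y = 2 * (q + 1) := by have := F.N.hc; have := F.N.hd; omega
  have h5 : c * d = x * y := by rcases hxy with ⟨rfl, rfl⟩ | ⟨rfl, rfl⟩ <;> ring
  refine h.card_norm' ha ha (i := q ^ 3 * (2 * a) * (4 * b) * y) (by
    rw [R.card_G' F.N F.hK, h5, F.N.hq]; ring) ?_ (by omega) (by omega)
  rw [h5] at h3
  zify at h1 h2 h3 h4
  exact ⟨q ^ 3 * (q ^ 2 - 1) - y * (2 * q ^ 4 + 4 * q ^ 3 - 6 * q - 6), by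
    push_cast
    linear_combination (2 * q ^ 4 + 4 * q ^ 3 - 6 * q - 6 : ℤ) * h3 - q ^ 3 * (q ^ 2 - 1) * h4 + q ^ 3 * (4 * b) * y * h1 +
      q ^ 3 * (q - 1) * y * h2⟩

theorem exists_cyc (hm : 1 ≤ m) : ∀ kn ∈ ({(a, 2 * (q - 1)), (b, 6 * (q + 1)), (c, 6 * c), (d, 6 * d)} : Set (ℕ × ℕ)),
    ∃ A : Subgroup G, IsCyclic A ∧ Nat.card A = kn.1 ∧ Nat.card (normalizer (A : Set G)) = kn.2 ∧
      ∀ A₀ : Subgroup G, A₀ ≤ A → A₀ ≠ ⊥ → normalizer (A₀ : Set G) = normalizer (A : Set G) := by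
  rintro _ (rfl | rfl | rfl | rfl)
  · obtain ⟨A, h1, h2⟩ := tih1 (R := R) F.N F.hK
    exact ⟨A, h1.cyc, h2, F.norm1 hm h1 h2, fun _ => h1.norm_eq⟩
  · obtain ⟨A, C, h1, h2, h3⟩ := F.tih2
    exact ⟨A, h1.cyc, h2, F.norm2 hm h1 h2 h3, fun _ => h1.norm_eq⟩
  · obtain ⟨A, h1, h2⟩ := F.tih3
    exact ⟨A, h1.cyc, h2, F.norm34 hm h1 h2 (Or.inl ⟨rfl, rfl⟩), fun _ => h1.norm_eq⟩
  · obtain ⟨A, h1, h2⟩ := F.tih4
    exact ⟨A, h1.cyc, h2, F.norm34 hm h1 h2 (Or.inr ⟨rfl, rfl⟩), fun _ => h1.norm_eq⟩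

theorem pow_two_b {g : G} (h : g ^ (q + 1) = 1) : g ^ (2 * b) = 1 := by
  rw [two_mul, pow_add]
  exact R.sq_of_four F.N F.hK (by rw [← pow_mul, mul_comm, ← F.N.hb, h])

theorem spectrum (n : ℕ) : (∃ g : G, orderOf g = n) ↔
    n ∣ 6 ∨ n ∣ 9 ∨ n ∣ q - 1 ∨ n ∣ (q + 1) / 2 ∨ n ∣ c ∨ n ∣ d := by
  constructor
  · rintro ⟨g, rfl⟩
    by_cases h : ∃ p, p.Prime ∧ p ∣ orderOf g ∧ p ≠ 2 ∧ p ≠ 3
    · obtain ⟨p, hp, h1, h2, h3⟩ := h
      obtain ⟨A, C, t, h4, -, h5, -⟩ := F.tih (((F.prime_cases hp (h1.trans (orderOf_dvd_natCard g))).resolve_left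
        h2).resolve_left h3)
      obtain ⟨k, hk⟩ := t.conj_mem hp h1 h4
      exact Or.inr (Or.inr (orderOf_conj k g ▸ h5 _ hk))
    obtain ⟨i, r, hr, e⟩ := Nat.exists_eq_two_pow_mul_odd (orderOf_pos g).ne'
    have hr0 := hr.pos
    obtain ⟨j, rfl⟩ : ∃ j, r = 3 ^ j := ⟨_, Nat.eq_prime_pow_of_unique_prime_dvd hr0.ne' fun {p} hp h1 => by_contra fun h3 =>
      h ⟨p, hp, e ▸ h1.mul_left _, by rintro rfl; exact hr.not_two_dvd_nat h1, h3⟩⟩
    have h2 : orderOf g ∣ 3 ^ j * 2 := by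
      rw [orderOf_dvd_iff_pow_eq_one, pow_mul, sq]
      exact R.sq_of_pGroup F.N F.hK (isPGroup_zpowers (n := i) (by
        rw [orderOf_pow' _ hr0.ne', e, Nat.gcd_eq_right (dvd_mul_left _ _), Nat.mul_div_cancel _ hr0])) (mem_zpowers _)
    have h3 : orderOf g ∣ 2 ^ i * 9 := by
      obtain ⟨k, hk⟩ := R.conj_U F.N F.hK (isPGroup_zpowers (g := g ^ 2 ^ i) (n := j) (by
        rw [orderOf_pow' _ (by positivity), e, Nat.gcd_eq_right (dvd_mul_right _ _), Nat.mul_div_cancel_left _ (by positivity)]))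
      obtain ⟨t, u, v, e⟩ := hk _ (mem_zpowers _)
      rw [orderOf_dvd_iff_pow_eq_one, pow_mul, ← orderOf_dvd_iff_pow_eq_one, ← orderOf_conj k, e, orderOf_dvd_iff_pow_eq_one,
        x_nine]
    have h4 : g ^ (2 * 9) = 1 := by
      rw [← orderOf_dvd_iff_pow_eq_one, e] at *
      exact mul_dvd_mul ((Nat.Coprime.pow i j (by decide)).dvd_of_dvd_mul_left ((dvd_mul_right _ _).trans h2))
        ((Nat.Coprime.pow j i (by decide)).dvd_of_dvd_mul_left ((dvd_mul_left _ _).trans h3))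
    by_cases h5 : g ^ 9 = 1
    · exact Or.inr (Or.inl (orderOf_dvd_of_pow_eq_one h5))
    by_cases h6 : g ^ 2 = 1
    · exact Or.inl ((orderOf_dvd_of_pow_eq_one h6).trans (by decide))
    obtain ⟨k, u, hu, e⟩ := R.conj_xa F.N F.hK h4 h5 h6
    exact Or.inl (by rw [← orderOf_conj k, e, R.ord_xa hu])
  · have key : ∀ g : G, n ∣ orderOf g → ∃ g : G, orderOf g = n := fun g h => (exists_pow_prime h).imp' _ fun _ => id
    have key' : ∀ A : Subgroup G, IsCyclic A → n ∣ Nat.card A → ∃ g : G, orderOf g = n := fun A hA h => by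
      obtain ⟨g, rfl⟩ := (Subgroup.isCyclic_iff_exists_zpowers_eq_top A).1 hA
      exact key g (Nat.card_zpowers g ▸ h)
    rintro (h | h | h | h | h | h)
    · exact key _ ((R.ord_xa one_ne_zero).symm ▸ h)
    · exact key _ (((R.ord_x9 (u := 0) (v := 0)).2 one_ne_zero).symm ▸ h)
    · exact key' _ R.isCyclic_H (by rwa [card_H, F.hK])
    · obtain ⟨A, C, h1, h2, h3⟩ := F.tih2
      have := F.N.hb; have := F.N.b6
      have e := h1.card_ord_two (by omega) (fun c hc => h2 ▸ F.pow_two_b (h3 ▸ orderOf_dvd_iff_pow_eq_one.1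
        (orderOf_dvd_natCard _ hc))) (Nat.odd_iff.2 (by omega)) dvd_rfl
      obtain ⟨⟨g, hg⟩⟩ := (Nat.card_pos_iff.1 ((mul_pos three_pos (Nat.totient_pos.2 Nat.card_pos)).trans_eq e.symm)).1
      exact key g (by rwa [orderOf_coe, hg, show 2 * Nat.card A = (q + 1) / 2 by omega])
    · obtain ⟨A, h1, h2⟩ := F.tih3
      exact key' A h1.cyc (h2 ▸ h)
    · obtain ⟨A, h1, h2⟩ := F.tih4
      exact key' A h1.cyc (h2 ▸ h)

theorem card_G2 : Nat.card G = q ^ 3 * (q - 1) * ((q + 1) * (c * d)) := by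
  rw [R.card_G' F.N F.hK, F.N.hb, show q - 1 = 2 * a by have := F.N.ha; omega, F.N.hq]; ring

theorem count_a (hm : 1 ≤ m) {i : ℕ} (h2 : 2 < i) (hi : i ∣ q - 1) :
    2 * Nat.card {g : G // orderOf g = i} = i.totient * q ^ 3 * (q ^ 3 + 1) := by
  obtain ⟨A, h1, h3⟩ := tih1 (R := R) F.N F.hK
  have := F.N.ha; have := F.N.big hm
  have e := h1.count' (j := i) (F.norm1 hm h1 h3) fun h => by
    have := Nat.le_of_dvd two_pos (h.dvd_of_dvd_mul_right (by rwa [h3, show 2 * a = q - 1 by omega])); omega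
  rw [card_ord_cyc R.isCyclic_H (by rwa [card_H, F.hK]), R.card_G, F.hK] at e
  exact Nat.eq_of_mul_eq_mul_left (show 0 < q - 1 by omega) (by linear_combination e)

theorem count_b (hm : 1 ≤ m) {i : ℕ} (h2 : 1 < i) (hi : i ∣ b) :
    6 * Nat.card {g : G // orderOf g = i} = i.totient * q ^ 3 * (q - 1) * (c * d) ∧
      2 * Nat.card {g : G // orderOf g = 2 * i} = i.totient * q ^ 3 * (q - 1) * (c * d) := by
  obtain ⟨A, C, h1, h3, h4⟩ := F.tih2
  have := F.N.hb; have := F.N.b6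
  have h5 : ¬ i.Coprime (Nat.card A) := fun h => h2.ne' (Nat.eq_one_of_dvd_coprimes h dvd_rfl (h3 ▸ hi))
  have e := h1.count' (F.norm2 hm h1 h3 h4) h5
  have e' := h1.count' (j := 2 * i) (F.norm2 hm h1 h3 h4) fun h => h5 h.coprime_mul_left
  rw [h1.card_ord (h3 ▸ hi), F.card_G2] at e
  rw [h1.card_ord_two (by omega) (fun c hc => h3 ▸ F.pow_two_b (h4 ▸ orderOf_dvd_iff_pow_eq_one.1
    (orderOf_dvd_natCard _ hc))) (Nat.odd_iff.2 (by omega)) (h3 ▸ hi), F.card_G2] at e'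
  exact ⟨Nat.eq_of_mul_eq_mul_left (show 0 < q + 1 by omega) (by linear_combination e),
    Nat.eq_of_mul_eq_mul_left (show 0 < 3 * (q + 1) by omega) (by linear_combination e')⟩

theorem count_cd (hm : 1 ≤ m) {x y : ℕ} (hxy : x = c ∧ y = d ∨ x = d ∧ y = c) {i : ℕ} (h2 : 1 < i) (hi : i ∣ x) :
    6 * Nat.card {g : G // orderOf g = i} = i.totient * q ^ 3 * (q ^ 2 - 1) * y := by
  obtain ⟨A, h1, h3⟩ : ∃ A : Subgroup G, TIH A A ∧ Nat.card A = x := by
    rcases hxy with ⟨rfl, -⟩ | ⟨rfl, -⟩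
    exacts [F.tih3, F.tih4]
  have e := h1.count' (j := i) (F.norm34 hm h1 h3 hxy) fun h => h2.ne' (Nat.eq_one_of_dvd_coprimes h dvd_rfl (h3 ▸ hi))
  rw [h1.card_ord (h3 ▸ hi), F.card_G2, show c * d = x * y by rcases hxy with ⟨rfl, rfl⟩ | ⟨rfl, rfl⟩ <;> ring] at e
  rw [show q ^ 2 - 1 = (q + 1) * (q - 1) from Nat.sq_sub_sq q 1]
  exact Nat.eq_of_mul_eq_mul_left (show 0 < x from h3 ▸ Nat.card_pos) (by linear_combination e)

theorem conj_cyc {n : ℕ} (h : n ∣ a ∨ n ∣ b ∨ n ∣ c ∨ n ∣ d) {A B : Subgroup G} (hA : IsCyclic A) (hB : IsCyclic B)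
    (h1 : Nat.card A = n) (h2 : Nat.card B = n) : ∃ g, B = A.map (MulAut.conj g).toMonoidHom := by
  obtain ⟨T, C, t, h3, -⟩ := F.tih h
  exact t.conj hA hB (h1 ▸ h3) (h1.trans h2.symm)

theorem cent_cyc (hm : 1 ≤ m) {A : Subgroup G} (hA : IsCyclic A) :
    (Nat.card A = a → IsCyclic (centralizer (A : Set G)) ∧ Nat.card (centralizer (A : Set G)) = q - 1 ∧
      ∀ B : Subgroup G, B ≤ A → B ≠ ⊥ → centralizer (B : Set G) = centralizer (A : Set G)) ∧
    (Nat.card A = b → IsMulCommutative (centralizer (A : Set G)) ∧ Nat.card (centralizer (A : Set G)) = q + 1 ∧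
      (∀ x ∈ centralizer (A : Set G), orderOf x ≠ 4) ∧
      ∀ B : Subgroup G, B ≤ A → B ≠ ⊥ → centralizer (B : Set G) = centralizer (A : Set G)) := by
  have := F.N.big hm
  refine ⟨fun h => ?_, fun h => ?_⟩
  · obtain ⟨T, h1, h2⟩ := tih1 (R := R) F.N F.hK
    obtain ⟨g, t⟩ := h1.of_card hA (h.trans h2.symm)
    rw [t.cent_eq le_rfl fun e => by rw [e, card_bot] at h; omega]
    have := R.isCyclic_H
    exact ⟨isCyclic_of_surjective _ ((MulAut.conj g).toMonoidHom.subgroupMap_surjective _),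
      by rw [card_map_conj, card_H, F.hK], fun _ => t.cent_eq⟩
  · obtain ⟨T, C, h1, h2, h3⟩ := F.tih2
    obtain ⟨g, t⟩ := h1.of_card hA (h.trans h2.symm)
    rw [t.cent_eq le_rfl fun e => by rw [e, card_bot] at h; omega]
    refine ⟨⟨⟨fun x y => Subtype.ext (t.comm _ x.2 _ y.2)⟩⟩, by rw [card_map_conj, h3], fun x _ e => ?_, fun _ => t.cent_eq⟩
    have := orderOf_dvd_of_pow_eq_one ((sq x).trans (R.sq_of_four F.N F.hK (e ▸ pow_orderOf_eq_one x)))
    rw [e] at this; omega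

/-- the conclusion of the theorem on solvable subgroups -/
def Loc (a b c d : ℕ) (S : Subgroup G) : Prop := ∃ A : Subgroup G, S ≤ normalizer (A : Set G) ∧
  ((∃ P : Sylow 2 G, A = P) ∨ (∃ P : Sylow 3 G, A = P) ∨
    IsCyclic A ∧ (Nat.card A = a ∨ Nat.card A = b ∨ Nat.card A = c ∨ Nat.card A = d))

theorem four_conj {E : Subgroup G} (h2 : IsPGroup 2 E) (h4 : Nat.card E = 4) :
    ∃ k, E.map (MulAut.conj k).toMonoidHom = closure {R.a, R.n} := by
  have hs := fun g => R.sq_of_pGroup F.N F.hK h2 (g := g)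
  have : Nontrivial E := Finite.one_lt_card_iff_nontrivial.1 (by omega)
  obtain ⟨x, hx⟩ := exists_ne (1 : E)
  obtain ⟨y, -, hy⟩ := Set.exists_mem_notMem_of_ncard_lt_ncard (s := {1, x}) (t := Set.univ) (by
    rw [Set.ncard_pair hx.symm, Set.ncard_univ]; omega)
  simp only [Set.mem_insert_iff, Set.mem_singleton_iff, not_or] at hy
  obtain ⟨k, e⟩ := R.conj_a F.N F.hK (hs _ x.2) (by simpa using hx)
  obtain ⟨k', h1, e'⟩ := R.exists_conj_n (g := k * y * k⁻¹) (mem_centralizer_singleton_iff.2 (by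
    have h := fun g hg => inv_eq_of_mul_eq_one_right (hs g hg)
    rw [← e, conj_mul, conj_mul, ← h _ (mul_mem y.2 x.2), mul_inv_rev, h _ x.2, h _ y.2])) (by simp [hs _ y.2])
    (by simpa using hy.1) (by simpa [← e] using hy.2)
  have a1 : R.a ∈ E.map (MulAut.conj (k' * k)).toMonoidHom := ⟨x, x.2, by
    change k' * k * x * (k' * k)⁻¹ = _
    rw [show k' * k * x * (k' * k)⁻¹ = k' * (k * x * k⁻¹) * k'⁻¹ by group, e, mem_centralizer_singleton_iff.1 h1,
      mul_inv_cancel_right]⟩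
  have a2 : k' * (k * y * k⁻¹) * k'⁻¹ ∈ E.map (MulAut.conj (k' * k)).toMonoidHom := ⟨y, y.2, by simp [mul_assoc]⟩
  have a3 : closure {R.a, R.n} ≤ E.map (MulAut.conj (k' * k)).toMonoidHom := (closure_le _).2 (by
    rintro _ (rfl | rfl)
    exacts [a1, e'.elim (· ▸ a2) fun e' => (mul_mem_cancel_right a1).1 (e' ▸ a2)])
  refine ⟨_, (eq_of_le_of_card_ge a3 ?_).symm⟩
  have b1 := card_dvd_of_le a3
  have b2 : zpowers R.a ≤ closure {R.a, R.n} := zpowers_le.2 (subset_closure (by simp))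
  have b3 := card_dvd_of_le b2
  have b4 : ¬ Nat.card (closure {R.a, R.n}) ≤ Nat.card (zpowers R.a) := fun h => R.n_notMem
    (zpowers_le.2 (R.h_mem (-1)) ((eq_of_le_of_card_ge b2 h).ge (subset_closure (by simp))))
  rw [card_map_conj, h4] at b1 ⊢
  rw [Nat.card_zpowers, R.ord_a] at b3 b4
  have := Nat.le_of_dvd four_pos b1
  omega

theorem loc_four (hm : 1 ≤ m) {E : Subgroup G} (h2 : IsPGroup 2 E) (h4 : Nat.card E = 4) :
    Loc a b c d (normalizer (E : Set G)) := by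
  obtain ⟨Y, T, t, hY, hT, hE⟩ : ∃ Y T : Subgroup G, TIH Y T ∧ Nat.card Y = b ∧ Nat.card T = q + 1 ∧ E ≤ T := by
    obtain ⟨Y, T, t, hY, hT⟩ := F.tih2
    obtain ⟨V, hV⟩ := Sylow.exists_subgroup_card_pow_prime (G := T) 2 (n := 2) (by rw [hT, F.N.hb]; exact dvd_mul_right 4 b)
    replace hV := (card_map_of_injective (K := V) T.subtype_injective).trans hV
    obtain ⟨k, e⟩ := F.four_conj h2 h4
    obtain ⟨k', e'⟩ := F.four_conj (IsPGroup.of_card hV) hV
    refine ⟨_, _, t.map (k⁻¹ * k'), by rwa [card_map_conj], by rwa [card_map_conj], fun g hg => ?_⟩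
    obtain ⟨v, hv, e1⟩ := (e.trans e'.symm).le ⟨g, hg, rfl⟩
    exact ⟨v, map_subtype_le _ hv, by rw [map_mul]; simpa [mul_assoc] using congrArg (fun t => k⁻¹ * t * k) e1⟩
  have h1 : T ≤ centralizer (E : Set G) := fun x hx y hy => t.comm _ (hE hy) _ hx
  have h3 := (T.subgroupOf (centralizer (E : Set G))).index_mul_card
  rw [Nat.card_congr (subgroupOfEquivOfLe h1).toEquiv, hT, F.N.hb, ← relIndex] at h3
  obtain ⟨i, hi⟩ : ∃ i, T.relIndex (centralizer (E : Set G)) = 2 ^ i := ⟨_, Nat.eq_prime_pow_of_unique_prime_dvd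
    index_ne_zero_of_finite fun {p} hp h => by_contra fun h2 => by
      have := Fact.mk hp
      obtain ⟨y, hy⟩ := exists_prime_orderOf_dvd_card' p (h.trans (Dvd.intro _ h3))
      exact hp.one_lt.ne' (Nat.eq_one_of_dvd_coprimes t.hall (hY ▸ (F.cent_odd hp h2 ((orderOf_coe y).trans hy)).2
        (h4 ▸ card_dvd_of_le fun g hg => mem_centralizer_singleton_iff.2 (y.2 g hg)))
        (h.trans ((relIndex_dvd_index_of_le h1).trans (index_dvd_of_le t.le))))⟩
  have h5 : 2 ^ (i + 2) ∣ 2 ^ 3 := by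
    refine Nat.Coprime.dvd_of_dvd_mul_right (n := 3 ^ (6 * m + 3) * (a * (b * (c * d)))) (Nat.Coprime.mul_right
      (Nat.Coprime.pow _ _ (by decide)) (by simpa only [pow_zero, mul_one] using (cop F.N (i + 2) 0).symm)) ?_
    rw [← mul_assoc, ← R.card_G' F.N F.hK]
    exact Dvd.dvd.trans ⟨b, by rw [← h3, hi]; ring⟩ (card_subgroup_dvd_card _)
  have h6 : ∀ w ∈ centralizer (E : Set G), w ^ 2 ∈ T := fun w hw => by
    rcases Nat.le_one_iff_eq_zero_or_eq_one.1 (show i ≤ 1 by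
      have := (Nat.pow_dvd_pow_iff_le_right one_lt_two).1 h5; omega) with rfl | rfl
    · exact pow_mem (relIndex_eq_one.1 hi hw) 2
    · exact (T.subgroupOf _).sq_mem_of_index_two hi ⟨w, hw⟩
  have := F.N.big hm
  obtain ⟨⟨y, hy⟩, h7⟩ := ne_bot_iff_exists_ne_one.1 (show Y ≠ ⊥ from fun e => by rw [e, card_bot] at hY; omega)
  refine ⟨Y, fun g hg => t.mem_norm hy (by simpa using h7) ?_, Or.inr (Or.inr ⟨t.cyc, Or.inr (Or.inl hY)⟩)⟩
  have h8 := pow_mem (h6 (g * y * g⁻¹) fun x hx => by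
    have := h1 (t.le hy) _ ((mem_normalizer_iff''.1 hg x).1 hx)
    calc _ = g * (g⁻¹ * x * g * y) * g⁻¹ := by group
      _ = _ := by rw [this]; group) (b / 2 + 1)
  rwa [← pow_mul, show 2 * (b / 2 + 1) = Nat.card Y + 1 by have := F.N.b6; omega, pow_succ, conj_pow,
    show y ^ Nat.card Y = 1 from congrArg Subtype.val (pow_card_eq_one' (x := (⟨y, hy⟩ : Y))), mul_one, mul_inv_cancel,
    one_mul] at h8

omit F in
theorem Loc.mono {S S' : Subgroup G} (h : Loc a b c d S') (h' : S ≤ S') : Loc a b c d S :=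
  h.imp fun _ h => ⟨h'.trans h.1, h.2⟩

theorem loc_p (hm : 1 ≤ m) {p : ℕ} (hp : p.Prime) {E : Subgroup G} (h1 : IsPGroup p E) (h0 : E ≠ ⊥)
    (h2 : p = 2 → Nat.card E ≠ 2) : Loc a b c d (normalizer (E : Set G)) := by
  have := Fact.mk hp
  have h3 := h1.card_eq_or_dvd.resolve_left (mt card_eq_one.1 h0)
  rcases F.prime_cases hp (h3.trans (card_subgroup_dvd_card E)) with rfl | rfl | h
  · obtain ⟨S, hS⟩ := h1.exists_le_sylow
    have h4 := card_dvd_of_le hS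
    rw [R.card_sylow2 F.N F.hK] at h4
    by_cases h5 : Nat.card E = 4
    · exact F.loc_four hm h1 h5
    · refine ⟨E, le_rfl, Or.inl ⟨S, eq_of_le_of_card_ge hS ?_⟩⟩
      have := h2 rfl
      have := Nat.le_of_dvd (by decide) h4
      rw [R.card_sylow2 F.N F.hK]
      generalize Nat.card E = n at *
      interval_cases n <;> omega
  · obtain ⟨S, hS⟩ := h1.exists_le_sylow
    obtain ⟨k, hk⟩ := R.sylow3 F.N F.hK S
    obtain ⟨⟨y, hy⟩, h7⟩ := ne_bot_iff_exists_ne_one.1 h0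
    refine ⟨S, fun g hg => mem_norm_of_conj fun s hs => (hk _).2 ?_, Or.inr (Or.inl ⟨S, rfl⟩)⟩
    simpa [mul_assoc] using R.B_conj (R.mem_B_of_conj (k := k * g * k⁻¹) ((hk y).1 (hS hy)) (by simpa using h7)
      (R.U_le (by simpa [mul_assoc] using (hk _).1 (hS ((mem_normalizer_iff.1 hg y).1 hy))))) ((hk s).1 hs)
  · obtain ⟨A, C, t, h4, h5, -⟩ := F.tih h
    obtain ⟨B, e1, e2, e3⟩ := t.exists_norm hp h4 h1 h0
    exact ⟨B, e1.le, Or.inr (Or.inr ⟨e2, e3 ▸ h5⟩)⟩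

omit F in
theorem exists_p {S M : Subgroup G} (hS : Group.IsSolvable S) (h : (M.subgroupOf S).Normal) (h0 : M ⊓ S ≠ ⊥) :
    ∃ p, p.Prime ∧ ∃ E : Subgroup G, E ≤ M ∧ S ≤ normalizer (E : Set G) ∧ E ≠ ⊥ ∧ IsPGroup p E := by
  obtain ⟨p, hp, E, e1, e2, e3, e4⟩ := exists_normal_p _ h fun e => h0 (by
    rw [← subgroupOf_map_subtype, e, Subgroup.map_bot])
  refine ⟨p, hp, E.map S.subtype, by rintro _ ⟨g, hg, rfl⟩; exact e2 hg, fun g hg => mem_norm_of_conj ?_,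
    mt (map_eq_bot_iff_of_injective _ S.subtype_injective).1 e3, e4.map _⟩
  rintro _ ⟨x, hx, rfl⟩
  exact ⟨_, e1.conj_mem x hx ⟨g, hg⟩, rfl⟩

theorem loc_a (hm : 1 ≤ m) {S : Subgroup G} (hS : Group.IsSolvable S) (h : S ≤ centralizer {R.a}) : Loc a b c d S := by
  have hz : zpowers R.a ≤ centralizer (S : Set G) := zpowers_le.2 fun g hg => mem_centralizer_singleton_iff.1 (h hg)
  have h1 : S ⊔ zpowers R.a ≤ centralizer {R.a} := sup_le h (zpowers_le.2 (mem_centralizer_singleton_iff.2 rfl))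
  have h2 : Group.IsSolvable ↥(S ⊔ zpowers R.a) := by
    let φ := S.subtype.noncommCoprod (zpowers R.a).subtype fun x y => hz y.2 x x.2
    have : φ.range = S ⊔ zpowers R.a := 
      (MonoidHom.noncommCoprod_range _ _ _).trans (by rw [range_subtype, range_subtype])
    rw [← this]
    exact Group.isSolvable_of_surjective φ.rangeRestrict_surjective
  refine Loc.mono ?_ (le_sup_left (b := zpowers R.a))
  by_cases h0 : R.L ⊓ (S ⊔ zpowers R.a) = ⊥
  · obtain ⟨P, hP⟩ := (isPGroup_inv R.a_sq).exists_le_sylow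
    refine ⟨P, fun g hg => le_normalizer (hP ?_), Or.inl ⟨P, rfl⟩⟩
    rcases R.mem_cent_a.1 (h1 hg) with h | h
    · exact mem_bot.1 (h0.le ⟨h, hg⟩) ▸ one_mem _
    · exact eq_inv_of_mul_eq_one_left (mem_bot.1 (h0.le ⟨h, mul_mem hg (mem_sup_right (mem_zpowers _))⟩)) ▸
        inv_mem (mem_zpowers _)
  obtain ⟨p, hp, E, e1, e2, e3, e4⟩ := exists_p h2 (M := R.L) ⟨fun x hx g => R.L_conj (h1 g.2) hx⟩ h0
  by_cases h3 : p = 2
  · subst h3
    have h4 : zpowers R.a ≤ normalizer (E : Set G) := le_sup_right.trans e2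
    refine (F.loc_p hm hp (IsPGroup.to_sup_of_normal_left' e4 (isPGroup_inv R.a_sq) h4) (fun e => e3 (eq_bot_iff.2
      (le_sup_left.trans e.le))) fun _ h5 => e3 (eq_bot_iff.2 fun g hg => ?_)).mono
      ((le_inf e2 (h1.trans fun g hg => mem_norm_of_conj ?_)).trans (normalizer_inf_normalizer_le_normalizer_sup _ _))
    · obtain ⟨i, rfl⟩ := (eq_of_le_of_card_ge le_sup_right (by rw [h5, Nat.card_zpowers, R.ord_a])).ge (mem_sup_left hg)
      rcases Int.even_or_odd' i with ⟨j, rfl | rfl⟩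
      · simp [zpow_mul, zpow_ofNat, sq, a_sq]
      · exact absurd (by simpa [zpow_add, zpow_mul, zpow_ofNat, sq, a_sq] using e1 hg) R.a_notMem
    · rintro _ ⟨i, rfl⟩
      rw [((Commute.zpow_right (mem_centralizer_singleton_iff.1 hg)) i).eq, mul_inv_cancel_right]
      exact ⟨i, rfl⟩
  · exact (F.loc_p hm hp e4 e3 fun e => absurd e h3).mono e2

theorem loc (hm : 1 ≤ m) {S : Subgroup G} (hS : Group.IsSolvable S) : Loc a b c d S := by
  by_cases h0 : S = ⊥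
  · exact F.loc_a hm hS (h0 ▸ bot_le)
  obtain ⟨p, hp, E, -, e2, e3, e4⟩ := exists_p hS (M := ⊤) inferInstance (by rwa [top_inf_eq])
  by_cases h : p = 2 ∧ Nat.card E = 2
  · obtain ⟨rfl, h⟩ := h
    obtain ⟨y, h1, h2⟩ := (Nat.card_eq_two_iff' 1).1 h
    obtain ⟨k, e⟩ := R.conj_a F.N F.hK (R.sq_of_pGroup F.N F.hK e4 y.2) (by simpa using h1)
    obtain ⟨A, a1, a2⟩ := F.loc_a hm (S := S.map (MulAut.conj k).toMonoidHom)
      (Group.isSolvable_of_surjective ((MulAut.conj k).toMonoidHom.subgroupMap_surjective S)) (by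
        rintro _ ⟨g, hg, rfl⟩
        have := congrArg Subtype.val (h2 ⟨_, (mem_normalizer_iff.1 (e2 hg) _).1 y.2⟩ (by simpa using h1))
        rw [mem_centralizer_singleton_iff, ← e]
        simpa [mul_assoc] using congrArg (fun t => k * t * g * k⁻¹) this)
    refine ⟨A.map (MulAut.conj k⁻¹).toMonoidHom, fun g hg => mem_norm_of_conj ?_, a2.imp ?_ (Or.imp ?_ ?_)⟩
    · rintro _ ⟨x, hx, rfl⟩
      exact ⟨_, (mem_normalizer_iff.1 (a1 ⟨g, hg, rfl⟩) x).1 hx, by simp [mul_assoc]⟩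
    · rintro ⟨P, rfl⟩; exact ⟨k⁻¹ • P, rfl⟩
    · rintro ⟨P, rfl⟩; exact ⟨k⁻¹ • P, rfl⟩
    · rintro ⟨a3, a4⟩
      exact ⟨isCyclic_of_surjective _ ((MulAut.conj k⁻¹).toMonoidHom.subgroupMap_surjective _), by rwa [card_map_conj]⟩
  · exact (F.loc_p hm hp e4 e3 (not_and.1 h)).mono e2

end Full
end Ree
end H24
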