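import Cfsg.Agent.H24.Tor
import Cfsg.Agent.H24.TwD4

/-! Self-centralizing cyclic tori; models of twisted groups. -/

set_option maxHeartbeats 400000
set_option linter.unusedSectionVars false

namespace H24
open Finset St0 Cfsg.Lie

theorem abs_digits {q : ℕ} (hq : 6 ≤ q) (l : ℕ) : 5 * ∑ i ∈ range l, (q : ℤ) ^ i < q ^ l ∧
    ∀ (d : ℕ → ℤ) (c : ℤ), (∀ i < l, |d i| ≤ c) → |∑ i ∈ range l, d i * q ^ i| ≤ c * ∑ i ∈ range l, (q : ℤ) ^ i := by
  refine ⟨?_, fun d c h => (abs_sum_le_sum_abs _ _).trans ?_⟩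
  · induction l with
    | zero => simp
    | succ l ih =>
      have : (6 : ℤ) ≤ q := by exact_mod_cast hq
      have : (0 : ℤ) < q ^ l := by positivity
      rw [sum_range_succ, pow_succ]; nlinarith
  · rw [mul_sum]
    refine sum_le_sum fun i hi => ?_
    rw [abs_mul, abs_of_nonneg (by positivity : (0 : ℤ) ≤ q ^ i)]
    exact mul_le_mul_of_nonneg_right (h i (mem_range.1 hi)) (by positivity)

theorem digits_eq_zero {q l : ℕ} (hq : 6 ≤ q) {d χ : ℕ → ℤ} (hd : ∀ i < l, |d i| ≤ 4) (hχ : ∀ i < l, |χ i| ≤ 1)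
    (h : ((q : ℤ) ^ l + ∑ i ∈ range l, χ i * q ^ i) ∣ ∑ i ∈ range l, d i * q ^ i) : ∀ i < l, d i = 0 := by
  obtain ⟨h1, h2⟩ := abs_digits hq l
  have h3 := Int.eq_zero_of_abs_lt_dvd h (by have := h2 d 4 hd; have := abs_le.1 (h2 χ 1 hχ); omega)
  clear h h1 h2 hχ
  induction l with
  | zero => simp
  | succ l ih =>
    obtain ⟨h1, h2⟩ := abs_digits hq l
    have h4 := h2 d 4 fun i hi => hd i (by omega)
    rw [sum_range_succ, add_eq_zero_iff_eq_neg] at h3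
    have h5 : d l = 0 := by
      by_contra h0
      have := Int.one_le_abs h0
      have : (0 : ℤ) ≤ ∑ i ∈ range l, (q : ℤ) ^ i := by positivity
      rw [h3, abs_neg, abs_mul, abs_of_nonneg (by positivity : (0 : ℤ) ≤ q ^ l)] at h4
      nlinarith
    intro i hi
    rcases Nat.lt_succ_iff_lt_or_eq.1 hi with hi | rfl
    exacts [ih (fun i hi => hd i (by omega)) (by rw [h3, h5]; simp) i hi, h5]

theorem TD.map_Fx {ι Φ : Type} [Fintype ι] [DecidableEq ι] [Fintype Φ] [DecidableEq Φ] {R : CD ι Φ} {F : Type*} [Field F]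
    {G G' : Type*} [Group G] [Group G'] (d : TD R F) {S : St R F G} (hG : S.Gr = ⊤) (ha : S.Adj) {S' : St R F G'}
    (hG' : S'.Gr = ⊤) (h3' : S'.R3) (hi : Function.Injective (S'.hh h3')) (h3 : S.R3) (σ : G' →* G')
    (hσ : ∀ r t, σ (S'.x r t) = (d.tw S'.toSt0).x r t) (θ : G' →* G) (hθ : ∀ r t, θ (S'.x r t) = S.x r t) {κ : Type}
    (O : (d.twAd S hG ha).sym.Orb κ) (sub : Tw.Sub _ O (Tw.G1 _ O)) (hT : ∀ c ∈ d.T, S.hh h3 c ∈ Tw.G1 _ O) :
    (σ.eqLocus (MonoidHom.id _)).map θ = Tw.G1 _ O ∧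
      σ.eqLocus (MonoidHom.id _) ⊓ θ.ker = (d.T ⊓ (R.theta F).ker).map (S'.hh h3') := by
  have h1 : ∀ g, g ∈ S'.H → σ g = g → ∃ c ∈ d.T, S'.hh h3' c = g := fun g hg e => by
    obtain ⟨c, rfl⟩ : g ∈ (S'.hh h3').range := by rwa [St.range_hh]
    exact ⟨c, hi (by rw [← d.σ_hh h3' hσ, e]; rfl), rfl⟩
  have h2 : Tw.G1 _ O ≤ (σ.eqLocus (MonoidHom.id _)).map θ := fun g hg =>
    let ⟨y, _, e, e'⟩ := Tw.exists_lift (z := d.twAd S hG ha) σ θ hθ hσ (Tw.G1_le_sup hg); ⟨y, e, e'⟩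
  have h4 : Tw.Sub _ O ((σ.eqLocus (MonoidHom.id _)).map θ) := ⟨hG ▸ le_top, by
    rintro _ ⟨y, hy, rfl⟩
    exact (eq_of_mem_Gr (θ := (d.twAd S hG ha).σ.comp θ) (θ' := θ.comp σ) (fun r t => by
      simp only [MonoidHom.comp_apply, hσ, TD.tw_x, hθ]; exact Tw.σ_x _ r t) (hG' ▸ Subgroup.mem_top y)).trans
      (congrArg θ hy), fun k => (sub.UK_le k).trans h2, fun k => (sub.VK_le k).trans h2, sub.nontriv⟩
  refine ⟨le_antisymm (h4.le_of_H_le sub h2 ?_) h2, ?_⟩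
  · rintro _ ⟨hg, y, hy, rfl⟩
    obtain ⟨c, hc, rfl⟩ := h1 y (S'.mem_H_of_map _ θ hθ (hG' ▸ Subgroup.mem_top y) hg) hy
    exact S'.map_hh θ hθ h3' h3 c ▸ hT c hc
  · rw [S'.ker_eq_center hG' S ha _ hθ, S'.center_eq hG']
    refine le_antisymm (fun g hg => ?_) ?_
    · obtain ⟨c, hc, rfl⟩ := h1 g hg.2.1 hg.1
      exact ⟨c, ⟨hc, (S'.hh_mem_Z h3').1 hg.2⟩, rfl⟩
    · rintro _ ⟨c, hc, rfl⟩
      exact ⟨(d.σ_hh h3' hσ c).trans (congrArg _ hc.1), (S'.hh_mem_Z h3').2 hc.2⟩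

theorem sumLt_range (n : ℕ) (f : ℕ → ℤ) : sumLt n f = ∑ i ∈ range n, f i := by
  rw [sumLt_eq, Fin.sum_univ_eq_sum_range]

def n2 (L : List (List ℤ)) (i j : ℕ) : ℤ := (L.getD i []).getD j 0

namespace Tab
variable (T : Tab)

noncomputable def pv (a : List (List ℤ)) (r i : ℕ) : ℤ := sumLt T.l fun j => T.wtv r j * n2 a j i

noncomputable def chkCyc (w p : List ℕ) (b a : List (List ℤ)) (χ : List ℤ) : Bool :=
  band (decide (0 < T.l ∧ χ.getD 0 0 * χ.getD 0 0 = 1)) <|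
  band (allLt T.l fun i => band (decide (|χ.getD i 0| ≤ 1 ∧ n2 b T.l i = sumLt T.l fun x => -χ.getD x 0 * n2 b x i)) <|
    allLt T.l fun x => decide (n2 b (i + 1) x = (sumLt T.l fun j => n2 b i j * T.cov (T.appl w (T.simple x)) (nth p j)) ∧
      (if x = i then 1 else 0) = (sumLt T.l fun j => n2 a i j * n2 b j x) ∧
      (sumLt T.l fun j => n2 b i j * n2 a j x) = if i = x then 1 else 0))
  (allLt T.n fun r => allLt T.l fun i => decide (|T.pv a r i| ≤ 2))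

noncomputable def chkSm (a : List (List ℤ)) (q n : ℕ) (U : List (ℕ × ℕ)) : Bool :=
  band (allL U fun u => Nat.blt u.1 T.n) <|
  band (allLt T.n fun s => forceB ((sumLt T.l fun i => T.pv a s i * q ^ i) % n).toNat fun x => band (bnot (Nat.beq x 0))
    (allL U fun u => decide (if s = u.1 then x = u.2 else T.len s ≠ T.len u.1 ∨ x ≠ u.2)))
  (allLt T.l fun i => allLt T.n fun s => bor (Nat.beq s (T.simple i))
    (bnot (allL U fun u => ibeq (T.A u.1 s) (T.A u.1 (T.simple i)))))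

namespace Chk
variable {D : ChevalleyDatum} {T : Tab} (h : T.Chk D) {k : Type*} [Field k] [IsAlgClosed k]

theorem selfcent {G Γ : Type*} [Group G] [Group Γ] {S : St h.cd k G} (M : Mdl S Γ) {q : ℕ} (hq : (q : k) = 0)
    (hψ : ∀ i t, M.d.ψ i t = t ^ q) (w : List (Fin D.rank)) {p : List ℕ} (hp : ∀ i, (M.d.π i : ℕ) = nth p i)
    {b a : List (List ℤ)} {χ : List ℤ} (H : T.chkCyc (w.map Fin.val) p b a χ = true) {n : ℕ}
    (hn : (n : ℤ) = q ^ T.l + ∑ i ∈ range T.l, χ.getD i 0 * q ^ i) (hs : 6 ≤ q ∨ ∃ U, T.chkSm a q n U = true) :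
    ∃ A : Subgroup Γ, IsCyclic A ∧ Nat.card A * Nat.card M.φ.ker = n ∧ Subgroup.centralizer (A : Set Γ) = A := by
  simp only [chkCyc, band_iff, allLt_iff, decide_eq_true_eq] at H
  obtain ⟨⟨hl, h0⟩, H1, H2⟩ := H
  have hk : (n : k) ≠ 0 := fun e => by
    obtain ⟨l, hl⟩ := Nat.exists_eq_add_one.2 hl
    have := congrArg (Int.cast : ℤ → k) hn
    rw [hl, sum_range_succ'] at this
    simp only [Int.cast_natCast, e, Int.cast_add, Int.cast_pow, Int.cast_sum, Int.cast_mul, hq, pow_succ, mul_zero,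
      sum_const_zero, pow_zero, mul_one, zero_add] at this
    have h1 := congrArg (Int.cast : ℤ → k) h0
    rw [Int.cast_mul, ← this, zero_mul, Int.cast_one] at h1
    exact zero_ne_one h1
  have : NeZero (n : k) := ⟨hk⟩
  have : NeZero n := ⟨fun e => hk (by simp [e])⟩
  obtain ⟨ζ, hζ⟩ : ∃ ζ : kˣ, IsPrimitiveRoot ζ n :=
    let ⟨_, hζ⟩ := HasEnoughRootsOfUnity.exists_primitiveRoot k n; ⟨_, hζ.isUnit_unit (NeZero.ne n)⟩
  obtain ⟨c0, e1, e2, e3⟩ := cyc_torus (T := M.T (h.cd.wd w))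
    (M := fun j i => h.cd.co (h.cd.wd w (h.cd.sim i)) (M.d.π j)) (q := q) (fun c => by
      refine funext_iff.trans (M.d.π.surjective.forall.trans (forall_congr' fun i => ?_))
      simp [TD.act, hψ, RS.mx]) (l := T.l) (b := fun i j => n2 b i j) (a := fun j i => n2 a j i)
    (χ := fun i => χ.getD i 0) (fun i hi => funext fun x => by
      rw [((H1 i hi).2 x (h.lt_l x)).1, h.sumLt_eq', Finset.sum_apply]
      refine sum_congr rfl fun j _ => ?_
      rw [← hp, ← h.val_sim, ← h.val_wd]; rfl)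
    (fun j => funext fun x => by
      rw [Finset.sum_apply, Pi.single_apply]
      simpa only [sumLt_range, Fin.ext_iff, Pi.smul_apply, smul_eq_mul] using ((H1 j (h.lt_l j)).2 x (h.lt_l x)).2.1)
    (fun i hi x hx => by rw [← ((H1 i hi).2 x hx).2.2, h.sumLt_eq'])
    (funext fun x => by rw [Finset.sum_apply, (H1 x (h.lt_l x)).1.2, sumLt_range]; rfl) hn hl hζ
  have e4 : ∀ r, RS.chi (h.cd.theta k c0) (h.cd.rt r) = ζ ^ ∑ i ∈ range T.l, T.pv a r i * q ^ i := fun r => by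
    rw [RS.chi_theta]
    refine (e3 _).trans (congrArg _ (sum_congr rfl fun i _ => ?_))
    rw [pv, h.sumLt_eq']
    exact congrArg (· * _) (sum_congr rfl fun j _ => congrArg (· * _) (h.A_sim j r))
  have e5 : ∀ (v : Fin D.rank → ℤ), (∀ i < T.l, ∑ j, v j * n2 a j i = 0) → v = 0 := fun v hv => funext fun x => by
    have : ∀ j : Fin D.rank, (if x = j then v j else 0) = ∑ i ∈ range T.l, v j * n2 a j i * n2 b i x := fun j => by
      simp only [mul_assoc, ← mul_sum, ← sumLt_range, ← ((H1 j (h.lt_l j)).2 x (h.lt_l x)).2.1, Fin.ext_iff]; simp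
    have e := sum_congr rfl fun j (_ : j ∈ univ) => this j
    rw [sum_comm, sum_ite_eq, if_pos (mem_univ _), sum_eq_zero fun i hi => by
      rw [← sum_mul, hv i (mem_range.1 hi), zero_mul]] at e
    exact e
  have e6 : ∀ (r : Fin D.nroots) i, T.pv a r i = ∑ j, h.cd.A (h.cd.sim j) r * n2 a j i := fun r i => by
    rw [pv, h.sumLt_eq']; exact sum_congr rfl fun j _ => congrArg (· * _) (h.A_sim j r).symm
  have e7 : ∀ r s t : Fin D.nroots, h.cd.A r s = ∑ j, h.cd.co r j * h.cd.A (h.cd.sim j) s := fun r s t => by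
    simp only [RS.A, RS.Av_sim, RS.Av_apply]
  have hc0 : c0 ∈ M.T (h.cd.wd w) := e1 ▸ Subgroup.mem_zpowers c0
  obtain ⟨μ, -, m1, m2⟩ := M.torus (h.cd.wd_mem_W w)
  refine ⟨μ.range, ?_, by rw [m1, e1, Nat.card_zpowers, e2], m2 (fun r => ⟨c0, hc0, fun e => ?_⟩) fun v hv H => ?_⟩
  · have : IsCyclic (M.T (h.cd.wd w)) := e1 ▸ inferInstance
    exact isCyclic_of_surjective _ μ.rangeRestrict_surjective
  · rw [e4, hζ.zpow_eq_one_iff_dvd] at e
    rcases hs with hs | ⟨U, hs⟩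
    · have := e5 _ fun i hi => (e6 r i).symm.trans (digits_eq_zero hs (fun i hi => (H2 r (h.lt_n r) i hi).trans (by norm_num))
        (fun i hi => (H1 i hi).1.1) (hn ▸ e) i hi)
      have h2 := h.cd.A_self r
      simp [e7 r r r, fun j => congrFun this j] at h2
    · simp only [chkSm, band_iff, allLt_iff, forceB_eq, bnot_iff, Nat.beq_eq] at hs
      exact (hs.2.1 r (h.lt_n r)).1 (by rw [sumLt_range, Int.emod_eq_zero_of_dvd e]; rfl)
  · replace H := fun r => mul_inv_eq_one.2 (H c0 hc0 r)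
    simp only [e4, ← zpow_sub, hζ.zpow_eq_one_iff_dvd] at H
    have ha := h.cd.W_le_Aut hv
    rcases hs with hs | ⟨U, hs⟩
    · refine Equiv.ext fun r => by_contra fun h1 => ?_
      have := e5 (fun j => h.cd.A (h.cd.sim j) (v r) - h.cd.A (h.cd.sim j) r) fun i hi => by
        simp only [sub_mul, sum_sub_distrib, ← e6]
        refine digits_eq_zero (d := fun i => T.pv a (v r) i - T.pv a r i) hs (fun i hi => ?_) (fun i hi => (H1 i hi).1.1)
          (by simpa only [sub_mul, sum_sub_distrib, ← hn] using H r) i hi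
        have := abs_le.1 (H2 r (h.lt_n r) i hi); have := abs_le.1 (H2 _ (h.lt_n (v r)) i hi)
        rw [abs_le]; omega
      have h2 : ∀ s, h.cd.A s (v r) = h.cd.A s r := fun s => by
        rw [e7 _ _ r, e7 s r r]; exact sum_congr rfl fun j _ => congrArg _ (sub_eq_zero.1 (congrFun this j))
      by_cases h3 : v r = h.cd.neg r
      · have := h2 r
        rw [h3, RS.A_neg_right, RS.A_self] at this; omega
      · have := h.cd.A_bound r (v r) h1 h3
        rw [h2, ← h2 (v r), RS.A_self, RS.A_self] at this; omega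
    · simp only [chkSm, band_iff, allLt_iff, forceB_eq, bnot_iff, Nat.beq_eq, allL_iff, Nat.blt_eq, decide_eq_true_eq,
        bor_iff, ibeq_iff] at hs
      refine RS.Aut.eq_one_of_fix ha fun i => Fin.ext ((hs.2.2 i (h.lt_l i) _ (h.lt_n _)).resolve_right
        (not_not.2 fun u hu => ?_) |>.trans (h.val_sim i).symm)
      have h1 := h.val_fin (hs.1 u hu)
      have h2 : v (h.fin u.1) = h.fin u.1 := Fin.ext <| by
        have h3 := (hs.2.1 _ (h.lt_n (v (h.fin u.1)))).2 u hu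
        have h4 := (hs.2.1 _ (hs.1 u hu)).2 u hu
        have h5 := H (h.fin u.1)
        have h6 : (T.len (v (h.fin u.1)) : ℤ) = T.len (h.fin u.1) := RS.Aut.len ha _
        rw [if_pos rfl, sumLt_range] at h4
        rw [h1] at h5 h6 ⊢
        rw [sumLt_range, Int.emod_eq_emod_iff_emod_sub_eq_zero.2 (Int.emod_eq_zero_of_dvd h5), h4, Int.natCast_inj.1 h6] at h3
        by_contra h7
        simp [h7] at h3
      rw [← h1, ← h.val_sim, ← h.A_eq, ← h.A_eq]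
      exact (congrArg (h.cd.A · _) h2.symm).trans (RS.Aut.A ha _ _)

theorem selfcent_frob {K : Type*} [Field K] [Fintype K] (hs : (h.stb (AlgebraicClosure K)).SC) (hs0 : (h.stb K).SC)
    {q : ℕ} (hq : Fintype.card K = q) (w : List (Fin D.rank))
    {b a : List (List ℤ)} {χ : List ℤ} (H : T.chkCyc (w.map Fin.val) (List.range T.l) b a χ = true)
    (hp : ∀ i : Fin D.rank, (i : ℕ) = nth (List.range T.l) i) {n : ℕ}
    (hn : (n : ℤ) = q ^ T.l + ∑ i ∈ range T.l, χ.getD i 0 * q ^ i) (H' : 6 ≤ q ∨ ∃ U, T.chkSm a q n U = true) :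
    ∃ A : Subgroup (D.group K), IsCyclic A ∧ Nat.card A * Nat.card (h.rsys.theta K).ker = n ∧
      Subgroup.centralizer (A : Set (D.group K)) = A := by
  obtain ⟨f, hf, M, h1, h2, h3, -⟩ := h.exists_mdl_frob (algebraMap K (AlgebraicClosure K)) hs hs0
  rw [← h3]
  refine h.selfcent M ?_ (fun i t => Units.ext ?_) w (fun i => by rw [h2]; exact hp i) H hn H'
  · rw [← map_natCast (algebraMap K (AlgebraicClosure K)), ← hq, FiniteField.cast_card_eq_zero, map_zero]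
  · simp [h2, TD.coe_ψ, TD.frob, Mor.id, h1, hq]

omit [IsAlgClosed k] in
theorem td_τ' {m : MorTab} (hm : m.Chk T T) (f : k →+* k) (hp : (m.p : k) = 0) (π : Equiv.Perm (Fin D.rank))
    (H : ∀ i : Fin D.rank, m.ph (T.simple i) = T.simple (π i)) (hf : ∀ r, Function.Surjective fun t => f t ^ m.ex r)
    (r : Fin D.nroots) (t : k) : (h.td hm f hp π H hf).τ r t = (m.ep r : k) * f t ^ m.ex r := by
  simp only [TD.τ, td, mor_ε, mor_e]

theorem exists_mdl_tw {K : Type*} [Field K] [Fintype K] (j : K →+* k) (hs : (h.stb k).SC) (hs0 : (h.stb K).SC)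
    (d : TD h.cd k) (d0 : TD h.cd K) (hρ : ∀ r, d0.ρ r = d.ρ r) (hτ : ∀ r t, j (d0.τ r t) = d.τ r (j t)) {m : ℕ}
    (f : k →+* k) (hf : ∀ t, f t = t ^ Fintype.card K) (hP : ∀ r, ∃ P : Polynomial k, ∀ t, d.τ r t = P.eval t)
    (hit : ∀ r t, (fun p : Fin D.nroots × k => (d.ρ p.1, d.τ p.1 p.2))^[m + 1] (r, t) = (r, f t)) {κ : Type}
    (O : (d0.twAd (h.grp K) (h.grp_Gr K) (h.grp_adj K)).sym.Orb κ) (sub : Tw.Sub _ O (Tw.G1 _ O))
    (hT : ∀ c ∈ d0.T, (h.grp K).hh (h.grp_r3 K) c ∈ Tw.G1 _ O) {A : Subgroup (GL D.Idx K)}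
    (hA : A = (Tw.G1 _ O).map (D.group K).subtype) : ∃ M : Mdl (h.stb k) A, M.d = d ∧
      Nat.card M.φ.ker = Nat.card ↥(d0.T ⊓ (h.cd.theta K).ker) ∧
      ∃ θ : D.SteinbergGroup K →* D.SteinbergGroup k, (∀ r t, θ ((h.stb K).x r t) = (h.stb k).x r (j t)) ∧
        ∀ g, ∃ y, θ y = g.1 ∧ (h.liftS (h.grp K).toSt0 (h.grp_r3 K) y : GL D.Idx K) = M.φ g := by
  subst hA
  have hπ := h.liftS_x (h.grp K).toSt0 (h.grp_r3 K)
  obtain ⟨σ0, hσ⟩ := hs0.exists_hom_top (h.stb_Gr K) (d0.tw (h.stb K).toSt0) (R3.twist _ _ _ hs0.1)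
  obtain ⟨h3, hi⟩ := id hs0
  obtain ⟨h1, h2⟩ := d0.map_Fx (h.grp_Gr K) (h.grp_adj K) (h.stb_Gr K) h3 hi (h.grp_r3 K) σ0 hσ _ hπ O sub hT
  let e := (Tw.G1 _ O).equivMapOfInjective _ (D.group K).subtype_injective
  obtain ⟨M, m1, m2, θ, m3, m4⟩ := h.exists_mdl j hs hs0 d Fintype.one_lt_card f hf
    (fun t e => mem_range_of_pow_card j (hf t ▸ e)) hP hit σ0 (fun r t => ⟨_, hρ r ▸ hσ r t, hτ r t⟩)
    ((Tw.G1 _ O).subtype.comp e.symm.toMonoidHom) ((Tw.G1 _ O).subtype_injective.comp e.symm.injective) (by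
      rw [MonoidHom.range_comp, MonoidHom.range_eq_top.2 e.symm.surjective, ← MonoidHom.range_eq_map,
        Subgroup.range_subtype, h1])
  refine ⟨M, m1, by rw [m2, h2, Subgroup.card_map_of_injective hi], θ, m3, fun g => (m4 g).imp fun y hy => ⟨hy.1, ?_⟩⟩
  rw [hy.2]
  exact congrArg Subtype.val (e.apply_symm_apply (M.φ g))

end Chk
end Tab

theorem D4.exists_mdl {K k : Type*} [Field K] [Fintype K] [Field k] [IsAlgClosed k] (j : K →+* k) {q : ℕ}
    (hq : IsPrimePow q) (hK : Fintype.card K = q ^ 3) : ∃ M : Mdl (tabD4_chk.stb k) (twistedD4 K q),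
      M.d.π = D4.π ∧ (∀ i t, M.d.ψ i t = t ^ q) ∧ (∀ r t, M.d.τ r t = (morD4a.ep r : k) * t ^ q) ∧
      (∀ r, M.d.ρ r = tabD4_chk.fin (morD4a.ph r)) ∧ Nat.card M.φ.ker = 1 := by
  obtain ⟨f0, hf0, hq0⟩ := D4.exists_f hq hK
  obtain ⟨f, h1, hf⟩ := exists_frob_alg j three_ne_zero hK.symm.dvd
  obtain ⟨d, hd, hρ, hτ⟩ : ∃ d, d = tabD4_chk.td morD4a_chk f Nat.cast_zero D4.π D4.hπ (fun r => by
      simpa only [D4.ex1, pow_one] using hf) ∧ (∀ r, d.ρ r = tabD4_chk.fin (morD4a.ph r)) ∧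
      ∀ r t, d.τ r t = (morD4a.ep r : k) * t ^ q := by
    refine ⟨_, rfl, fun _ => rfl, fun r t => ?_⟩
    exact (tabD4_chk.td_τ' _ _ _ _ _ _ r t).trans (by rw [D4.ex1, pow_one, h1])
  obtain ⟨M, rfl, m2, -⟩ := tabD4_chk.exists_mdl_tw j (scD4 k) (scD4 K) d (D4.td f0 hf0) (fun r => (hρ r).symm)
    (fun r t => (congrArg j (tabD4_chk.td_τ' _ _ _ _ _ _ r t)).trans (by simp [hτ, D4.ex1, hq0]))
    (m := 2) (f.comp (f.comp f)) (fun t => by simp only [RingHom.comp_apply, h1, hK, ← pow_mul]; ring_nf)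
    (fun r => ⟨Polynomial.C (morD4a.ep r : k) * Polynomial.X ^ q, fun t => by simp [hτ]⟩) (fun r t => by
      have H := (by decide +kernel : ∀ r : Fin chevD4.nroots, morD4a.ph r < tabD4.n ∧ morD4a.ph (morD4a.ph r) < tabD4.n ∧
        morD4a.ph (morD4a.ph (morD4a.ph r)) = r ∧
        morD4a.ep (morD4a.ph (morD4a.ph r)) * morD4a.ep (morD4a.ph r) * morD4a.ep r = 1) r
      simp only [Function.iterate_succ_apply', Function.iterate_zero_apply, hτ, hρ,
        tabD4_chk.val_fin H.1, tabD4_chk.val_fin H.2.1, H.2.2.1, tabD4_chk.fin_val, ← h1, map_mul, map_intCast,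
        RingHom.comp_apply, ← mul_assoc, ← Int.cast_mul, H.2.2.2, Int.cast_one, one_mul])
    (D4.O f0 hf0) (D4.sub f0 hf0) (D4.hT_mem f0 hf0) (D4.gen_eq f0 hf0 hq0)
  refine ⟨M, by rw [hd]; rfl, fun i t => Units.ext ?_, hτ, hρ, by rw [m2, D4.Tker, Subgroup.card_bot]⟩
  rw [hd]
  exact (tabD4_chk.td_ψ _ _ _ _ _ _ i (D4.ex1 _) t).trans (by rw [pow_one, h1, Units.val_pow_eq_pow_val])

end H24
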