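import Cfsg.Agent.H24.Ree1
import Cfsg.Agent.H24.TwG2
import Cfsg.Agent.H24.Misc
import Cfsg.Agent.H24.Tor2

/-! The small Ree groups satisfy the axioms `Ree`. -/

set_option linter.unusedSectionVars false
set_option maxHeartbeats 400000

namespace H24
open Finset St0 Cfsg.Lie H4
open scoped MatrixGroups

section
variable {ι Φ : Type} [Fintype ι] [DecidableEq ι] [Fintype Φ] [DecidableEq Φ] {R : CD ι Φ} {F : Type*}
    [Field F] {G : Type*} [Group G]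

theorem St0.mulG2 (S : St0 R F G) {a b c d e k : Φ}
    (h1 : ∀ t u, S.x b u * S.x a t = S.x a t * S.x b u *
      (S.x c (t * u) * (S.x d (t ^ 2 * u) * (S.x e (-(t ^ 3 * u)) * S.x k (-(t ^ 3 * u ^ 2))))))
    (h2 : ∀ t u, S.x c u * S.x a t = S.x a t * S.x c u * S.x d (2 * t * u))
    (h3 : ∀ t u, S.x e u * S.x b t = S.x b t * S.x e u * S.x k (-(t * u)))
    (ha : ∀ r ∈ [d, e, k], ∀ t u, Commute (S.x r t) (S.x a u)) (hb : ∀ r ∈ [c, d, k], ∀ t u, Commute (S.x r t) (S.x b u))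
    (hcm : ∀ r ∈ [c, d, e, k], ∀ s ∈ [c, d, e, k], ∀ t u, Commute (S.x r t) (S.x s u))
    (α β γ δ ε ζ α' β' γ' δ' ε' ζ' : F) :
    S.pl [a, b, c, d, e, k] [α, β, γ, δ, ε, ζ] * S.pl [a, b, c, d, e, k] [α', β', γ', δ', ε', ζ'] =
      S.pl [a, b, c, d, e, k] [α + α', β + β', α' * β + γ + γ', α' ^ 2 * β + (2 * α' * γ + δ) + δ',
        -(α' ^ 3 * β) + ε + ε', -(β' * (-(α' ^ 3 * β) + ε)) + (-(α' ^ 3 * β ^ 2) + ζ) + ζ'] := by
  let Y := fun γ δ ε ζ => S.x c γ * (S.x d δ * (S.x e ε * S.x k ζ))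
  have e0 : ∀ α β γ δ ε ζ, S.pl [a, b, c, d, e, k] [α, β, γ, δ, ε, ζ] = S.x a α * S.x b β * Y γ δ ε ζ := by
    simp [pl, Y, mul_assoc]
  have e1 : ∀ γ δ ε ζ γ' δ' ε' ζ', Y γ δ ε ζ * Y γ' δ' ε' ζ' = Y (γ + γ') (δ + δ') (ε + ε') (ζ + ζ') := by
    intros
    simp only [Y, S.x_add, mul_assoc]
    rw [(hcm k (by simp) c (by simp) _ _).left_comm, (hcm e (by simp) c (by simp) _ _).left_comm,
      (hcm d (by simp) c (by simp) _ _).left_comm, (hcm k (by simp) d (by simp) _ _).left_comm,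
      (hcm e (by simp) d (by simp) _ _).left_comm, (hcm k (by simp) e (by simp) _ _).left_comm]
  have e2 : ∀ γ δ ε ζ t, Y γ δ ε ζ * S.x a t = S.x a t * Y γ (2 * t * γ + δ) ε ζ := by
    intros
    simp only [Y, S.x_add, mul_assoc]
    rw [(ha k (by simp) _ _).eq, (ha e (by simp) _ _).left_comm, (ha d (by simp) _ _).left_comm, ← mul_assoc, h2]
    simp only [mul_assoc]
  have e3 : ∀ γ δ ε ζ t, Y γ δ ε ζ * S.x b t = S.x b t * Y γ δ ε (-(t * ε) + ζ) := by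
    intros
    simp only [Y, S.x_add, mul_assoc]
    rw [(hb k (by simp) _ _).eq, ← mul_assoc (S.x e _), h3, mul_assoc, mul_assoc, (hb d (by simp) _ _).left_comm,
      (hb c (by simp) _ _).left_comm]
  rw [e0, e0, e0]
  calc _ = S.x a α * (S.x b β * (Y γ δ ε ζ * S.x a α')) * S.x b β' * Y γ' δ' ε' ζ' := by simp only [mul_assoc]
    _ = S.x a α * S.x a α' * S.x b β * ((Y (α' * β) (α' ^ 2 * β) (-(α' ^ 3 * β)) (-(α' ^ 3 * β ^ 2)) *
        Y γ (2 * α' * γ + δ) ε ζ * S.x b β') * Y γ' δ' ε' ζ') := by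
      rw [e2, ← mul_assoc (S.x b β), h1]; simp only [mul_assoc, Y]
    _ = _ := by rw [e1, e3, mul_assoc (S.x b β'), e1, S.x_add, S.x_add]; simp only [mul_assoc]

theorem St.sl2_w {S : St R F G} {r : Φ} {φ : SL(2, F) →* G} (h1 : ∀ t, φ (upT t) = S.x r t)
    (h2 : ∀ t, φ (loT t) = S.x (R.neg r) t) : φ wS = S.n r 1 ∧ ∀ l : Fˣ, φ (dS l) = S.h r l := by
  have e : φ wS = S.n r 1 := by simp [wS_eq, h1, h2, St0.n]
  refine ⟨e, fun l => ?_⟩
  rw [S.h_eq, ← e, eq_mul_inv_iff_mul_eq, ← map_mul, dS_eq]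
  simp [h1, h2, St0.n]

theorem exists_pre {Γ X : Type*} [Group Γ] [Group X] {j : Γ →* G} (hj : Function.Injective j) (φ : X →* G)
    (h : ∀ x, φ x ∈ j.range) : ∃ φ' : X →* Γ, ∀ x, j (φ' x) = φ x :=
  ⟨(MonoidHom.ofInjective hj).symm.toMonoidHom.comp (φ.codRestrict _ h), fun x =>
    congrArg Subtype.val ((MonoidHom.ofInjective hj).apply_symm_apply ⟨φ x, h x⟩)⟩

end

namespace G2
variable {K : Type*} [Field K] (h3 : (3 : K) = 0) (f : K →+* K) (hf : ∀ t, f (f t) ^ 3 = t)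

local notation "hT" => tabG2_chk
local notation "SS" => Tab.Chk.grp tabG2_chk K
local notation "xx" r => St0.x (St.toSt0 (Tab.Chk.grp tabG2_chk K)) (Tab.Chk.fin tabG2_chk r)
local notation "MM" => Tw.G1 (z h3 f hf) (O h3 f hf)

include h3 in
theorem cube (x y : K) : (x + y) ^ 3 = x ^ 3 + y ^ 3 := by linear_combination (x ^ 2 * y + x * y ^ 2) * h3

/-- the endomorphism `t ↦ t^{3θ}` -/
def sh : K →+* K where
  toFun t := f t ^ 3
  map_one' := by simp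
  map_mul' := by simp [mul_pow]
  map_zero' := by simp
  map_add' := by simp [cube h3]

include h3 in
theorem comm3 {r s : ℕ} (H : r < tabG2.n ∧ s < tabG2.n ∧ s ≠ tabG2.neg r ∧
    ∀ c ∈ gTerms tabG2.chain r s, c.2.1 % (3 : ℕ) = 0) (t u : K) : Commute ((xx r) t) ((xx s) u) := by
  refine St0.commute_of_terms _ (p := 3) (by exact_mod_cast h3) (Or.inr ⟨(hT).fin_ne_neg H.1 H.2.1 H.2.2.1, ?_⟩) t u
  rw [(hT).terms_eq H.1 H.2.1]
  simpa only [List.forall_mem_map] using H.2.2.2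

include h3 hf in
theorem par_mul (t u v t' u' v' : K) : par f (SS).toSt0 (t, u, v) * par f (SS).toSt0 (t', u', v') =
    par f (SS).toSt0 (t + t', u + u' - t * f t' ^ 3, v + v' - t ^ 2 * f t' ^ 3 - t' * u + t * t' * f t' ^ 3) := by
  refine ((SS).toSt0.mulG2 (fun t u => ?_) (fun t u => ?_) (fun t u => ?_) ?_ ?_ ?_ ..).trans ?_
  · rw [(hT).comm_eq _ (a := 7) (b := 6) (L := [(8, -1, 1, 1), (9, 1, 2, 1), (10, 1, 3, 1), (11, 1, 3, 2)])
      (by decide +kernel)]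
    simp [Odd.neg_pow (by decide : Odd 3)]
  · rw [(hT).comm_eq _ (a := 7) (b := 8) (L := [(9, -2, 1, 1), (10, -3, 2, 1), (11, 3, 1, 2)]) (by decide +kernel)]
    simp [h3]
  · rw [(hT).comm_eq _ (a := 6) (b := 10) (L := [(11, 1, 1, 1)]) (by decide +kernel)]
    simp
  · change ∀ r ∈ [9, 10, 11].map (hT).fin, _
    simp only [List.forall_mem_map]
    exact fun r hr => comm3 h3 (by revert r; decide +kernel)
  · change ∀ r ∈ [8, 9, 11].map (hT).fin, _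
    simp only [List.forall_mem_map]
    exact fun r hr => comm3 h3 (by revert r; decide +kernel)
  · change ∀ r ∈ [8, 9, 10, 11].map (hT).fin, ∀ s ∈ [8, 9, 10, 11].map (hT).fin, _
    simp only [List.forall_mem_map]
    exact fun r hr s hs => comm3 h3 (by revert r s; decide +kernel)
  · refine congrArg _ ?_
    simp only [map_add, map_sub, map_mul, map_pow, hf, List.cons.injEq, and_true, true_and]
    refine ⟨by ring, ?_, by ring, by ring⟩
    linear_combination (f t' * f u - f t * f t' * t') * h3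

theorem conj_x (c : Fin 2 → Kˣ) {r : ℕ} {i j : ℤ} (H : r < tabG2.n ∧ tabG2.A 7 r = i ∧ tabG2.A 6 r = j) (t : K) :
    (SS).hh ((hT).grp_r3 K) c * (xx r) t * ((SS).hh ((hT).grp_r3 K) c)⁻¹ = (xx r) ((c 0 : K) ^ i * ((c 1 : K) ^ j * t)) := by
  rw [hh_eq, ← H.2.1, ← H.2.2, ← (hT).A_fin (by decide) H.1, ← (hT).A_fin (by decide) H.1,
    ← (SS).h_conj _ _ (c 0).ne_zero, ← (SS).h_conj _ _ (c 1).ne_zero]
  group

/-- the parameters of the torus -/
def hc : Kˣ →* (Fin chevG2.rank → Kˣ) where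
  toFun l i := if (i : ℕ) = 0 then Units.map f.toMonoidHom l else l
  map_one' := by funext i; simp
  map_mul' _ _ := by funext i; by_cases h : (i : ℕ) = 0 <;> simp [h]

/-- the torus -/
noncomputable def hm : Kˣ →* chevG2.group K := ((SS).hh ((hT).grp_r3 K)).comp (hc f)

theorem hm_eq (l : Kˣ) : hm f l = (SS).hh ((hT).grp_r3 K) (hc f l) := rfl

theorem hm_x (l : Kˣ) {r : ℕ} {i j : ℤ} (H : r < tabG2.n ∧ tabG2.A 7 r = i ∧ tabG2.A 6 r = j) (t : K) :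
    hm f l * (xx r) t * (hm f l)⁻¹ = (xx r) (f l ^ i * ((l : K) ^ j * t)) := conj_x (hc f l) H t

include hf in
theorem hm_par (l : Kˣ) (t u v : K) : hm f l * par f (SS).toSt0 (t, u, v) * (hm f l)⁻¹ =
    par f (SS).toSt0 (l ^ 2 / f l ^ 3 * t, f l ^ 3 / l * u, l * v) := by
  have hl := l.ne_zero
  have hl' : f l ≠ 0 := (map_ne_zero f).2 hl
  simp only [par, pl, List.map_cons, List.map_nil, List.zipWith_cons_cons, List.zipWith_nil_left, List.prod_cons,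
    List.prod_nil, mul_one, ← MulAut.conj_apply, map_mul (MulAut.conj _)]
  simp only [MulAut.conj_apply]
  rw [hm_x f l (r := 7) (i := 2) (j := -1) (by decide +kernel), hm_x f l (r := 6) (i := -3) (j := 2) (by decide +kernel),
    hm_x f l (r := 8) (i := -1) (j := 1) (by decide +kernel), hm_x f l (r := 9) (i := 1) (j := 0) (by decide +kernel),
    hm_x f l (r := 10) (i := 3) (j := -1) (by decide +kernel), hm_x f l (r := 11) (i := 0) (j := 1) (by decide +kernel)]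
  simp only [map_mul, map_div₀, map_pow, hf, zpow_neg, zpow_ofNat]
  refine congrArg₂ _ (congrArg _ ?_) (congrArg₂ _ (congrArg _ ?_) (congrArg₂ _ (congrArg _ ?_) (congrArg₂ _ (congrArg _ ?_)
    (congrArg₂ _ (congrArg _ ?_) (congrArg _ ?_))))) <;> field_simp

theorem mem_H (hs : ∀ s : K, ∃ d, d ^ 2 = s ∨ -d ^ 2 = s) {g : chevG2.group K} :
    g ∈ (SS).H ⊓ MM ↔ ∃ l, g = hm f l := by
  refine (Subgroup.ext_iff.1 ((td h3 f hf).card_H ((hT).grp_Gr K) ((hT).grp_adj K) ((hT).stb_Gr K) (scG2 K)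
    ((hT).grp_r3 K) (O h3 f hf) (hT_mem h3 f hf hs)).1 g).trans ⟨?_, ?_⟩
  · rintro ⟨c, hc, rfl⟩
    refine ⟨c (1 : Fin 2), ((hm_eq f _).trans (congrArg _ (funext fun i => Units.ext ?_))).symm⟩
    fin_cases i
    exacts [((mem_T h3 f hf).1 hc).symm, rfl]
  · rintro ⟨l, rfl⟩
    exact ⟨hc f l, (mem_T h3 f hf).2 rfl, rfl⟩

theorem mem_U' {g : chevG2.group K} : g ∈ (SS).U ⊓ MM ↔ ∃ t u v, g = par f (SS).toSt0 (t, u, v) := by
  rw [(sub h3 f hf).U_inf, ← UK_univ, ← J_eq h3 f hf 0, (U0 h3 f hf).1]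
  exact ⟨fun ⟨p, h⟩ => ⟨_, _, _, h⟩, fun ⟨_, _, _, h⟩ => ⟨_, h⟩⟩

theorem w_w : (hT).cd.w ((hT).fin 8) * (hT).cd.w ((hT).fin 10) = (hT).cd.wL Set.univ := by
  ext r : 1
  refine (hT).cd.rt_inj ?_
  rw [w0, RS.rt_neg, Equiv.Perm.mul_apply, RS.rt_w, RS.A_w, RS.rt_w, ← (hT).fin_val r, (hT).A_fin (by decide) r.2,
    (hT).A_fin (by decide) r.2, (hT).A_fin (by decide) (by decide), (hT).fin_val r]
  funext i
  revert r i
  change ∀ (r : Fin chevG2.nroots) (i : Fin chevG2.rank), tabG2.rtv r i - tabG2.A 10 r * tabG2.rtv 10 i -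
    (tabG2.A 8 r - tabG2.A 10 r * tabG2.A 8 10) * tabG2.rtv 8 i = -tabG2.rtv r i
  decide +kernel

include h3 hf in
theorem exists_psi : ∃ ψ : SL(2, K) →* chevG2.group K, (∀ u, ψ (upT u) = par f (SS).toSt0 (0, u, 0)) ∧
    (∀ l l' : Kˣ, (l' : K) = l * f l ^ 3 → ψ (dS l) = hm f l') ∧ (∀ g, ψ g ∈ MM) ∧
    ψ wS = (SS).n ((hT).fin 8) 1 * (SS).n ((hT).fin 10) 1 := by
  obtain ⟨φ, a1, a2, a3⟩ := (SS).exists_sl2 ((hT).grp_r3 K) ((hT).fin 8)
  obtain ⟨φ', b1, b2, b3⟩ := (SS).exists_sl2 ((hT).grp_r3 K) ((hT).fin 10)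
  have n8 : (hT).cd.neg ((hT).fin 8) = (hT).fin 3 := (hT).neg_fin (by decide)
  have n10 : (hT).cd.neg ((hT).fin 10) = (hT).fin 1 := (hT).neg_fin (by decide)
  have hc : ∀ g g', Commute (φ g) (φ' g') := fun g g' => by
    refine Tw.commute_XS (S := SS) (T := {(hT).fin 8, (hT).fin 3}) (T' := {(hT).fin 10, (hT).fin 1}) ?_ _ ?_ _ ?_
    · rintro _ (rfl | rfl) _ (rfl | rfl) <;> exact comm3 h3 (by decide +kernel)
    · exact (a1.le.trans (sup_le ((SS).XS_mono (by simp)) ((SS).XS_mono (by simp [n8])))) ⟨g, rfl⟩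
    · exact (b1.le.trans (sup_le ((SS).XS_mono (by simp)) ((SS).XS_mono (by simp [n10])))) ⟨g', rfl⟩
  let ψ : SL(2, K) →* chevG2.group K := ((φ.comp (Matrix.SpecialLinearGroup.map f)).noncommCoprod φ'
    fun g g' => hc _ g').comp ((MonoidHom.id _).prod (MonoidHom.id _))
  have e : ∀ g, ψ g = φ (Matrix.SpecialLinearGroup.map f g) * φ' g := fun _ => rfl
  have e1 : ∀ u, ψ (upT u) = par f (SS).toSt0 (0, u, 0) := fun u => by simp [e, map_upT, a2, b2, par, pl]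
  have e2 : ∀ u, ψ (loT u) = par f (S' K) (0, -u, 0) := fun u => by
    simp [e, map_loT, a3, b3, par, pl, S'_x]
  refine ⟨ψ, e1, fun l l' hl => ?_, fun g => ?_, ?_⟩
  · have : Matrix.SpecialLinearGroup.map f (dS l) = dS (Units.map f.toMonoidHom l) := by
      apply sl2_ext <;> simp [coe_dS]
    rw [e, this, (St.sl2_w a2 a3).2, (St.sl2_w b2 b3).2, (SS).h_eq_hh ((hT).grp_r3 K), (SS).h_eq_hh ((hT).grp_r3 K),
      ← map_mul, hm_eq]
    refine congrArg _ (funext fun i => Units.ext ?_)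
    fin_cases i
    · change (((Units.map f.toMonoidHom l) ^ (1 : ℤ) * l ^ (1 : ℤ) : Kˣ) : K) = f l'
      simp [hl, hf]
    · change (((Units.map f.toMonoidHom l) ^ (3 : ℤ) * l ^ (1 : ℤ) : Kˣ) : K) = l'
      simp [hl, zpow_ofNat, mul_comm]
  · refine (sl2_eq_top_of_upT_loT (H := Subgroup.comap ψ MM) (fun t => ?_) fun t => ?_).ge (Subgroup.mem_top g)
    · exact Subgroup.mem_comap.2 (e1 t ▸ (sub h3 f hf).UK_le 0 (((U0 h3 f hf).1 _).2 ⟨_, rfl⟩))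
    · exact Subgroup.mem_comap.2 (e2 t ▸ (sub h3 f hf).VK_le 0 (((V0 h3 f hf).1 _).2 ⟨_, rfl⟩))
  · have : Matrix.SpecialLinearGroup.map f wS = wS := by apply sl2_ext <;> simp [coe_wS]
    rw [e, this, (St.sl2_w a2 a3).1, (St.sl2_w b2 b3).1]

theorem W1_cases {w} (hw : w ∈ (z h3 f hf).sym.W1) : w = 1 ∨ w = (hT).cd.wL Set.univ := by
  obtain ⟨e⟩ := exists_W h3 f hf
  have h2 : Nat.card (z h3 f hf).sym.W1 = 2 := by rw [← Nat.card_congr e.toEquiv]; simp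
  obtain ⟨y, -, hy⟩ := (Nat.card_eq_two_iff' 1).1 h2
  by_cases h : w = 1
  · exact Or.inl h
  · refine Or.inr (congrArg Subtype.val ((hy ⟨w, hw⟩ (by simpa using h)).trans
      (hy ⟨_, (z h3 f hf).sym.w0_mem⟩ fun e => ?_).symm))
    exact (O h3 f hf).wk_ne_one 0 (by rw [RS.Sym.Orb.wk, J_eq]; exact congrArg Subtype.val e)

theorem exists_ree' (hs : ∀ s : K, ∃ d, d ^ 2 = s ∨ -d ^ 2 = s) {Γ : Type*} [Group Γ] (j : Γ →* chevG2.group K)
    (hj : Function.Injective j) (hr : j.range = MM) : ∃ R : Ree K Γ, (∀ t, R.s t = f t ^ 3) ∧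
      (∀ t u v, j (R.x t u v) = par f (SS).toSt0 (t, u, v)) ∧ (∀ l, j (R.h l) = hm f l) ∧
      j R.n = (SS).n ((hT).fin 8) 1 * (SS).n ((hT).fin 10) 1 := by
  obtain ⟨ψ, p1, p2, p3, p4⟩ := exists_psi h3 f hf
  obtain ⟨ψ', hψ⟩ := exists_pre hj ψ fun g => hr ▸ p3 g
  obtain ⟨h, hh⟩ := exists_pre hj (hm f) fun l => hr ▸ ((mem_H h3 f hf hs).2 ⟨l, rfl⟩).2
  choose x hx using fun t u v => hr.ge ((mem_U' h3 f hf).2 ⟨t, u, v, rfl⟩).2
  have hN : ψ wS ∈ (SS).N := p4 ▸ mul_mem ((SS).n_mem one_ne_zero) ((SS).n_mem one_ne_zero)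
  have hn : (SS).Rep (ψ wS) ((hT).cd.wL Set.univ) := by
    rw [p4, ← w_w]; exact ((SS).n_rep _ one_ne_zero).mul ((SS).n_rep _ one_ne_zero)
  have hU : ∀ {g}, g ∈ (SS).U ⊓ MM → ∃ t u v, g = j (x t u v) := fun hg => by
    simpa only [hx] using (mem_U' h3 f hf).1 hg
  have hH : ∀ {g}, g ∈ (SS).H ⊓ MM → ∃ l, g = j (h l) := fun hg => by
    simpa only [hh] using (mem_H h3 f hf hs).1 hg
  have hB : ∀ {k u}, k ∈ (SS).H ⊓ MM → u ∈ (SS).U ⊓ MM → k * u * k⁻¹ ∈ (SS).U ⊓ MM := fun hk hu =>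
    (Subgroup.mem_normalizer_iff.1 (Tw.Sub.H_le_normalizer MM _ hk) _).1 hu
  refine ⟨⟨sh h3 f, h3, fun t => congrArg (· ^ 3) ((map_pow f _ 3).trans (hf t)), hs, x, fun e => ?_, fun _ _ _ _ _ _ => hj ?_, h,
    fun _ _ _ _ => hj ?_, ψ', fun _ => hj ?_, fun _ _ e => hj ?_, fun l => hj ?_, fun g => ?_, fun t u v t' u' v' l e => hj ?_,
    fun M h1 h2 => ?_⟩, fun _ => rfl, hx, hh, (hψ _).trans p4⟩
  · simpa [Prod.ext_iff] using (U0 h3 f hf).2 (((hx ..).symm.trans (congrArg j e)).trans (hx ..))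
  · rw [map_mul, hx, hx, hx, par_mul h3 f hf]; rfl
  · rw [map_mul, map_mul, map_inv, hx, hx, hh, hm_par f hf]; rfl
  · rw [hψ, p1, hx]
  · rw [hψ, hh, p2 _ _ e]
  · rw [map_mul, map_mul, map_inv, hψ, hh, hh, map_inv, hm_eq, (SS).rep_conj_hh _ hn, ← map_inv]
    refine congrArg _ (funext fun i => ?_)
    change RS.chi _ (fun i' => (hT).cd.co ((hT).cd.wL Set.univ ((hT).cd.sim i')) i) = _
    rw [show (fun i' => (hT).cd.co ((hT).cd.wL Set.univ ((hT).cd.sim i')) i) = -Pi.single i 1 from funext fun i' => by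
      rw [w0, RS.co_neg, RS.co_sim]; simp [Pi.single_apply, eq_comm], RS.chi_neg, RS.chi_single]
    rfl
  · obtain ⟨w, hw, u, hu, n, hn', hr', u', hu', e⟩ := (sub h3 f hf).exists_decomp (hr.le ⟨g, rfl⟩)
    replace hu' : u' ∈ (SS).U ⊓ MM := ⟨(SS).Um_le_U _ hu'.1, hu'.2⟩
    rcases W1_cases h3 f hf hw with rfl | rfl
    · have hk : n ∈ (SS).H ⊓ MM := ⟨(SS).mem_H_of_rep_one hn'.1 hr', hn'.2⟩
      obtain ⟨t, u, v, e1⟩ := hU (mul_mem hu (hB hk hu'))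
      obtain ⟨l, e2⟩ := hH hk
      exact Or.inl ⟨t, u, v, l, hj (by rw [map_mul, ← e1, ← e2, e]; group)⟩
    · have hk : (ψ wS)⁻¹ * n ∈ (SS).H ⊓ MM := ⟨(SS).mem_H_of_rep_one ((SS).N.mul_mem ((SS).N.inv_mem hN) hn'.1)
        (by simpa using hn.inv.mul hr'), (MM).mul_mem ((MM).inv_mem (p3 _)) hn'.2⟩
      obtain ⟨t, u, v, e0⟩ := hU hu
      obtain ⟨t', u', v', e1⟩ := hU (hB hk hu')
      obtain ⟨l, e2⟩ := hH hk
      exact Or.inr ⟨t, u, v, l, t', u', v', hj (by rw [map_mul, map_mul, map_mul, ← e0, ← e1, ← e2, e, hψ]; group)⟩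
  · replace e := congrArg j e
    rw [map_mul, map_mul, map_mul, map_inv, hψ, hx, hx, hh] at e
    have := (SS).eq_one_of_mem_B_V ((SS).mem_B_iff.2 ⟨_, ((mem_U' h3 f hf).2 ⟨t', u', v', rfl⟩).1, _,
      ((mem_H h3 f hf hs).2 ⟨l, rfl⟩).1, e⟩)
      (((SS).conj_n0 hn).1.le ⟨_, ((mem_U' h3 f hf).2 ⟨t, u, v, rfl⟩).1, rfl⟩)
    rw [hx, map_one]
    simpa using this
  · have : MM ≤ M.map j := by
      refine (Tw.G1_le_sup).trans (sup_le (fun g hg => ?_) fun g hg => ?_)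
      · obtain ⟨t, u, v, rfl⟩ := hU ((sub h3 f hf).U_inf.ge hg)
        exact ⟨_, h1 t u v, rfl⟩
      · obtain ⟨k, hk, rfl⟩ := ((SS).conj_n0 hn).1.ge hg.1
        obtain ⟨t, u, v, rfl⟩ := hU (g := k) ⟨hk, by
          simpa [mul_assoc] using mul_mem (mul_mem (inv_mem (p3 wS)) ((sub h3 f hf).V_le hg)) (p3 wS)⟩
        exact ⟨_, h2 t u v, by simp [hψ]⟩
    exact eq_top_iff.2 fun g _ => (Subgroup.mem_map_iff_mem hj).1 (this (hr.le ⟨g, rfl⟩))

theorem exists_ree [Fintype K] {m : ℕ} (hK : Fintype.card K = 3 ^ (2 * m + 1)) :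
    ∃ R : Ree K (twistedG2 K (3 ^ m)),
      chevG2.posUnipotent K ⊓ twistedG2 K (3 ^ m) = R.U.map (twistedG2 K (3 ^ m)).subtype ∧
      chevG2.diagonalSubgroup K ⊓ twistedG2 K (3 ^ m) = R.h.range.map (twistedG2 K (3 ^ m)).subtype ∧
      (chevG2.borelSubgroup K ⊓ twistedG2 K (3 ^ m)).subgroupOf (twistedG2 K (3 ^ m)) = R.B ∧
      ∀ φ : K →+* K, ∃ α : twistedG2 K (3 ^ m) →* twistedG2 K (3 ^ m),
        (∀ t u v, α (R.x t u v) = R.x (φ t) (φ u) (φ v)) ∧ α R.n = R.n := by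
  obtain ⟨h3, f, hf, hq⟩ := exists_f hK
  have e := gen_eq h3 f hf hq
  have hle : twistedG2 K (3 ^ m) ≤ chevG2.group K := e ▸ Subgroup.map_subtype_le _
  have hj := Subgroup.inclusion_injective hle
  have hr : (Subgroup.inclusion hle).range = Tw.G1 (z h3 f hf) (O h3 f hf) := by
    rw [Subgroup.inclusion_range, e, Subgroup.subgroupOf, Subgroup.comap_map_eq_self_of_injective
      (chevG2.group K).subtype_injective]
  obtain ⟨R, r1, r2, r3, r4⟩ := exists_ree' h3 f hf (exists_sq hK) _ hj hr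
  have key : ∀ (A : Subgroup (chevG2.group K)) (A' : Subgroup (twistedG2 K (3 ^ m))),
      (∀ g, Subgroup.inclusion hle g ∈ A ↔ g ∈ A') → A.map (chevG2.group K).subtype ⊓ twistedG2 K (3 ^ m) =
        A'.map (twistedG2 K (3 ^ m)).subtype := fun A A' H => by
    ext g
    exact ⟨fun ⟨⟨a, ha, e⟩, hg⟩ => ⟨⟨g, hg⟩, (H _).1 (by rwa [show Subgroup.inclusion hle ⟨g, hg⟩ = a from
      Subtype.ext e.symm]), rfl⟩, by rintro ⟨a, ha, rfl⟩; exact ⟨⟨_, (H a).2 ha, rfl⟩, a.2⟩⟩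
  have hU : ∀ g, Subgroup.inclusion hle g ∈ (SS).U ↔ g ∈ R.U := fun g =>
    ⟨fun h => by
      obtain ⟨t, u, v, e⟩ := (mem_U' h3 f hf).1 ⟨h, hr.le ⟨g, rfl⟩⟩
      exact ⟨t, u, v, hj (e.trans (r2 ..).symm)⟩, by
      rintro ⟨t, u, v, rfl⟩; exact ((mem_U' h3 f hf).2 ⟨t, u, v, r2 ..⟩).1⟩
  have hH : ∀ g, Subgroup.inclusion hle g ∈ (SS).H ↔ g ∈ R.h.range := fun g =>
    ⟨fun h => by
      obtain ⟨l, e⟩ := (mem_H h3 f hf (exists_sq hK)).1 ⟨h, hr.le ⟨g, rfl⟩⟩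
      exact ⟨l, hj ((r3 l).trans e.symm)⟩, by
      rintro ⟨l, rfl⟩; exact ((mem_H h3 f hf (exists_sq hK)).2 ⟨l, r3 l⟩).1⟩
  refine ⟨R, by rw [(hT).grp_U, key _ _ hU], by rw [(hT).grp_H, key _ _ hH], ?_, fun φ => ?_⟩
  · rw [(hT).grp_B, key _ R.B fun g => ⟨fun h => ?_, ?_⟩, Subgroup.subgroupOf,
      Subgroup.comap_map_eq_self_of_injective (Subgroup.subtype_injective _)]
    · refine (R.decomp g).resolve_right ?_
      rintro ⟨u, hu, _, ⟨u', hu', l, rfl⟩, rfl⟩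
      simp only [map_mul] at h
      rw [(SS).B.mul_mem_cancel_right ((SS).mem_B_iff.2 ⟨_, (hU _).2 hu', _, (hH _).2 ⟨l, rfl⟩, rfl⟩),
        (SS).B.mul_mem_cancel_left (Subgroup.mem_sup_left ((hU _).2 hu))] at h
      have hn : (SS).Rep (Subgroup.inclusion hle R.n) ((hT).cd.wL Set.univ) := by
        rw [r4, ← w_w]; exact ((SS).n_rep _ one_ne_zero).mul ((SS).n_rep _ one_ne_zero)
      have h1 := (hU _).2 (R.x_mem 0 0 1)
      have := (SS).eq_one_of_mem_B_V (mul_mem (mul_mem h (Subgroup.mem_sup_left h1)) (inv_mem h))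
        (((SS).conj_n0 hn).1.le ⟨_, h1, rfl⟩)
      simp [R.x_eq_one, map_eq_one_iff _ hj] at this
    · rintro ⟨u, hu, l, rfl⟩
      exact (SS).mem_B_iff.2 ⟨_, (hU _).2 hu, _, (hH _).2 ⟨l, rfl⟩, map_mul _ _ _⟩
  · obtain ⟨α, hα⟩ := (TD.frob (hT).cd φ (Finite.surjective_of_injective φ.injective)).exists_hom (SS) ((hT).grp_Gr K)
      ((hT).grp_adj K)
    replace hα : ∀ r t, α ((SS).x r t) = (SS).x r (φ t) := fun r t => (hα r t).trans (congrArg ((SS).x r) (TD.frob_τ _ _ r t))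
    have a1 : ∀ t u v, α (Subgroup.inclusion hle (R.x t u v)) = Subgroup.inclusion hle (R.x (φ t) (φ u) (φ v)) := by
      simp [r2, par, pl, hα, hq]
    have a2 : α (Subgroup.inclusion hle R.n) = Subgroup.inclusion hle R.n := by simp [r4, St0.n, hα]
    obtain ⟨β, hβ⟩ := exists_pre hj (α.comp (Subgroup.inclusion hle)) fun g =>
      (R.gen (((Subgroup.inclusion hle).range.comap α).comap (Subgroup.inclusion hle)) (fun t u v => ⟨_, (a1 t u v).symm⟩)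
        fun t u v => ⟨R.n * R.x (φ t) (φ u) (φ v) * R.n⁻¹, by
          change _ = α (Subgroup.inclusion hle (R.n * _ * R.n⁻¹))
          simp only [map_mul, map_inv, a1, a2]⟩).ge (Subgroup.mem_top g)
    exact ⟨β, fun t u v => hj ((hβ _).trans (a1 t u v)), hj ((hβ _).trans a2)⟩

end G2
end H24
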