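import Cfsg.Agent.H24.TwG2
import Cfsg.Agent.H24.Tor2

/-! The anisotropic tori of the small Ree groups. -/

set_option linter.unusedSectionVars false
set_option maxHeartbeats 400000

namespace H24
open Finset St0 Cfsg.Lie

theorem Mdl.torus' {ι Φ : Type} [Fintype ι] [DecidableEq ι] [Fintype Φ] [DecidableEq Φ] {R : CD ι Φ} {k : Type*} [Field k]
    {G : Type*} [Group G] {S : St R k G} {Γ : Type*} [Group Γ] (M : Mdl S Γ) {w : Equiv.Perm Φ} (hw : w ∈ R.W) :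
    ∃ μ : M.T w →* Γ, (∀ c, μ c = 1 ↔ R.theta k c = 1) ∧ ∀ c : M.T w, (∀ r r', R.len r = R.len r' →
      RS.chi (R.theta k c) (R.rt r) = RS.chi (R.theta k c) (R.rt r') → r = r') →
      Subgroup.centralizer {μ c} = μ.range := by
  obtain ⟨h3, hi⟩ := M.sc
  obtain ⟨n, hn, hr⟩ := S.exists_N_rep hw
  obtain ⟨g, hg⟩ := M.lang n⁻¹
  have h1 : ∀ c, M.σ (g * S.hh h3 c * g⁻¹) = g * S.hh h3 c * g⁻¹ ↔ c ∈ M.T w := fun c => by
    rw [map_mul, map_mul, map_inv, inv_mul_eq_iff_eq_mul.1 hg, M.d.σ_hh h3 M.hσ]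
    refine Iff.trans ?_ hi.eq_iff
    rw [← S.rep_conj_hh h3 hr]
    exact ⟨fun e => by
      rw [show S.hh h3 (M.d.act c) = n * (g⁻¹ * (g * n⁻¹ * S.hh h3 (M.d.act c) * (g * n⁻¹)⁻¹) * g) * n⁻¹ by group, e]
      group, fun e => by rw [e]; group⟩
  let ν : M.T w →* M.σ.eqLocus (MonoidHom.id G) := (((MulAut.conj g).toMonoidHom.comp (S.hh h3)).domRestrict _).codRestrict _
    fun c => (h1 c).2 c.2
  have hν : ∀ c, (ν c : G) = g * S.hh h3 c * g⁻¹ := fun _ => rfl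
  have hZ : ∀ z, g * z * g⁻¹ ∈ S.Z ↔ z ∈ S.Z := fun z => by
    rw [← S.center_eq M.top]; exact (Subgroup.mem_normalizer_iff.1 (Subgroup.le_normalizer_of_normal (K := ⊤) trivial) z).symm
  have h2 : ∀ y : M.σ.eqLocus (MonoidHom.id G), g⁻¹ * y * g ∈ S.H → ∃ c, ν c = y := fun y hy => by
    obtain ⟨c, e⟩ : _ ∈ (S.hh h3).range := S.range_hh h3 ▸ hy
    have : g * S.hh h3 c * g⁻¹ = y := by rw [e]; group
    exact ⟨⟨c, (h1 c).1 (this ▸ y.2)⟩, Subtype.ext this⟩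
  refine ⟨M.φ.comp ν, fun c => by rw [MonoidHom.comp_apply, M.ker, hν, hZ, S.hh_mem_Z], fun c H1 =>
    le_antisymm (fun y hy => ?_) ?_⟩
  · obtain ⟨y, rfl⟩ := M.surj y
    obtain ⟨u, hu, m, hm, u', hu', e, H⟩ := S.cent_canon (A := {S.hh h3 c}) (g := g⁻¹ * y * g)
      (by rintro _ rfl; exact S.hh_mem h3 c) (M.top ▸ Subgroup.mem_top _) (by
        rintro _ rfl
        rw [← hZ]
        convert (M.ker (y * ν c * y⁻¹ * (ν c)⁻¹)).1 (by
          have := hy _ rfl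
          rw [MonoidHom.comp_apply] at this
          rw [map_mul, map_mul, map_mul, map_inv, map_inv, ← this]; simp) using 1
        simp only [Subgroup.coe_mul, Subgroup.coe_inv, hν]; group)
    have hU : ∀ u ∈ S.U, S.hh h3 c * u * (S.hh h3 c)⁻¹ = u → u = 1 := fun u hu H => by
      obtain ⟨t, rfl⟩ := S.exists_pl hu
      rw [S.prod_congr (t' := 0) fun r hr => ?_, prod_zero]
      refine by_contra fun ht => ?_
      have := S.supp_of_fixed (S.hh_acts h3 c) H ((R.mem_pl r).1 hr) ht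
      have e := H1 r (R.neg r) (R.len_neg r).symm (by rw [R.rt_neg, RS.chi_neg, this, inv_one])
      exact (R.pos_neg_iff r).1 (e ▸ (R.mem_pl r).1 hr) ((R.mem_pl r).1 hr)
    rw [hU u hu (H _ rfl).1, hU u' hu' (H _ rfl).2.1, one_mul, mul_one] at e
    obtain ⟨v, hv, hm'⟩ := S.exists_rep hm
    obtain rfl : v = 1 := Equiv.ext fun r =>
      H1 _ _ (RS.Aut.len (R.W_le_Aut hv) r) (S.chi_of_conj (S.hh_acts h3 c) hm' (H _ rfl).2.2 r)
    obtain ⟨c, rfl⟩ := h2 y (e ▸ S.mem_H_of_rep_one hm hm')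
    exact ⟨c, rfl⟩
  · rintro _ ⟨c', rfl⟩ _ rfl
    rw [← map_mul, ← map_mul, mul_comm]

theorem eq_one_of_rel {A : Type*} [CommGroup A] {x y : A} {i j i' j' : ℤ} (h : x ^ i * y ^ j = 1)
    (h' : x ^ i' * y ^ j' = 1) : x ^ (i * j' - j * i') = 1 ∧ y ^ (i * j' - j * i') = 1 := by
  constructor
  · have : x ^ (i * j' - j * i') = (x ^ i * y ^ j) ^ j' / (x ^ i' * y ^ j') ^ j := by
      simp only [mul_zpow, ← zpow_mul, zpow_sub, mul_comm j' j, mul_comm i' j, div_eq_mul_inv,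
        mul_inv_rev]
      simp [mul_assoc]
    rw [this, h, h']; simp
  · have : y ^ (i * j' - j * i') = (x ^ i' * y ^ j') ^ i / (x ^ i * y ^ j) ^ i' := by
      simp only [mul_zpow, ← zpow_mul, zpow_sub, mul_comm i' i, mul_comm j' i, div_eq_mul_inv, mul_inv_rev]
      rw [mul_comm (x ^ _) (y ^ _), mul_assoc, mul_left_comm (x ^ _), mul_inv_cancel, mul_one]
    rw [this, h, h']; simp

namespace G2
local notation "hT" => tabG2_chk

theorem exists_mdl {K k : Type*} [Field K] [Fintype K] [Field k] [IsAlgClosed k] (j : K →+* k) {m : ℕ}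
    (hK : Fintype.card K = 3 ^ (2 * m + 1)) : ∃ M : Mdl ((hT).stb k) (twistedG2 K (3 ^ m)),
      M.d.π = π ∧ ∀ i t, M.d.ψ i t = t ^ (3 ^ m * morG2.ex (tabG2.simple i)) := by
  obtain ⟨h3, f0, hf0, hq0⟩ := exists_f hK
  have h3' : (3 : k) = 0 := by rw [← map_ofNat j, h3, map_zero]
  obtain ⟨f, h1, hf⟩ := exists_frob_alg j (q := 3 ^ m) one_ne_zero (by rw [hK, pow_one]; exact pow_dvd_pow _ (by omega))
  have hx := (by decide +kernel : ∀ r : Fin chevG2.nroots, morG2.ph r < tabG2.n ∧ morG2.ph (morG2.ph r) = r ∧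
    morG2.ep r = 1 ∧ morG2.ex r * morG2.ex (morG2.ph r) = 3)
  obtain ⟨d, hd, hρ, hτ⟩ : ∃ d, d = (hT).td morG2_chk f (hp h3') π hπ (fun r t => by
      obtain ⟨u, rfl⟩ := IsAlgClosed.exists_pow_nat_eq t (n := morG2.ex r)
        (by rcases morG2.ex_spec morG2_chk.prime r with h | ⟨h, -⟩ <;> rw [h] <;> decide)
      obtain ⟨u, rfl⟩ := hf u
      exact ⟨u, rfl⟩) ∧ (∀ r, d.ρ r = (hT).fin (morG2.ph r)) ∧ ∀ r t, d.τ r t = t ^ (3 ^ m * morG2.ex r) := by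
    refine ⟨_, rfl, fun _ => rfl, fun r t => ?_⟩
    exact ((hT).td_τ' _ _ _ _ _ _ r t).trans (by rw [(hx r).2.2.1, h1, ← pow_mul]; simp)
  obtain ⟨F, hF, -⟩ := exists_frob_alg j (q := Fintype.card K) one_ne_zero (by rw [pow_one])
  obtain ⟨M, rfl, -⟩ := (hT).exists_mdl_tw j (scG2 k) (scG2 K) d (td h3 f0 hf0) (fun r => (hρ r).symm)
    (fun r t => (congrArg j ((hT).td_τ' _ _ _ _ _ _ r t)).trans (by simp [hτ, hq0, (hx r).2.2.1, pow_mul]))
    (m := 1) F hF (fun r => ⟨Polynomial.X ^ (3 ^ m * morG2.ex r), fun t => by simp [hτ]⟩) (fun r t => by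
      simp only [Function.iterate_succ_apply', Function.iterate_zero_apply, hτ, hρ,
        (hT).val_fin (hx r).1, (hx r).2.1, (hT).fin_val, ← pow_mul, hF, hK]
      rw [mul_mul_mul_comm, (hx r).2.2.2]; congr 2; ring)
    (O h3 f0 hf0) (sub h3 f0 hf0) (hT_mem h3 f0 hf0 (exists_sq hK)) (gen_eq h3 f0 hf0 hq0)
  refine ⟨M, by rw [hd]; rfl, fun i t => Units.ext ?_⟩
  rw [hd]
  exact ((hT).td_ψ _ _ _ _ _ _ i rfl t).trans (by rw [h1, Units.val_pow_eq_pow_val, pow_mul])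

/-- the check of the data of a torus -/
def TorOk (w : List ℕ) (a b c d : ℤ) : Prop :=
  (tabG2.cov (tabG2.appl w 7) 0 = a ∧ tabG2.cov (tabG2.appl w 6) 0 = b ∧
    tabG2.cov (tabG2.appl w 7) 1 = c ∧ tabG2.cov (tabG2.appl w 6) 1 = d) ∧
  ∀ r < 12, ∀ r' < 12, tabG2.len r = tabG2.len r' → r = r' ∨
    (tabG2.wtv r 0 - tabG2.wtv r' 0) * ((tabG2.wtv r 0 - tabG2.wtv r' 0) * d + (tabG2.wtv r 1 - tabG2.wtv r' 1) * (b * 3)) -
    (tabG2.wtv r 1 - tabG2.wtv r' 1) * ((tabG2.wtv r 0 - tabG2.wtv r' 0) * c + (tabG2.wtv r 1 - tabG2.wtv r' 1) * (a * 3)) ∣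
      6 ^ 4

noncomputable instance (w : List ℕ) (a b c d : ℤ) : Decidable (TorOk w a b c d) := by unfold TorOk; infer_instance

variable {K : Type*} [Field K] [Fintype K] {m : ℕ} (hK : Fintype.card K = 3 ^ (2 * m + 1))
include hK

theorem tor {k : Type*} [Field k] [IsAlgClosed k] (j : K →+* k) (w : List (Fin chevG2.rank)) {a b c d : ℤ}
    (H : TorOk (w.map Fin.val) a b c d) : ∃ (T : Subgroup (kˣ × kˣ)) (μ : T →* twistedG2 K (3 ^ m)),
      Function.Injective μ ∧ (∀ p, p ∈ T ↔ p.2 ^ 3 ^ m = p.1 ^ a * p.2 ^ b ∧ p.1 ^ (3 ^ m * 3) = p.1 ^ c * p.2 ^ d) ∧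
      ∀ y ∈ μ.range, y ≠ 1 → (orderOf y).Coprime 6 → Subgroup.centralizer {y} = μ.range := by
  obtain ⟨M, m1, m2⟩ := exists_mdl j hK
  obtain ⟨μ, h1, h2⟩ := M.torus' ((hT).cd.WJ_le_W _ ((hT).cd.wd_mem_WJ (J := Set.univ) (l := w) fun _ _ => trivial))
  have hi : Function.Injective μ := (injective_iff_map_eq_one _).2 fun c e => Subtype.ext (kerG2 k c ((h1 c).1 e))
  have e2 : ∀ (c : Fin chevG2.rank → kˣ) v, RS.chi c v = c (0 : Fin 2) ^ v (0 : Fin 2) * c (1 : Fin 2) ^ v (1 : Fin 2) :=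
    fun c v => Fin.prod_univ_two _
  have hT' : ∀ p, p ∈ M.T ((hT).cd.wd w) ↔ p (1 : Fin 2) ^ 3 ^ m = p (0 : Fin 2) ^ a * p (1 : Fin 2) ^ b ∧
      p (0 : Fin 2) ^ (3 ^ m * 3) = p (0 : Fin 2) ^ c * p (1 : Fin 2) ^ d := fun p => by
    refine funext_iff.trans (Fin.forall_fin_two.trans ?_)
    have e3 : ∀ i j : Fin chevG2.rank, (hT).cd.co ((hT).cd.wd w ((hT).cd.sim i)) j =
      tabG2.cov (tabG2.appl (w.map Fin.val) (tabG2.simple i)) j := fun i j => by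
        rw [← (hT).val_sim, ← (hT).val_wd]; rfl
    simp only [TD.act, m1, m2, RS.mx, MonoidHom.coe_mk, OneHom.coe_mk, MonoidHom.mk'_apply, e2, e3, ← H.1.1, ← H.1.2.1,
      ← H.1.2.2.1, ← H.1.2.2.2]
    exact and_congr (Eq.congr_left (congrArg _ (mul_one _))) Iff.rfl
  let E : (Fin chevG2.rank → kˣ) ≃* kˣ × kˣ := ⟨finTwoArrowEquiv _, fun _ _ => rfl⟩
  refine ⟨_, μ.comp (E.subgroupMap (M.T _)).symm.toMonoidHom, hi.comp (MulEquiv.injective _), fun p => ?_, ?_⟩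
  · obtain ⟨p, rfl⟩ := E.surjective p
    exact (Subgroup.mem_map_iff_mem E.injective).trans (hT' p)
  rw [MonoidHom.range_comp, MonoidHom.range_eq_top.2 (MulEquiv.surjective _), ← MonoidHom.range_eq_map]
  rintro _ ⟨p, rfl⟩ h3 h4
  refine h2 p fun r r' e e' => Fin.ext (((H.2 r r.2 r' r'.2 (Nat.cast_injective (R := ℤ) e)).resolve_right fun hd => h3 ?_))
  rw [orderOf_injective _ hi] at h4
  rw [RS.chi_theta, RS.chi_theta] at e'
  replace e' := (e2 _ _).symm.trans (e'.trans (e2 _ _))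
  obtain ⟨e4, e5⟩ := (hT' p).1 p.2
  have e6 : p.1 (0 : Fin 2) ^ (tabG2.wtv r 0 - tabG2.wtv r' 0) * p.1 (1 : Fin 2) ^ (tabG2.wtv r 1 - tabG2.wtv r' 1) = 1 := by
    rw [zpow_sub, zpow_sub, mul_mul_mul_comm, ← mul_inv, mul_inv_eq_one]
    exact (congrArg₂ _ (congrArg _ ((hT).A_sim _ r).symm) (congrArg _ ((hT).A_sim _ r).symm)).trans
      (e'.trans (congrArg₂ _ (congrArg _ ((hT).A_sim _ r')) (congrArg _ ((hT).A_sim _ r'))))
  generalize tabG2.wtv r 0 - tabG2.wtv r' 0 = i at e6 hd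
  generalize tabG2.wtv r 1 - tabG2.wtv r' 1 = i' at e6 hd
  have e7 := congrArg (· ^ (3 ^ m * 3)) e6
  simp only [mul_pow, one_pow] at e7
  rw [← zpow_natCast, ← zpow_natCast (_ ^ i'), zpow_comm, zpow_comm _ i', zpow_natCast, zpow_natCast, e5, pow_mul, e4] at e7
  have e8 := eq_one_of_rel (i' := i * c + i' * (a * 3)) (j' := i * d + i' * (b * 3)) e6 (by
    rw [← e7, ← zpow_natCast _ 3]
    simp only [mul_zpow, ← zpow_mul, zpow_add, mul_comm c, mul_comm d, mul_comm _ i']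
    exact mul_mul_mul_comm ..)
  have : orderOf p ∣ 6 ^ 4 := by
    obtain ⟨N, hN⟩ := hd
    rw [orderOf_dvd_iff_pow_eq_one, Subtype.ext_iff, ← zpow_natCast]
    refine funext (Fin.forall_fin_two.2 ⟨?_, ?_⟩)
    · exact (congrArg _ hN).trans ((zpow_mul _ _ _).trans (by rw [e8.1, one_zpow]; rfl))
    · exact (congrArg _ hN).trans ((zpow_mul _ _ _).trans (by rw [e8.2, one_zpow]; rfl))
  rw [orderOf_eq_one_iff.1 (Nat.eq_one_of_dvd_coprimes (h4.pow_right 4) dvd_rfl this), map_one]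

theorem exists_prim {n : ℕ} (hn : ¬ 3 ∣ n) : ∃ ζ : (AlgebraicClosure K)ˣ, orderOf ζ = n := by
  have h3 : ((3 : ℕ) : AlgebraicClosure K) = 0 := by
    rw [← map_natCast (algebraMap K _), Nat.cast_ofNat, (exists_f hK).1, map_zero]
  have := CharP.ringChar_of_prime_eq_zero Nat.prime_three h3
  have : NeZero (n : AlgebraicClosure K) := ⟨by rwa [Ne, ringChar.spec, this]⟩
  have : NeZero n := ⟨by rintro rfl; exact hn (dvd_zero _)⟩
  obtain ⟨ζ, hζ⟩ := HasEnoughRootsOfUnity.exists_primitiveRoot (AlgebraicClosure K) n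
  exact ⟨_, (hζ.isUnit_unit (NeZero.ne n)).eq_orderOf.symm⟩

omit hK in
theorem exists_zpow {k : Type*} [Field k] {ζ t : kˣ} (h0 : orderOf ζ ≠ 0) (h : t ^ orderOf ζ = 1) : ∃ i : ℕ, ζ ^ i = t := by
  have : NeZero (orderOf ζ) := ⟨h0⟩
  obtain ⟨i, -, hi⟩ := (IsPrimitiveRoot.orderOf ζ).eq_pow_of_mem_rootsOfUnity ((mem_rootsOfUnity _ _).2 h)
  exact ⟨i, hi⟩

theorem torus_pm {ε : ℤ} (hε : ε = 1 ∨ ε = -1) {n : ℕ} (hn : (n : ℤ) = 3 ^ (2 * m + 1) - ε * 3 ^ (m + 1) + 1) :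
    ∃ T : Subgroup (twistedG2 K (3 ^ m)), IsCyclic T ∧ Nat.card T = n ∧
      ∀ y ∈ T, y ≠ 1 → (orderOf y).Coprime 6 → Subgroup.centralizer {y} = T := by
  have h3 : ¬ 3 ∣ n := fun h => by
    have : (3 : ℤ) ∣ n := by exact_mod_cast h
    rw [hn, pow_succ, pow_succ, ← mul_assoc] at this
    omega
  obtain ⟨ζ, rfl⟩ := exists_prim hK h3
  obtain ⟨T, μ, h1, h2, h4⟩ : ∃ (T : Subgroup ((AlgebraicClosure K)ˣ × (AlgebraicClosure K)ˣ))
      (μ : T →* twistedG2 K (3 ^ m)), Function.Injective μ ∧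
      (∀ p, p ∈ T ↔ p.2 ^ 3 ^ m = p.1 ^ (-ε) * p.2 ^ ε ∧ p.1 ^ (3 ^ m * 3) = p.1 ^ (0 : ℤ) * p.2 ^ ε) ∧
      ∀ y ∈ μ.range, y ≠ 1 → (orderOf y).Coprime 6 → Subgroup.centralizer {y} = μ.range := by
    rcases hε with rfl | rfl
    · exact tor hK (algebraMap K _) ([0] : List (Fin 2)) (by decide +kernel)
    · exact tor hK (algebraMap K _) ([1, 0, 1, 0, 1] : List (Fin 2)) (by decide +kernel)
  have hεε : ε * ε = 1 := by rcases hε with rfl | rfl <;> rfl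
  have h5 : ∀ p, p ∈ T ↔ p.1 ^ orderOf ζ = 1 ∧ p.2 = p.1 ^ (ε * 3 ^ (m + 1)) := fun ⟨x, y⟩ => by
    rw [h2, zpow_zero, one_mul, and_comm]
    have : x ^ (3 ^ m * 3) = y ^ ε ↔ y = x ^ (ε * 3 ^ (m + 1)) := ⟨fun e => by
      rw [mul_comm, zpow_mul, ← Nat.cast_ofNat, ← Nat.cast_pow, zpow_natCast, pow_succ, e, ← zpow_mul, hεε, zpow_one], by
      rintro rfl
      rw [← zpow_mul, mul_right_comm, hεε, one_mul, ← zpow_natCast]; simp [pow_succ]⟩
    rw [this, and_comm]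
    refine and_congr_left ?_
    rintro rfl
    rw [← zpow_natCast, ← zpow_natCast, ← zpow_mul, ← zpow_mul, ← zpow_add, ← mul_inv_eq_one, ← zpow_sub,
      show ε * 3 ^ (m + 1) * (3 ^ m : ℕ) - (-ε + ε * 3 ^ (m + 1) * ε) = orderOf ζ * ε by
        rw [hn]; push_cast; ring, zpow_mul]
    rcases hε with rfl | rfl <;> simp
  have h6 : T = Subgroup.zpowers (ζ, ζ ^ (ε * 3 ^ (m + 1))) := by
    refine le_antisymm (fun p hp => ?_) (Subgroup.zpowers_le.2 ((h5 _).2 ⟨pow_orderOf_eq_one ζ, rfl⟩))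
    obtain ⟨i, hi⟩ := exists_zpow (fun e => h3 (e ▸ dvd_zero _)) ((h5 p).1 hp).1
    exact ⟨i, Prod.ext (by simpa using hi) (by rw [((h5 p).1 hp).2, ← hi, ← zpow_natCast, zpow_comm]; rfl)⟩
  subst h6
  refine ⟨μ.range, isCyclic_of_surjective _ μ.rangeRestrict_surjective, ?_, h4⟩
  rw [← Nat.card_congr (MonoidHom.ofInjective h1).toEquiv, Nat.card_zpowers, Prod.orderOf_mk]
  exact Nat.lcm_eq_left (orderOf_dvd_of_mem_zpowers ⟨_, rfl⟩)

theorem torus_zero : ∃ Y T : Subgroup (twistedG2 K (3 ^ m)), IsCyclic Y ∧ Y ≤ T ∧ (∀ a ∈ T, ∀ b ∈ T, a * b = b * a) ∧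
    4 * Nat.card Y = 3 ^ (2 * m + 1) + 1 ∧ Nat.card T = 3 ^ (2 * m + 1) + 1 ∧
      ∀ y ∈ T, y ≠ 1 → (orderOf y).Coprime 6 → Subgroup.centralizer {y} = T := by
  obtain ⟨ζ, hζ⟩ := exists_prim hK (n := 3 ^ (2 * m + 1) + 1) (by rw [pow_succ]; omega)
  obtain ⟨T, μ, h1, h2, h4⟩ := tor hK (algebraMap K (AlgebraicClosure K)) ([0, 1, 0] : List (Fin 2))
    (a := -2) (b := 1) (c := -3) (d := 2) (by decide +kernel)
  obtain ⟨e, he⟩ : Odd (3 ^ m) := Odd.pow (by decide)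
  have h4d : 4 ∣ 3 ^ (2 * m + 1) + 1 := by rw [pow_succ, pow_mul, Nat.dvd_iff_mod_eq_zero, Nat.add_mod, Nat.mul_mod, Nat.pow_mod]; simp
  let P : (AlgebraicClosure K)ˣ →* (AlgebraicClosure K)ˣ × (AlgebraicClosure K)ˣ :=
    (powMonoidHom (3 ^ m + 1)).prod (powMonoidHom (3 ^ m * 3 + 1))
  have hP : ∀ t, P t = (t ^ (3 ^ m + 1), t ^ (3 ^ m * 3 + 1)) := fun _ => rfl
  have p0 : ∀ t, (P t).1 ^ 3 = (P t).2 * t ^ 2 := fun t => by rw [hP, ← pow_mul, ← pow_add]; congr 1; ring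
  have p1 : ∀ t, P t = 1 ↔ t ^ 2 = 1 := fun t => ⟨fun e => by simpa [e] using (p0 t).symm, fun h => by
    rw [hP, show 3 ^ m + 1 = 2 * (e + 1) by omega, show 3 ^ m * 3 + 1 = 2 * (3 * e + 2) by omega, pow_mul, pow_mul, h]
    simp⟩
  have p2 : ∀ t, t ^ (3 ^ (2 * m + 1) + 1) = 1 → P t ∈ T := fun t ht => by
    rw [h2, hP]
    simp only [← zpow_natCast, ← zpow_mul, ← zpow_add] at ht ⊢
    constructor <;> rw [← mul_inv_eq_one, ← zpow_sub]
    · rw [← ht]; congr 1; push_cast; ring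
    · rw [← one_zpow 1, ← ht, ← zpow_mul]; congr 1; push_cast; ring
  have p3 : ((-1, -1) : _ × _) ∈ T := by
    rw [h2, he, show (2 * e + 1) * 3 = 2 * (3 * e + 1) + 1 by ring]
    simp [pow_succ, pow_mul, zpow_ofNat]
  have p4 : ∀ i : ℕ, orderOf (P (ζ ^ i)) = orderOf (ζ ^ (i * 2)) := fun i => orderOf_eq_orderOf_iff.2 fun n => by
    rw [← map_pow, p1, ← pow_mul, ← pow_mul, ← pow_mul, ← mul_assoc, mul_right_comm]
  have hz : P ζ ∈ T := p2 _ (hζ ▸ pow_orderOf_eq_one ζ)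
  have p5 : (Subgroup.zpowers (P ζ)).relIndex T = 2 := by
    have q1 : ((-1, -1) : _ × _) ∉ Subgroup.zpowers (P ζ) := by
      rintro ⟨i, hi⟩
      simp only [← map_zpow] at hi
      have := p0 (ζ ^ i)
      rw [hi, Odd.neg_one_pow (by decide), eq_comm, mul_eq_left, ← p1, hi, Prod.ext_iff] at this
      have h2 := congrArg Units.val this.1
      have h3 : (3 : AlgebraicClosure K) = 0 := by rw [← map_ofNat (algebraMap K _), (exists_f hK).1, map_zero]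
      simp only [Units.val_neg, Units.val_one, Prod.fst_one] at h2
      exact one_ne_zero (by linear_combination h3 + h2 : (1 : AlgebraicClosure K) = 0)
    have q2 : ∀ p ∈ T, p ∈ Subgroup.zpowers (P ζ) ∨ p * (-1, -1) ∈ Subgroup.zpowers (P ζ) := fun ⟨x, y⟩ hp => by
      obtain ⟨t, ht⟩ := IsAlgClosed.exists_pow_nat_eq ((x ^ 3 / y : _ˣ) : AlgebraicClosure K) two_pos
      lift t to (AlgebraicClosure K)ˣ using IsUnit.mk0 _ (by rintro rfl; exact (x ^ 3 / y).ne_zero (by simp [← ht]))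
      replace ht : t ^ 2 = x ^ 3 / y := Units.ext ht
      obtain ⟨l, rfl⟩ : ∃ l, x = l * t := ⟨x / t, by simp⟩
      obtain rfl : y = l ^ 3 * t := by
        rw [eq_div_iff_mul_eq', mul_pow, pow_succ' t 2, ← mul_assoc, mul_comm, mul_left_inj] at ht; exact ht
      obtain ⟨a1, a2⟩ := (h2 _).1 hp
      have b1 : l ^ (3 ^ m * 3) * t ^ 3 ^ m * t = l := by
        rw [mul_comm _ 3, pow_mul, ← mul_pow, a1]; ext; simp [zpow_ofNat]; field_simp
      have b2 : l ^ (3 ^ m * 3) * (t ^ 3 ^ m) ^ 3 * t = l ^ 3 := by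
        rw [← pow_mul, ← mul_pow, a2]; ext; simp [zpow_ofNat]; field_simp
      have b3 : (l / t ^ 3 ^ m) ^ 2 = 1 := by
        rw [div_pow, div_eq_one, ← mul_left_inj l, ← pow_succ, ← b2]
        nth_rw 2 [← b1]
        simp [pow_succ, mul_assoc, mul_comm, mul_left_comm]
      have b4 : ∀ s, l = s * t ^ 3 ^ m → s ^ (3 ^ m * 3) = s → ∃ i : ℕ, ζ ^ i = t := fun s e1 e2 =>
        exists_zpow (by rw [hζ]; simp) (by
          rw [e1, mul_pow, e2, ← pow_mul, mul_assoc, mul_assoc, mul_right_inj, mul_left_comm, mul_eq_left, ← pow_succ] at b1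
          rw [hζ, ← b1]; congr 1; ring)
      rcases (sq_eq_one_iff (a := ((l / t ^ 3 ^ m : _ˣ) : AlgebraicClosure K))).1 (congrArg Units.val b3) with b | b
      · have e1 : l = 1 * t ^ 3 ^ m := div_eq_iff_eq_mul.1 (Units.ext b)
        obtain ⟨i, rfl⟩ := b4 1 e1 (one_pow _)
        exact Or.inl ⟨i, ((map_zpow ..).symm.trans (hP _)).trans (by
          simp only [zpow_natCast, e1, one_mul, ← pow_mul (ζ ^ i), pow_succ (ζ ^ i)])⟩
      · have e1 : l = -1 * t ^ 3 ^ m := div_eq_iff_eq_mul.1 (Units.ext b)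
        obtain ⟨i, rfl⟩ := b4 (-1) e1 (Odd.neg_one_pow (Odd.mul ⟨e, he⟩ (by decide)))
        exact Or.inr ⟨i, ((map_zpow ..).symm.trans (hP _)).trans (by
          simp only [zpow_natCast, e1, pow_succ (ζ ^ i), pow_mul (ζ ^ i)]
          simp [Odd.neg_pow (by decide : Odd 3)])⟩
    refine Subgroup.relIndex_eq_two_iff.2 ⟨_, p3, fun p hp => (q2 p hp).elim (fun h => Or.inr ⟨h, fun h' => q1 ?_⟩)
      fun h => Or.inl ⟨h, fun h' => q1 ?_⟩⟩
    · simpa using mul_mem (inv_mem h) h'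
    · simpa using mul_mem (inv_mem h') h
  refine ⟨Subgroup.zpowers (μ ⟨P ζ, hz⟩ ^ 2), μ.range, inferInstance, Subgroup.zpowers_le.2 (μ.range.pow_mem ⟨_, rfl⟩ _),
    ?_, ?_, ?_, h4⟩
  · rintro _ ⟨a, rfl⟩ _ ⟨b, rfl⟩; rw [← map_mul, mul_comm, map_mul]
  · rw [Nat.card_zpowers, ← map_pow, orderOf_injective _ h1, ← Subgroup.orderOf_coe, Subgroup.coe_pow, ← map_pow, p4,
      orderOf_pow' _ (by decide), hζ, Nat.gcd_eq_right h4d, Nat.mul_div_cancel' h4d]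
  · rw [← Nat.card_congr (MonoidHom.ofInjective h1).toEquiv, ← ((Subgroup.zpowers (P ζ)).subgroupOf T).index_mul_card,
      Nat.card_congr (Subgroup.subgroupOfEquivOfLe (Subgroup.zpowers_le.2 hz)).toEquiv, Nat.card_zpowers, ← pow_one ζ, p4,
      orderOf_pow' _ (by decide), pow_one, hζ, Nat.gcd_eq_right (Dvd.dvd.trans (by decide) h4d)]
    exact (congrArg (· * _) p5).trans (Nat.mul_div_cancel' (Dvd.dvd.trans (by decide) h4d))

end G2
end H24
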