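import Cfsg.Agent.H24.Ree4
import Cfsg.Agent.H24.ReeG
import Cfsg.Agent.H24.ReeT

/-! The small Ree groups: summary. -/

set_option maxHeartbeats 400000

namespace H24.G2
open Cfsg.Lie

variable {K : Type*} [Field K] [Fintype K] {m : ℕ} (hK : Fintype.card K = 3 ^ (2 * m + 1))
include hK

theorem full (R : Ree K (twistedG2 K (3 ^ m))) : haveI := R.finite
    R.Full m (3 ^ (2 * m + 1)) ((3 ^ (2 * m + 1) - 1) / 2) ((3 ^ (2 * m + 1) + 1) / 4)
      (3 ^ (2 * m + 1) - 3 ^ (m + 1) + 1) (3 ^ (2 * m + 1) + 3 ^ (m + 1) + 1) :=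
  haveI := R.finite
  ⟨reeNum m, hK, torus_zero hK, torus_pm hK (ε := 1) (Or.inl rfl) (by
    rw [Nat.cast_add, Nat.cast_sub (Nat.pow_le_pow_right (by decide) (by omega))]; simp),
    torus_pm hK (ε := -1) (Or.inr rfl) (by simp)⟩

theorem exists_full : ∃ (_ : Finite (twistedG2 K (3 ^ m))) (R : Ree K (twistedG2 K (3 ^ m))),
    R.Full m (3 ^ (2 * m + 1)) ((3 ^ (2 * m + 1) - 1) / 2) ((3 ^ (2 * m + 1) + 1) / 4)
      (3 ^ (2 * m + 1) - 3 ^ (m + 1) + 1) (3 ^ (2 * m + 1) + 3 ^ (m + 1) + 1) :=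
  let ⟨R, _⟩ := exists_ree hK
  ⟨R.finite, R, full hK R⟩

omit hK in
theorem card_ord_map {G G' : Type*} [Group G] [Group G'] {φ : G →* G'} (hφ : Function.Injective φ) (A : Subgroup G)
    (P : ℕ → Prop) : Nat.card {g : A.map φ // P (orderOf g)} = Nat.card {g : A // P (orderOf g)} :=
  (Nat.card_congr ((A.equivMapOfInjective φ hφ).toEquiv.subtypeEquiv fun g => by
    rw [← (A.equivMapOfInjective φ hφ).orderOf_eq g]; rfl)).symm

end H24.G2
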