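import Cfsg.Agent.H24.Lang2

/-! Maximal tori of finite groups of Lie type. -/

set_option maxHeartbeats 400000
set_option linter.unusedSectionVars false

namespace H24
open Finset St0 Cfsg.Lie

variable {ι Φ : Type} [Fintype ι] [DecidableEq ι] [Fintype Φ] [DecidableEq Φ] {R : CD ι Φ} {k : Type*} [Field k]
  {G : Type*} [Group G]

theorem RS.chi_sum {α : Type*} (c : ι → kˣ) (s : Finset α) (v : α → ι → ℤ) :
    RS.chi c (∑ a ∈ s, v a) = ∏ a ∈ s, RS.chi c (v a) := by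
  classical
  induction s using Finset.induction_on with
  | empty => simp [RS.chi_zero]
  | insert a s h ih => rw [sum_insert h, prod_insert h, RS.chi_add, ih]

/-- the endomorphism of the torus given by an integer matrix -/
def RS.mx (M : ι → ι → ℤ) : (ι → kˣ) →* (ι → kˣ) := MonoidHom.mk' (fun c j => RS.chi c (M j))
  fun c d => funext fun _ => RS.chi_mul c d _

namespace St
variable (S : St R k G)

theorem rep_conj_hh (h3 : S.R3) {n : G} {w : Equiv.Perm Φ} (h : S.Rep n w) (c : ι → kˣ) :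
    n * S.hh h3 c * n⁻¹ = S.hh h3 (RS.mx (fun j i => R.co (w (R.sim i)) j) c) := by
  refine S.hh_induction h3 (fun c => n * S.hh h3 c * n⁻¹ = S.hh h3 (RS.mx (fun j i => R.co (w (R.sim i)) j) c))
    (fun i t => ?_) (by simp) (fun c c' h h' => by simp only [map_mul, ← h, ← h']; group) c
  rw [hh_single, S.rep_conj_h h3 h _ t.ne_zero, S.h_eq_hh h3]
  refine congrArg _ (funext fun j => ?_)
  change _ = ∏ i', _
  rw [prod_eq_single i (fun b _ hb => by simp [hb]) (by simp), Pi.mulSingle_eq_same]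

theorem cent_canon {A : Set G} (hA : ∀ h ∈ A, h ∈ S.H) {g : G} (hg : g ∈ S.Gr)
    (H : ∀ h ∈ A, g * h * g⁻¹ * h⁻¹ ∈ S.Z) : ∃ u ∈ S.U, ∃ n ∈ S.N, ∃ u' ∈ S.U, g = u * n * u' ∧
      ∀ h ∈ A, h * u * h⁻¹ = u ∧ h * u' * h⁻¹ = u' ∧ n * h * n⁻¹ * h⁻¹ ∈ S.Z := by
  obtain ⟨w, hw, hc⟩ := S.mem_Gr_iff.1 hg
  obtain ⟨n, hn, hr⟩ := S.exists_N_rep hw
  obtain ⟨b, hb, u', hu', rfl⟩ := S.exists_canon hc hn hr
  obtain ⟨u, hu, a, ha, rfl⟩ := S.mem_B_iff.1 hb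
  refine ⟨u, hu, a * n, mul_mem (S.H_le_N ha) hn, u', S.Um_le_U _ hu', by group, fun h hh => ?_⟩
  have h1 := hA h hh
  obtain ⟨z, hz, e⟩ : ∃ z ∈ S.Z, u * a * n * u' * h * (u * a * n * u')⁻¹ * h⁻¹ = z := ⟨_, H h hh, rfl⟩
  have hc := (S.mem_Z_iff.1 hz).2
  have h2 : h * u * h⁻¹ ∈ S.U := (Subgroup.mem_normalizer_iff.1 (S.H_le_normalizer _ h1) _).1 hu
  have h3 : z * h * a * (n * h⁻¹ * n⁻¹) ∈ S.H :=
    mul_mem (mul_mem (mul_mem hz.1 h1) ha) (S.conj_mem_H hn (inv_mem h1))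
  obtain ⟨e1, e2⟩ := S.canon_unique hr (mul_mem (S.U_le_B h2) (S.H_le_B h3)) hb
    ((Subgroup.mem_normalizer_iff.1 (S.H_le_normalizer _ h1) _).1 hu') hu' (by
      have : u * a * n * u' = z * h * (u * a * n * u') * h⁻¹ := by rw [← e]; group
      rw [this, ← mul_assoc, ← mul_assoc, ← mul_assoc, ← mul_assoc, ← mul_assoc, ← mul_assoc, ← mul_assoc,
        ← mul_assoc, ← hc _ (S.U_le_Gr h2)]
      group)
  have e3 : u⁻¹ * (h * u * h⁻¹) = a * (z * h * a * (n * h⁻¹ * n⁻¹))⁻¹ := by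
    rw [inv_mul_eq_iff_eq_mul, ← mul_assoc, ← e1, mul_inv_cancel_right]
  have e4 := S.eq_one_of_mem_U_H (mul_mem (inv_mem hu) h2) (e3 ▸ mul_mem ha (inv_mem h3))
  rw [e4, eq_comm, mul_inv_eq_one] at e3
  refine ⟨(inv_mul_eq_one.1 e4).symm, e2, ?_⟩
  rw [show a * n * h * (a * n)⁻¹ * h⁻¹ = a * (n * h * n⁻¹) * a⁻¹ * h⁻¹ by group]
  nth_rw 1 [e3]
  convert hz using 1
  group

theorem supp_of_fixed {h : G} {c : Φ → kˣ} (hc : S.Acts h 1 c) {t : Φ → k}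
    (e : h * S.prod R.pl t * h⁻¹ = S.prod R.pl t) {r : Φ} (hr : R.Pos r) (ht : t r ≠ 0) : c r = 1 := by
  rw [hc.conj_prod', Equiv.Perm.coe_one, List.map_id] at e
  exact Units.ext (mul_right_cancel₀ ht ((S.pl_inj e hr).trans (one_mul _).symm))

theorem chi_of_conj {h n : G} {c : Φ → kˣ} (hc : S.Acts h 1 c) {w : Equiv.Perm Φ} (hn : S.Rep n w)
    (e : n * h * n⁻¹ * h⁻¹ ∈ S.Z) (r : Φ) : c (w r) = c r := by
  obtain ⟨-, a, -, ha⟩ := hn
  have h1 := ((ha.mul hc).mul ha.inv).mul hc.inv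
  simp only [mul_one, mul_inv_cancel, inv_one] at h1
  have := congrFun (S.acts_unique h1 e.2) (w r)
  simp only [Equiv.Perm.coe_one, id, Equiv.Perm.coe_inv, Equiv.symm_apply_apply, Pi.one_apply] at this
  rw [mul_inv_eq_one, mul_comm (a r), mul_inv_cancel_right] at this
  exact this.symm

end St

namespace Mdl
variable {S : St R k G} {Γ : Type*} [Group Γ] (M : Mdl S Γ)

/-- parameters of the torus of type `w` -/
def T (w : Equiv.Perm Φ) : Subgroup (ι → kˣ) := M.d.act.eqLocus (RS.mx fun j i => R.co (w (R.sim i)) j)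

theorem torus {w : Equiv.Perm Φ} (hw : w ∈ R.W) : ∃ μ : M.T w →* Γ, (∀ c, μ c = 1 ↔ R.theta k c = 1) ∧
    Nat.card μ.range * Nat.card M.φ.ker = Nat.card (M.T w) ∧
    ((∀ r, ∃ c ∈ M.T w, RS.chi (R.theta k c) (R.rt r) ≠ 1) →
      (∀ v ∈ R.W, (∀ c ∈ M.T w, ∀ r, RS.chi (R.theta k c) (R.rt (v r)) = RS.chi (R.theta k c) (R.rt r)) → v = 1) →
      Subgroup.centralizer (μ.range : Set Γ) = μ.range) := by
  obtain ⟨h3, hi⟩ := M.sc
  obtain ⟨n, hn, hr⟩ := S.exists_N_rep hw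
  obtain ⟨g, hg⟩ := M.lang n⁻¹
  have h1 : ∀ c, M.σ (g * S.hh h3 c * g⁻¹) = g * S.hh h3 c * g⁻¹ ↔ c ∈ M.T w := fun c => by
    rw [map_mul, map_mul, map_inv, inv_mul_eq_iff_eq_mul.1 hg, M.d.σ_hh h3 M.hσ]
    refine Iff.trans ?_ hi.eq_iff
    rw [← S.rep_conj_hh h3 hr]
    exact ⟨fun e => by
      rw [show S.hh h3 (M.d.act c) = n * (g⁻¹ * (g * n⁻¹ * S.hh h3 (M.d.act c) * (g * n⁻¹)⁻¹) * g) * n⁻¹ by group, e]
      group, fun e => by rw [e]; group⟩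
  let ν : M.T w →* M.σ.eqLocus (MonoidHom.id G) := (((MulAut.conj g).toMonoidHom.comp (S.hh h3)).domRestrict _).codRestrict _
    fun c => (h1 c).2 c.2
  have hν : ∀ c, (ν c : G) = g * S.hh h3 c * g⁻¹ := fun _ => rfl
  have hZ : ∀ z, g * z * g⁻¹ ∈ S.Z ↔ z ∈ S.Z := fun z => by
    rw [← S.center_eq M.top]; exact (Subgroup.mem_normalizer_iff.1 (Subgroup.le_normalizer_of_normal (K := ⊤) trivial) z).symm
  have h2 : ∀ y : M.σ.eqLocus (MonoidHom.id G), g⁻¹ * y * g ∈ S.H → ∃ c, ν c = y := fun y hy => by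
    obtain ⟨c, e⟩ : _ ∈ (S.hh h3).range := S.range_hh h3 ▸ hy
    have : g * S.hh h3 c * g⁻¹ = y := by rw [e]; group
    exact ⟨⟨c, (h1 c).1 (this ▸ y.2)⟩, Subtype.ext this⟩
  have h4 : ∀ c, M.φ.comp ν c = 1 ↔ R.theta k c = 1 := fun c => by
    rw [MonoidHom.comp_apply, M.ker, hν, hZ, S.hh_mem_Z]
  refine ⟨M.φ.comp ν, h4, ?_, fun H1 H2 => le_antisymm (fun y hy => ?_) ?_⟩
  · rw [← (M.φ.comp ν).ker.card_mul_index, Subgroup.index_ker, mul_comm]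
    congr 1
    refine (Nat.card_eq_of_bijective (fun c => ⟨ν c.1, c.2⟩) ⟨fun a b e => Subtype.ext (Subtype.ext (hi ?_)), fun y => ?_⟩).symm
    · simpa [hν] using congrArg (fun y => y.1.1) e
    · obtain ⟨c, e⟩ := h2 y ((hZ _).1 (by simpa [mul_assoc] using (M.ker _).1 y.2)).1
      exact ⟨⟨c, by rw [MonoidHom.mem_ker, MonoidHom.comp_apply, e]; exact y.2⟩, Subtype.ext e⟩
  · obtain ⟨y, rfl⟩ := M.surj y
    obtain ⟨u, hu, m, hm, u', hu', e, H⟩ := S.cent_canon (A := S.hh h3 '' M.T w) (g := g⁻¹ * y * g)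
      (by rintro _ ⟨c, -, rfl⟩; exact S.hh_mem h3 c) (M.top ▸ Subgroup.mem_top _) (by
        rintro _ ⟨c, hc, rfl⟩
        rw [← hZ]
        convert (M.ker (y * ν ⟨c, hc⟩ * y⁻¹ * (ν ⟨c, hc⟩)⁻¹)).1 (by
          have := hy _ ⟨⟨c, hc⟩, rfl⟩
          rw [MonoidHom.comp_apply] at this
          rw [map_mul, map_mul, map_mul, map_inv, map_inv, ← this]; simp) using 1
        simp only [Subgroup.coe_mul, Subgroup.coe_inv, hν]; group)
    have hU : ∀ u ∈ S.U, (∀ c ∈ M.T w, S.hh h3 c * u * (S.hh h3 c)⁻¹ = u) → u = 1 := fun u hu H => by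
      obtain ⟨t, rfl⟩ := S.exists_pl hu
      rw [S.prod_congr (t' := 0) fun r hr => ?_, prod_zero]
      obtain ⟨c, hc, h⟩ := H1 r
      exact by_contra fun ht => h (S.supp_of_fixed (S.hh_acts h3 c) (H c hc) ((R.mem_pl r).1 hr) ht)
    rw [hU u hu fun c hc => (H _ ⟨c, hc, rfl⟩).1, hU u' hu' fun c hc => (H _ ⟨c, hc, rfl⟩).2.1, one_mul, mul_one] at e
    obtain ⟨v, hv, hm'⟩ := S.exists_rep hm
    obtain rfl := H2 v hv fun c hc => S.chi_of_conj (S.hh_acts h3 c) hm' (H _ ⟨c, hc, rfl⟩).2.2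
    obtain ⟨c, rfl⟩ := h2 y (e ▸ S.mem_H_of_rep_one hm hm')
    exact ⟨c, rfl⟩
  · rintro _ ⟨c, rfl⟩ _ ⟨c', rfl⟩
    rw [← map_mul, ← map_mul, mul_comm]

end Mdl

theorem prod_zpow_eq_zpow_sum' {α : Type*} (s : Finset α) (f : α → ℤ) (t : kˣ) : ∏ a ∈ s, t ^ f a = t ^ ∑ a ∈ s, f a := by
  classical
  induction s using Finset.induction_on with
  | empty => simp
  | insert a s h ih => rw [sum_insert h, prod_insert h, zpow_add, ih]

theorem cyc_torus {T : Subgroup (ι → kˣ)} {M : ι → ι → ℤ} {q : ℕ} (hT : ∀ c, c ∈ T ↔ ∀ i, c i ^ q = RS.chi c (M i))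
    {l n : ℕ} {b : ℕ → ι → ℤ} {a : ι → ℕ → ℤ} {χ : ℕ → ℤ} (h1 : ∀ i < l, b (i + 1) = ∑ j, b i j • M j)
    (h2 : ∀ j, Pi.single j 1 = ∑ i ∈ range l, a j i • b i)
    (h3 : ∀ i < l, ∀ i' < l, ∑ j, b i j * a j i' = if i = i' then 1 else 0)
    (h4 : b l = ∑ i ∈ range l, (-χ i) • b i) (hn : (n : ℤ) = q ^ l + ∑ i ∈ range l, χ i * q ^ i) (hl : 0 < l) [NeZero n]
    {ζ : kˣ} (hζ : IsPrimitiveRoot ζ n) : ∃ c0, T = Subgroup.zpowers c0 ∧ orderOf c0 = n ∧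
      ∀ v, RS.chi c0 v = ζ ^ ∑ i ∈ range l, (∑ j, v j * a j i) * q ^ i := by
  have e1 : ∀ (t : kˣ) v, RS.chi (fun j => t ^ ∑ i ∈ range l, a j i * q ^ i) v =
      t ^ ∑ i ∈ range l, (∑ j, v j * a j i) * q ^ i := fun t v => by
    simp only [RS.chi, ← zpow_mul, prod_zpow_eq_zpow_sum', sum_mul]
    rw [sum_comm]
    exact congrArg _ (sum_congr rfl fun _ _ => sum_congr rfl fun _ _ => by ring)
  have e2 : ∀ i < l, ∑ i' ∈ range l, (∑ j, b i j * a j i') * (q : ℤ) ^ i' = q ^ i := fun i hi => by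
    rw [sum_congr rfl fun i' hi' => by rw [h3 i hi i' (mem_range.1 hi')]]
    simp [hi]
  have e3 : ∀ (c : ι → kˣ) (t : kˣ), (∀ i < l, RS.chi c (b i) = t ^ (q : ℤ) ^ i) →
      RS.chi c (b l) = t ^ ((q : ℤ) ^ l - n) := fun c t h => by
    rw [h4, RS.chi_sum, prod_congr rfl fun i hi => by rw [RS.chi_smul, h i (mem_range.1 hi), ← zpow_mul],
      prod_zpow_eq_zpow_sum', hn]
    simp [mul_comm]
  refine ⟨fun j => ζ ^ ∑ i ∈ range l, a j i * q ^ i, le_antisymm (fun c hc => ?_) (Subgroup.zpowers_le.2 ?_), ?_, e1 ζ⟩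
  · have h5 : ∀ i ≤ l, RS.chi c (b i) = RS.chi c (b 0) ^ (q : ℤ) ^ i := fun i hi => by
      induction i with
      | zero => simp
      | succ i ih =>
        rw [h1 i hi, RS.chi_sum, pow_succ, zpow_mul, ← ih (by omega), zpow_natCast, RS.chi, ← prod_pow]
        exact prod_congr rfl fun j _ => by rw [RS.chi_smul, ← (hT c).1 hc, ← zpow_natCast, ← zpow_natCast, zpow_comm]
    have h6 := (h5 l le_rfl).symm.trans (e3 c _ fun i hi => h5 i hi.le)
    rw [zpow_sub, eq_comm, mul_eq_left, inv_eq_one, zpow_natCast] at h6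
    obtain ⟨m, -, hm⟩ := hζ.eq_pow_of_mem_rootsOfUnity ((mem_rootsOfUnity _ _).2 h6)
    refine ⟨m, funext fun j => ?_⟩
    rw [← RS.chi_single c j, h2, RS.chi_sum, prod_congr rfl fun i hi => by
      rw [RS.chi_smul, h5 i (mem_range.1 hi).le, ← zpow_mul], prod_zpow_eq_zpow_sum', ← hm, ← zpow_natCast]
    simp only [Pi.pow_apply, ← zpow_mul, mul_comm]
  · refine (hT _).2 fun j => ?_
    have h5 : ∀ i ≤ l, RS.chi (fun j => ζ ^ ∑ i ∈ range l, a j i * q ^ i) (b i) = ζ ^ (q : ℤ) ^ i := fun i hi => by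
      rcases hi.lt_or_eq with hi | rfl
      · rw [e1, e2 i hi]
      · rw [e3 _ ζ fun i hi => by rw [e1, e2 i hi], zpow_sub, zpow_natCast, hζ.pow_eq_one, inv_one, mul_one]
    have h6 : M j = ∑ i ∈ range l, a j i • b (i + 1) := by
      rw [sum_congr rfl fun i hi => by rw [h1 i (mem_range.1 hi), smul_sum], sum_comm]
      simp only [smul_smul, ← sum_smul]
      rw [sum_congr rfl fun j' _ => by
        rw [show ∑ i ∈ range l, a j i * b i j' = (Pi.single j 1 : ι → ℤ) j' by rw [h2]; simp]]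
      simp [Pi.single_apply]
    rw [h6, RS.chi_sum, prod_congr rfl fun i hi => by rw [RS.chi_smul, h5 _ (mem_range.1 hi), ← zpow_mul],
      prod_zpow_eq_zpow_sum', ← zpow_natCast, ← zpow_mul, sum_mul]
    exact congrArg _ (sum_congr rfl fun _ _ => by rw [Nat.succ_eq_add_one]; ring)
  · refine (orderOf_eq_orderOf_iff.2 fun m => ⟨fun h => ?_, fun h => funext fun j => ?_⟩).trans hζ.eq_orderOf.symm
    · have := congrArg (RS.chi · (b 0)) h
      simp only [RS.chi_one] at this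
      rwa [show (fun j => ζ ^ ∑ i ∈ range l, a j i * q ^ i) ^ m = fun j => (ζ ^ m) ^ ∑ i ∈ range l, a j i * q ^ i from
        funext fun j => by rw [Pi.pow_apply, ← zpow_natCast, ← zpow_natCast, zpow_comm], e1, e2 0 hl, pow_zero,
        zpow_one] at this
    · rw [Pi.pow_apply, ← zpow_natCast, zpow_comm, zpow_natCast, h, one_zpow, Pi.one_apply]

end H24
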